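/-
Maps between Kronecker products intertwining absolutely irreducible families of matrices factorise.
-/
import Cfsg.Prelude.Def_GeometricClasses

set_option autoImplicit false

namespace CfsgLib.Classical22.Asch

open Matrix Cfsg.Geo
open scoped Kronecker

variable {F : Type*} [Field F] {I I' J J' : Type} [Fintype I] [DecidableEq I] [Fintype I'] [DecidableEq I']
  {N : Type*} {ρ : N → Matrix I I F} {ρ' : N → Matrix I' I' F}

/-- The block `(α, β)` of a matrix between product index sets. -/
def block (g : Matrix (I' × J') (I × J) F) (α : J') (β : J) : Matrix I' I F :=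
  Matrix.of fun i j => g (i, α) (j, β)

lemma block_intertwines [Fintype J] [DecidableEq J] [Fintype J'] [DecidableEq J'] {g : Matrix (I' × J') (I × J) F}
    (hg : ∀ x, g * (ρ x ⊗ₖ (1 : Matrix J J F)) = (ρ' x ⊗ₖ (1 : Matrix J' J' F)) * g) (α : J') (β : J) (x : N) :
    block g α β * ρ x = ρ' x * block g α β := by
  ext i j
  have h := congrFun (congrFun (hg x) (i, α)) (j, β)
  simp only [Matrix.mul_apply, Fintype.sum_prod_type, kronecker_apply, Matrix.one_apply, mul_ite, mul_one, mul_zero,
    ite_mul, zero_mul, Finset.sum_ite_eq, Finset.sum_ite_eq', Finset.mem_univ, if_true] at h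
  simpa [block, Matrix.mul_apply] using h

/-- A non-zero intertwiner out of an irreducible family is injective. -/
lemma intertwiner_injective (hρ : ActsIrreducibly (Set.range ρ)) {B : Matrix I' I F}
    (hB : ∀ x, B * ρ x = ρ' x * B) (hB0 : B ≠ 0) : Function.Injective B.mulVec := by
  have hker : LinearMap.ker (Matrix.toLin' B) = ⊥ := by
    refine (hρ (LinearMap.ker (Matrix.toLin' B)) ?_).resolve_right fun htop => hB0 ?_
    · rintro _ ⟨x, rfl⟩ _ ⟨v, hv, rfl⟩
      simp only [SetLike.mem_coe, LinearMap.mem_ker, Matrix.toLin'_apply] at hv ⊢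
      rw [Matrix.mulVec_mulVec, hB, ← Matrix.mulVec_mulVec, hv, Matrix.mulVec_zero]
    · exact Matrix.toLin'.injective (by rw [LinearMap.ker_eq_top.mp htop, map_zero])
  intro u v huv
  exact LinearMap.ker_eq_bot.mp hker (by simpa [Matrix.toLin'_apply] using huv)

omit [DecidableEq I'] in
lemma card_le_of_injective {B : Matrix I' I F} (hB : Function.Injective B.mulVec) :
    Fintype.card I ≤ Fintype.card I' := by
  have := LinearMap.finrank_le_finrank_of_injective (f := B.mulVecLin) hB
  simpa using this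

/-- An intertwiner between Kronecker products with the identity yields one between the factors. -/
lemma exists_block [Fintype J] [DecidableEq J] [Fintype J'] [DecidableEq J'] {g : Matrix (I' × J') (I × J) F}
    (hg : ∀ x, g * (ρ x ⊗ₖ (1 : Matrix J J F)) = (ρ' x ⊗ₖ (1 : Matrix J' J' F)) * g) (hg0 : g ≠ 0) :
    ∃ B : Matrix I' I F, B ≠ 0 ∧ ∀ x, B * ρ x = ρ' x * B := by
  obtain ⟨⟨i, α⟩, hrow⟩ := Function.ne_iff.mp hg0
  obtain ⟨⟨j, β⟩, hentry⟩ := Function.ne_iff.mp hrow
  exact ⟨block g α β, fun h => hentry (by simpa [block] using congrFun (congrFun h i) j),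
    block_intertwines hg α β⟩

variable {σ : N → Matrix I I F}

/-- Intertwiners out of an absolutely irreducible family are unique up to a scalar. -/
lemma intertwiner_unique (hρ : ActsAbsolutelyIrreducibly (Set.range ρ)) {G : GL I F} {B : Matrix I I F}
    (hG : ∀ x, (G : Matrix I I F) * ρ x = σ x * (G : Matrix I I F)) (hB : ∀ x, B * ρ x = σ x * B) :
    ∃ c : F, B = c • (G : Matrix I I F) := by
  obtain ⟨c, hc⟩ := hρ.2 (((G⁻¹ : GL I F) : Matrix I I F) * B) (by
    rintro _ ⟨x, rfl⟩
    have h1 : ((G⁻¹ : GL I F) : Matrix I I F) * σ x = ρ x * ((G⁻¹ : GL I F) : Matrix I I F) := by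
      have h2 := congrArg (fun M => ((G⁻¹ : GL I F) : Matrix I I F) * M * ((G⁻¹ : GL I F) : Matrix I I F)) (hG x)
      simp only [Matrix.mul_assoc, Units.mul_inv, Matrix.mul_one] at h2
      rw [← Matrix.mul_assoc, Units.inv_mul, Matrix.one_mul] at h2
      exact h2.symm
    rw [Matrix.mul_assoc, hB, ← Matrix.mul_assoc, h1, Matrix.mul_assoc])
  refine ⟨c, ?_⟩
  have := congrArg (fun M => (G : Matrix I I F) * M) hc
  rwa [← Matrix.mul_assoc, Units.mul_inv, Matrix.one_mul, Matrix.mul_smul, Matrix.mul_one] at this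

/-- An invertible matrix as a member of the general linear group, from injectivity. -/
lemma exists_gl_of_injective {B : Matrix I I F} (hB : Function.Injective B.mulVec) :
    ∃ G : GL I F, (G : Matrix I I F) = B :=
  ⟨(Matrix.mulVec_injective_iff_isUnit.mp hB).unit, rfl⟩

/-- A matrix intertwining `ρ ⊗ 1` with `σ ⊗ 1`, for absolutely irreducible `ρ`, is a Kronecker product. -/
theorem exists_kronecker [Fintype J] [DecidableEq J] [Fintype J'] [DecidableEq J']
    (hρ : ActsAbsolutelyIrreducibly (Set.range ρ)) {g : Matrix (I × J') (I × J) F}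
    (hg : ∀ x, g * (ρ x ⊗ₖ (1 : Matrix J J F)) = (σ x ⊗ₖ (1 : Matrix J' J' F)) * g) (hg0 : g ≠ 0) :
    ∃ (G : GL I F) (H : Matrix J' J F), H ≠ 0 ∧ g = (G : Matrix I I F) ⊗ₖ H ∧
      ∀ x, (G : Matrix I I F) * ρ x = σ x * (G : Matrix I I F) := by
  obtain ⟨B, hB0, hB⟩ := exists_block hg hg0
  obtain ⟨G, hG⟩ := exists_gl_of_injective (intertwiner_injective hρ.1 hB hB0)
  rw [← hG] at hB
  choose c hc using fun α β => intertwiner_unique hρ hB (block_intertwines hg α β)
  have key : g = (G : Matrix I I F) ⊗ₖ (Matrix.of c) := by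
    ext ⟨i, α⟩ ⟨j, β⟩
    have := congrFun (congrFun (hc α β) i) j
    simp only [block, Matrix.of_apply, Matrix.smul_apply, smul_eq_mul] at this
    rw [kronecker_apply, Matrix.of_apply, this, mul_comm]
  exact ⟨G, Matrix.of c, fun h => hg0 (by rw [key, h, Matrix.kronecker_zero]), key, hB⟩

/-- A matrix commuting with `ρ ⊗ 1`, for absolutely irreducible `ρ`, acts on the second factor only. -/
theorem exists_one_kronecker [Fintype J] [DecidableEq J] (hρ : ActsAbsolutelyIrreducibly (Set.range ρ))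
    {g : Matrix (I × J) (I × J) F}
    (hg : ∀ x, g * (ρ x ⊗ₖ (1 : Matrix J J F)) = (ρ x ⊗ₖ (1 : Matrix J J F)) * g) :
    ∃ H : Matrix J J F, g = (1 : Matrix I I F) ⊗ₖ H := by
  by_cases hg0 : g = 0
  · exact ⟨0, by rw [hg0, Matrix.kronecker_zero]⟩
  obtain ⟨G, H, -, hgH, hG⟩ := exists_kronecker hρ hg hg0
  obtain ⟨c, hc⟩ := hρ.2 (G : Matrix I I F) (by rintro _ ⟨x, rfl⟩; exact hG x)
  exact ⟨c • H, by rw [hgH, hc, Matrix.smul_kronecker, Matrix.kronecker_smul]⟩

end CfsgLib.Classical22.Asch
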