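/-
Matrices in coordinates given by a change of basis and a bijection of index sets.
-/
import Cfsg.Agent.Lib.Classical22.Asch.Intertwine
import Cfsg.Agent.Lib.Classical22.TensorMonomialProd

set_option autoImplicit false

namespace CfsgLib.Classical22.Asch

open Matrix Cfsg.Geo CfsgLib.Classical22.TensorMono
open scoped Kronecker MatrixGroups

variable {F : Type*} [Field F] {ι κ : Type} [Fintype ι] [DecidableEq ι] [Fintype κ] [DecidableEq κ]

/-- The matrix of `g` in the coordinates `(e, P)`. -/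
def toCoord (e : ι ≃ κ) (P : GL ι F) (g : Matrix ι ι F) : Matrix κ κ F :=
  (((P⁻¹ : GL ι F) : Matrix ι ι F) * g * (P : Matrix ι ι F)).submatrix e.symm e.symm

lemma toCoord_mul (e : ι ≃ κ) (P : GL ι F) (g h : Matrix ι ι F) :
    toCoord e P (g * h) = toCoord e P g * toCoord e P h := by
  rw [toCoord, toCoord, toCoord, Matrix.submatrix_mul_equiv]
  congr 1
  simp only [Matrix.mul_assoc]
  rw [← Matrix.mul_assoc (P : Matrix ι ι F), Units.mul_inv, Matrix.one_mul]

lemma toCoord_one (e : ι ≃ κ) (P : GL ι F) : toCoord e P 1 = 1 := by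
  rw [toCoord, Matrix.mul_one, Units.inv_mul, Matrix.submatrix_one_equiv]

lemma toCoord_eq_iff {e : ι ≃ κ} {P : GL ι F} {g : Matrix ι ι F} {M : Matrix κ κ F} :
    toCoord e P g = M ↔ g * (P : Matrix ι ι F) = (P : Matrix ι ι F) * M.submatrix e e := by
  constructor
  · rintro rfl
    rw [toCoord, Matrix.submatrix_submatrix, Equiv.symm_comp_self, Matrix.submatrix_id_id, ← Matrix.mul_assoc,
      ← Matrix.mul_assoc, Units.mul_inv, Matrix.one_mul]
  · intro h
    rw [toCoord, Matrix.mul_assoc, h, ← Matrix.mul_assoc, Units.inv_mul, Matrix.one_mul, Matrix.submatrix_submatrix,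
      Equiv.self_comp_symm, Matrix.submatrix_id_id]

lemma toCoord_injective (e : ι ≃ κ) (P : GL ι F) : Function.Injective (toCoord e P) := fun g h hgh => by
  have h1 := (toCoord_eq_iff (e := e) (P := P) (g := g)).mp hgh
  rw [← (toCoord_eq_iff (e := e) (P := P) (g := h)).mp rfl] at h1
  have := congrArg (fun M => M * ((P⁻¹ : GL ι F) : Matrix ι ι F)) h1
  simpa [Matrix.mul_assoc] using this

lemma toCoord_ne_zero (e : ι ≃ κ) (P : GL ι F) (g : GL ι F) [Nonempty ι] :
    toCoord e P (g : Matrix ι ι F) ≠ 0 := fun h => by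
  have h0 : toCoord e P (0 : Matrix ι ι F) = 0 := by simp [toCoord]
  exact g.ne_zero (toCoord_injective e P (h.trans h0.symm))

/-- An element whose matrix in coordinates is `z` lies in the transported group. -/
lemma mem_of_toCoord {K : Subgroup (GL κ F)} {e : ι ≃ κ} {P g : GL ι F} {z : GL κ F} (hz : z ∈ K)
    (h : toCoord e P (g : Matrix ι ι F) = (z : Matrix κ κ F)) :
    g ∈ (K.map (glReindex e.symm).toMonoidHom).map (MulAut.conj P).toMonoidHom := by
  refine ⟨_, ⟨z, hz, rfl⟩, Units.ext ?_⟩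
  change (P : Matrix ι ι F) * Matrix.reindexAlgEquiv F F e.symm (z : Matrix κ κ F) * ((P⁻¹ : GL ι F) : Matrix ι ι F) = _
  rw [Matrix.reindexAlgEquiv_apply, Matrix.reindex_apply, Equiv.symm_symm, ← toCoord_eq_iff.mp h, Matrix.mul_assoc,
    Units.mul_inv, Matrix.mul_one]

/-! ### Tensor powers -/

variable {m t : ℕ}

/-- The invertible matrix of a pure tensor. -/
lemma exists_gl_wr (π : Equiv.Perm (Fin t)) (A : Fin t → GL (Fin m) F) :
    ∃ z ∈ tensorWreathStandard m t F,
      (z : Matrix (Fin t → Fin m) (Fin t → Fin m) F) = wr π fun i => (A i : Matrix (Fin m) (Fin m) F) := by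
  have hpure : wr (1 : Equiv.Perm (Fin t)) (fun i => (A i : Matrix (Fin m) (Fin m) F)) *
      wr (1 : Equiv.Perm (Fin t)) (fun i => (((A i)⁻¹ : GL (Fin m) F) : Matrix (Fin m) (Fin m) F)) = 1 := by
    rw [wr_one_mul, ← wr_one]; congr 1; funext i; rw [Units.mul_inv]
  have hpure' : wr (1 : Equiv.Perm (Fin t)) (fun i => (((A i)⁻¹ : GL (Fin m) F) : Matrix (Fin m) (Fin m) F)) *
      wr (1 : Equiv.Perm (Fin t)) (fun i => (A i : Matrix (Fin m) (Fin m) F)) = 1 := by
    rw [wr_one_mul, ← wr_one]; congr 1; funext i; rw [Units.inv_mul]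
  have hperm : wr π (fun _ => (1 : Matrix (Fin m) (Fin m) F)) * wr π.symm (fun _ => (1 : Matrix (Fin m) (Fin m) F)) = 1 := by
    rw [wr_mul, Equiv.self_trans_symm, ← wr_one]; congr 1; funext i; rw [Matrix.one_mul]
  have hperm' : wr π.symm (fun _ => (1 : Matrix (Fin m) (Fin m) F)) * wr π (fun _ => (1 : Matrix (Fin m) (Fin m) F)) = 1 := by
    rw [wr_mul, Equiv.symm_trans_self, ← wr_one]; congr 1; funext i; rw [Matrix.one_mul]
  refine ⟨⟨_, _, hpure, hpure'⟩ * ⟨_, _, hperm, hperm'⟩, mul_mem (Subgroup.subset_closure (Or.inl ⟨A, fun x y => rfl⟩))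
    (Subgroup.subset_closure (Or.inr ⟨π.symm, fun x y => ?_⟩)), ?_⟩
  · change wr π (fun _ => (1 : Matrix (Fin m) (Fin m) F)) x y = _
    rw [wr_apply]
    simp only [one_apply, Finset.prod_boole, Finset.mem_univ, true_implies]
    refine if_congr ⟨fun hh => funext fun i => ?_, fun hb i => by rw [hb]; simp⟩ rfl rfl
    have := hh (π.symm i)
    rw [Equiv.apply_symm_apply] at this
    exact this.symm
  · change wr (1 : Equiv.Perm (Fin t)) (fun i => (A i : Matrix (Fin m) (Fin m) F)) *
      wr π (fun _ => (1 : Matrix (Fin m) (Fin m) F)) = _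
    rw [wr_one_mul]; congr 1; funext i; rw [Matrix.mul_one]

/-- The splitting of the index set at one factor. -/
lemma inj_eq_split (i : Fin t) (X : Matrix (Fin m) (Fin m) F) :
    inj i X = (X ⊗ₖ (1 : Matrix ({j // j ≠ i} → Fin m) ({j // j ≠ i} → Fin m) F)).submatrix
      (Equiv.funSplitAt i (Fin m)) (Equiv.funSplitAt i (Fin m)) := by
  ext x y
  rw [inj_apply, wr_update_apply, Matrix.submatrix_apply, Equiv.funSplitAt_apply, Equiv.funSplitAt_apply,
    kronecker_apply]
  congr 1
  by_cases h : (fun j : {j // j ≠ i} => x j) = fun j : {j // j ≠ i} => y j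
  · rw [h, Matrix.one_apply_eq]
    exact Finset.prod_eq_one fun j hj => by
      rw [Equiv.Perm.one_apply, congrFun h ⟨j, Finset.ne_of_mem_erase hj⟩, Matrix.one_apply_eq]
  · obtain ⟨j, hj⟩ := Function.ne_iff.mp h
    rw [Matrix.one_apply_ne h]
    exact Finset.prod_eq_zero (Finset.mem_erase.mpr ⟨j.2, Finset.mem_univ _⟩) (Matrix.one_apply_ne hj)

/-- A matrix commuting with absolutely irreducible families in every factor is a scalar. -/
theorem scalar_of_commute_inj {N : Fin t → Type*} {ρ : ∀ i, N i → Matrix (Fin m) (Fin m) F}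
    (hρ : ∀ i, ActsAbsolutelyIrreducibly (Set.range (ρ i))) [Nonempty (Fin t → Fin m)]
    {M : Matrix (Fin t → Fin m) (Fin t → Fin m) F} (hM : ∀ i x, M * inj i (ρ i x) = inj i (ρ i x) * M) :
    ∃ c : F, M = c • 1 := by
  classical
  have hloc : ∀ i, ∃ H : Matrix ({j // j ≠ i} → Fin m) ({j // j ≠ i} → Fin m) F, ∀ x y,
      M x y = (if x i = y i then 1 else 0) * H (fun j => x j) (fun j => y j) := by
    intro i
    obtain ⟨H, hH⟩ := exists_one_kronecker (hρ i)
      (g := M.submatrix (Equiv.funSplitAt i (Fin m)).symm (Equiv.funSplitAt i (Fin m)).symm) fun x => by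
        have h1 := congrArg (fun K : Matrix _ _ F =>
          K.submatrix (Equiv.funSplitAt i (Fin m)).symm (Equiv.funSplitAt i (Fin m)).symm) (hM i x)
        rw [inj_eq_split] at h1
        rw [← Matrix.submatrix_mul_equiv _ _ _ (Equiv.funSplitAt i (Fin m)).symm,
          ← Matrix.submatrix_mul_equiv _ _ _ (Equiv.funSplitAt i (Fin m)).symm, Matrix.submatrix_submatrix,
          Equiv.self_comp_symm, Matrix.submatrix_id_id] at h1
        exact h1
    refine ⟨H, fun x y => ?_⟩
    have h2 := congrFun (congrFun hH (Equiv.funSplitAt i (Fin m) x)) (Equiv.funSplitAt i (Fin m) y)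
    rw [Matrix.submatrix_apply, Equiv.symm_apply_apply, Equiv.symm_apply_apply, kronecker_apply,
      Equiv.funSplitAt_apply, Equiv.funSplitAt_apply] at h2
    rw [h2, one_apply]
  choose H hH using hloc
  have hoff : ∀ x y, x ≠ y → M x y = 0 := fun x y hxy => by
    obtain ⟨i, hi⟩ := Function.ne_iff.mp hxy
    rw [hH i, if_neg hi, zero_mul]
  have hupd : ∀ x i a, M (Function.update x i a) (Function.update x i a) = M x x := fun x i a => by
    rw [hH i, hH i x x, if_pos rfl, if_pos rfl]
    congr 2 <;> exact funext fun j => Function.update_of_ne j.2 _ _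
  obtain ⟨x₀⟩ := ‹Nonempty (Fin t → Fin m)›
  have hdiag : ∀ (s : Finset (Fin t)) x, (∀ i, i ∉ s → x i = x₀ i) → M x x = M x₀ x₀ := by
    intro s
    induction s using Finset.induction_on with
    | empty => exact fun x hx => by rw [show x = x₀ from funext fun i => hx i (Finset.notMem_empty i)]
    | insert i s _ ih =>
      intro x hx
      rw [← hupd x i (x₀ i)]
      refine ih _ fun j hj => ?_
      by_cases hji : j = i
      · subst hji; rw [Function.update_self]
      · rw [Function.update_of_ne hji]; exact hx j (by simp [hji, hj])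
  refine ⟨M x₀ x₀, Matrix.ext fun x y => ?_⟩
  rw [Matrix.smul_apply, one_apply, smul_eq_mul]
  by_cases hxy : x = y
  · subst hxy; rw [if_pos rfl, mul_one, hdiag Finset.univ x fun i hi => absurd (Finset.mem_univ i) hi]
  · rw [if_neg hxy, mul_zero, hoff x y hxy]

/-- A non-zero matrix intertwining absolutely irreducible families in every factor is a pure tensor. -/
theorem exists_pure {N : Fin t → Type*} {ρ σ : ∀ i, N i → Matrix (Fin m) (Fin m) F}
    (hρ : ∀ i, ActsAbsolutelyIrreducibly (Set.range (ρ i))) [Nonempty (Fin t → Fin m)]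
    {g : Matrix (Fin t → Fin m) (Fin t → Fin m) F} (hg : ∀ i x, g * inj i (ρ i x) = inj i (σ i x) * g) (hg0 : g ≠ 0) :
    ∃ (c : F) (G : Fin t → GL (Fin m) F), c ≠ 0 ∧ g = c • wr 1 (fun i => (G i : Matrix (Fin m) (Fin m) F)) ∧
      ∀ i x, (G i : Matrix (Fin m) (Fin m) F) * ρ i x = σ i x * (G i : Matrix (Fin m) (Fin m) F) := by
  classical
  have hloc : ∀ i, ∃ G : GL (Fin m) F, ∀ x, (G : Matrix (Fin m) (Fin m) F) * ρ i x = σ i x * (G : Matrix (Fin m) (Fin m) F) := by
    intro i
    obtain ⟨G, -, -, -, hG⟩ := exists_kronecker (hρ i) (σ := σ i)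
      (g := g.submatrix (Equiv.funSplitAt i (Fin m)).symm (Equiv.funSplitAt i (Fin m)).symm) (fun x => by
        have h1 := congrArg (fun K : Matrix _ _ F =>
          K.submatrix (Equiv.funSplitAt i (Fin m)).symm (Equiv.funSplitAt i (Fin m)).symm) (hg i x)
        rw [inj_eq_split, inj_eq_split] at h1
        rw [← Matrix.submatrix_mul_equiv _ _ _ (Equiv.funSplitAt i (Fin m)).symm,
          ← Matrix.submatrix_mul_equiv _ _ _ (Equiv.funSplitAt i (Fin m)).symm, Matrix.submatrix_submatrix,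
          Matrix.submatrix_submatrix, Equiv.self_comp_symm, Matrix.submatrix_id_id, Matrix.submatrix_id_id] at h1
        exact h1) (fun h => hg0 (by
        have := congrArg (fun K : Matrix _ _ F =>
          K.submatrix (Equiv.funSplitAt i (Fin m)) (Equiv.funSplitAt i (Fin m))) h
        simpa using this))
    exact ⟨G, hG⟩
  choose G hG using hloc
  obtain ⟨z, -, hz⟩ := exists_gl_wr (1 : Equiv.Perm (Fin t)) G
  obtain ⟨c, hc⟩ := scalar_of_commute_inj hρ
    (M := ((z⁻¹ : GL (Fin t → Fin m) F) : Matrix (Fin t → Fin m) (Fin t → Fin m) F) * g) fun i x => by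
      have hzi : (z : Matrix (Fin t → Fin m) (Fin t → Fin m) F) * inj i (ρ i x) = inj i (σ i x) * (z : Matrix (Fin t → Fin m) (Fin t → Fin m) F) := by
        rw [hz, inj_apply, inj_apply, wr_one_mul, wr_one_mul]
        congr 1
        funext j
        by_cases hj : j = i
        · subst hj; rw [Function.update_self, Function.update_self, hG]
        · rw [Function.update_of_ne hj, Function.update_of_ne hj, Matrix.mul_one, Matrix.one_mul]
      have hzi' : ((z⁻¹ : GL (Fin t → Fin m) F) : Matrix (Fin t → Fin m) (Fin t → Fin m) F) * inj i (σ i x) =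
          inj i (ρ i x) * ((z⁻¹ : GL (Fin t → Fin m) F) : Matrix (Fin t → Fin m) (Fin t → Fin m) F) := by
        calc ((z⁻¹ : GL (Fin t → Fin m) F) : Matrix (Fin t → Fin m) (Fin t → Fin m) F) * inj i (σ i x)
            = ((z⁻¹ : GL (Fin t → Fin m) F) : Matrix (Fin t → Fin m) (Fin t → Fin m) F) *
              (inj i (σ i x) * (z : Matrix (Fin t → Fin m) (Fin t → Fin m) F)) *
              ((z⁻¹ : GL (Fin t → Fin m) F) : Matrix (Fin t → Fin m) (Fin t → Fin m) F) := by
              simp [Matrix.mul_assoc]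
          _ = _ := by rw [← hzi, ← Matrix.mul_assoc _ (z : Matrix (Fin t → Fin m) (Fin t → Fin m) F), Units.inv_mul, Matrix.one_mul]
      rw [Matrix.mul_assoc, hg, ← Matrix.mul_assoc, hzi', Matrix.mul_assoc]
  have hgz : g = c • (z : Matrix (Fin t → Fin m) (Fin t → Fin m) F) := by
    have := congrArg (fun K => (z : Matrix (Fin t → Fin m) (Fin t → Fin m) F) * K) hc
    rwa [← Matrix.mul_assoc, Units.mul_inv, Matrix.one_mul, Matrix.mul_smul, Matrix.mul_one] at this
  exact ⟨c, G, fun h => hg0 (by rw [hgz, h, zero_smul]), by rw [hgz, hz], hG⟩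

/-- Normalisers of the factors lie in the tensor wreath stabiliser. -/
theorem mem_tensorWreath {N : Fin t → Type*} {ρ : ∀ i, N i → Matrix (Fin m) (Fin m) F}
    (hρ : ∀ i, ActsAbsolutelyIrreducibly (Set.range (ρ i))) [Nonempty (Fin t → Fin m)] (ht : 0 < t)
    {e : ι ≃ (Fin t → Fin m)} {P g : GL ι F} {π : Equiv.Perm (Fin t)}
    (hg : ∀ i x, ∃ y, toCoord e P (g : Matrix ι ι F) * inj i (ρ i x) =
      inj (π i) (ρ (π i) y) * toCoord e P (g : Matrix ι ι F)) :
    g ∈ tensorWreathSubgroup m t e P := by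
  classical
  haveI : Nonempty ι := e.nonempty
  choose y hy using hg
  obtain ⟨T, hT, hTv⟩ := exists_gl_wr π (fun _ => (1 : GL (Fin m) F))
  simp only [Units.val_one] at hTv
  have hTinj : ∀ i X, (T : Matrix (Fin t → Fin m) (Fin t → Fin m) F) * inj (π i) X =
      inj i X * (T : Matrix (Fin t → Fin m) (Fin t → Fin m) F) := fun i X => by
    have := wr_conj π (fun _ => (1 : GL (Fin m) F)) (π i) X
    simp only [Units.val_one, inv_one, Matrix.one_mul, Matrix.mul_one, Equiv.symm_apply_apply] at this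
    rw [hTv, this]
  obtain ⟨c, G, hc, hG, -⟩ := exists_pure (σ := fun i x => ρ (π i) (y i x)) hρ
    (g := (T : Matrix (Fin t → Fin m) (Fin t → Fin m) F) * toCoord e P (g : Matrix ι ι F))
    (fun i x => by rw [Matrix.mul_assoc, hy, ← Matrix.mul_assoc, hTinj, Matrix.mul_assoc])
    (fun h => toCoord_ne_zero e P g (by
      have := congrArg (fun K => ((T⁻¹ : GL (Fin t → Fin m) F) : Matrix (Fin t → Fin m) (Fin t → Fin m) F) * K) h
      rwa [← Matrix.mul_assoc, Units.inv_mul, Matrix.one_mul, Matrix.mul_zero] at this))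
  obtain ⟨s, hs⟩ : ∃ s : GL (Fin m) F, (s : Matrix (Fin m) (Fin m) F) = c • 1 :=
    ⟨⟨c • 1, c⁻¹ • 1, by rw [Matrix.smul_mul, Matrix.one_mul, smul_smul, mul_inv_cancel₀ hc, one_smul],
      by rw [Matrix.smul_mul, Matrix.one_mul, smul_smul, inv_mul_cancel₀ hc, one_smul]⟩, rfl⟩
  obtain ⟨G', hG'⟩ : ∃ G' : Fin t → GL (Fin m) F, G' = Function.update G ⟨0, ht⟩ (s * G ⟨0, ht⟩) := ⟨_, rfl⟩
  obtain ⟨S, hS, hSv⟩ := exists_gl_wr (1 : Equiv.Perm (Fin t)) G'
  have hval : (fun i => (G' i : Matrix (Fin m) (Fin m) F)) =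
      Function.update (fun i => (G i : Matrix (Fin m) (Fin m) F)) ⟨0, ht⟩ (c • (G ⟨0, ht⟩ : Matrix (Fin m) (Fin m) F)) := by
    funext i
    rw [hG']
    by_cases hi : i = ⟨0, ht⟩
    · subst hi; rw [Function.update_self, Function.update_self, Units.val_mul, hs, Matrix.smul_mul, Matrix.one_mul]
    · rw [Function.update_of_ne hi, Function.update_of_ne hi]
  refine mem_of_toCoord (z := T⁻¹ * S) (mul_mem (inv_mem hT) hS) ?_
  rw [Units.val_mul, hSv, hval, wr_update_smul, Function.update_eq_self, ← hG, ← Matrix.mul_assoc, Units.inv_mul,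
    Matrix.one_mul]

end CfsgLib.Classical22.Asch
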