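/-
Adapted coordinates for a family of matrices with one isotypic component.
-/
import Cfsg.Agent.Lib.Classical22.Asch.Intertwine

set_option autoImplicit false

namespace CfsgLib.Classical22.Asch

open Matrix Cfsg.Geo
open scoped Kronecker MatrixGroups

variable {F : Type*} [Field F] {ι I : Type} [Fintype ι] [DecidableEq ι] [Fintype I] [DecidableEq I]
  {N : Type*} {ρ : N → Matrix I I F} {ξ : N → Matrix ι ι F}

/-- An intertwiner into a representation. -/
def Into (ρ : N → Matrix I I F) (ξ : N → Matrix ι ι F) (B : Matrix ι I F) : Prop := ∀ x, ξ x * B = B * ρ x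

/-- The map of a family of `k` intertwiners out of the product. -/
def famMat {k : ℕ} (B : Fin k → Matrix ι I F) : Matrix ι (I × Fin k) F :=
  Matrix.of fun i p => B p.2 i p.1

omit [DecidableEq ι] [DecidableEq I] in
lemma famMat_mulVec {k : ℕ} (B : Fin k → Matrix ι I F) (v : I × Fin k → F) :
    famMat B *ᵥ v = ∑ a, B a *ᵥ fun i => v (i, a) := by
  funext i
  simp only [famMat, mulVec, dotProduct, Matrix.of_apply, Finset.sum_apply, Fintype.sum_prod_type]
  exact Finset.sum_comm

lemma famMat_intertwines {k : ℕ} {B : Fin k → Matrix ι I F} (hB : ∀ a, Into ρ ξ (B a)) (x : N) :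
    ξ x * famMat B = famMat B * (ρ x ⊗ₖ (1 : Matrix (Fin k) (Fin k) F)) := by
  ext i ⟨j, a⟩
  have h := congrFun (congrFun (hB a x) i) j
  simp only [Matrix.mul_apply] at h
  simp only [Matrix.mul_apply, famMat, Matrix.of_apply, Fintype.sum_prod_type, kronecker_apply, Matrix.one_apply,
    mul_ite, mul_one, mul_zero, Finset.sum_ite_eq', Finset.mem_univ, if_true]
  exact h

/-- Coordinates in which a family with one isotypic component is `ρ ⊗ 1`. -/
theorem exists_isotypic (hρ : ActsIrreducibly (Set.range ρ)) [Nonempty I]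
    (hspan : ∀ W : Submodule F (ι → F), (∀ B, Into ρ ξ B → ∀ w, B *ᵥ w ∈ W) → W = ⊤) :
    ∃ (k : ℕ) (e : ι ≃ I × Fin k) (P : GL ι F),
      ∀ x, ξ x * (P : Matrix ι ι F) = (P : Matrix ι ι F) * (ρ x ⊗ₖ (1 : Matrix (Fin k) (Fin k) F)).submatrix e e := by
  classical
  obtain ⟨good, hgood⟩ : ∃ good : ℕ → Prop, ∀ k, good k ↔
      ∃ B : Fin k → Matrix ι I F, (∀ a, Into ρ ξ (B a)) ∧ Function.Injective (famMat B).mulVec :=
    ⟨fun k => _, fun k => Iff.rfl⟩
  have h0 : good 0 := (hgood 0).mpr ⟨Fin.elim0, fun a => a.elim0, fun u v _ => funext fun p => p.2.elim0⟩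
  have hbound : ∀ k, good k → k ≤ Fintype.card ι := fun k hk => by
    obtain ⟨B, -, hB⟩ := (hgood k).mp hk
    have h1 := card_le_of_injective hB
    rw [Fintype.card_prod, Fintype.card_fin] at h1
    exact le_trans (Nat.le_mul_of_pos_left k Fintype.card_pos) h1
  obtain ⟨k, hk, hmax⟩ : ∃ k, good k ∧ ¬ good (k + 1) := by
    by_contra hc
    push Not at hc
    have hall : ∀ k, good k := fun k => by
      induction k with
      | zero => exact h0
      | succ k ih => exact hc k ih
    have := hbound _ (hall (Fintype.card ι + 1))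
    omega
  obtain ⟨B, hB, hinj⟩ := (hgood k).mp hk
  have hsurj : Function.Surjective (famMat B).mulVec := by
    have htop := hspan (LinearMap.range (famMat B).mulVecLin) ?_
    · exact fun v => by
        obtain ⟨w, hw⟩ := (htop ▸ Submodule.mem_top : v ∈ LinearMap.range (famMat B).mulVecLin)
        exact ⟨w, hw⟩
    intro C hC w
    have hinv := hρ ((LinearMap.range (famMat B).mulVecLin).comap C.mulVecLin) (by
      rintro _ ⟨x, rfl⟩ _ ⟨v, hv, rfl⟩
      obtain ⟨u, hu⟩ := hv
      refine ⟨(ρ x ⊗ₖ (1 : Matrix (Fin k) (Fin k) F)) *ᵥ u, ?_⟩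
      simp only [Matrix.mulVecLin_apply] at hu ⊢
      rw [Matrix.mulVec_mulVec, ← famMat_intertwines hB, ← Matrix.mulVec_mulVec, hu, Matrix.toLin'_apply,
        Matrix.mulVec_mulVec, hC, ← Matrix.mulVec_mulVec])
    rcases hinv with hbot | htop
    swap
    · exact (htop ▸ Submodule.mem_top : w ∈ (LinearMap.range (famMat B).mulVecLin).comap C.mulVecLin)
    exfalso
    refine hmax ((hgood (k + 1)).mpr ⟨Fin.cons C B, fun a => ?_, ?_⟩)
    · refine Fin.cases ?_ ?_ a
      · simpa using hC
      · intro a; simpa using hB a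
    intro u v huv
    rw [← sub_eq_zero]
    obtain ⟨d, hd⟩ : ∃ d, d = u - v := ⟨_, rfl⟩
    have h1 : famMat (Fin.cons C B : Fin (k + 1) → Matrix ι I F) *ᵥ d = 0 := by
      rw [hd, mulVec_sub]; exact sub_eq_zero.mpr huv
    rw [famMat_mulVec, Fin.sum_univ_succ] at h1
    simp only [Fin.cons_zero, Fin.cons_succ] at h1
    have hrest : ∑ a, B a *ᵥ (fun i => d (i, a.succ)) = famMat B *ᵥ fun p => d (p.1, p.2.succ) := by
      rw [famMat_mulVec]
    rw [hrest] at h1
    have hmem : (fun i => d (i, 0)) ∈ (LinearMap.range (famMat B).mulVecLin).comap C.mulVecLin := by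
      refine ⟨-fun p => d (p.1, p.2.succ), ?_⟩
      rw [map_neg, neg_eq_iff_add_eq_zero]
      simpa [add_comm] using h1
    rw [hbot, Submodule.mem_bot] at hmem
    rw [hmem, mulVec_zero, zero_add] at h1
    have h2 := hinj (h1.trans (mulVec_zero _).symm)
    rw [← hd]
    funext ⟨i, a⟩
    refine Fin.cases ?_ ?_ a
    · exact congrFun hmem i
    · exact fun a => congrFun h2 (i, a)
  obtain ⟨e⟩ : Nonempty (ι ≃ I × Fin k) :=
    ⟨((Pi.basisFun F (I × Fin k)).map (LinearEquiv.ofBijective (famMat B).mulVecLin ⟨hinj, hsurj⟩)).indexEquiv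
      (Pi.basisFun F ι) |>.symm⟩
  have hPinj : Function.Injective ((famMat B).submatrix id e).mulVec := by
    intro u v huv
    have key : ∀ u : ι → F, (famMat B).submatrix id e *ᵥ u = famMat B *ᵥ (u ∘ e.symm) := fun u => by
      rw [Matrix.submatrix_mulVec_equiv]; rfl
    have := hinj ((key u).symm.trans ((funext fun i => congrFun huv i).trans (key v)))
    funext i
    simpa using congrFun this (e i)
  obtain ⟨P, hP⟩ := exists_gl_of_injective hPinj
  refine ⟨k, e, P, fun x => ?_⟩
  rw [hP, Matrix.submatrix_mul_equiv, ← famMat_intertwines hB]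
  rfl

end CfsgLib.Classical22.Asch
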