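/-
One isotypic component for a family commuting with enough other matrices, and its absolute irreducibility.
-/
import Cfsg.Agent.Lib.Classical22.Asch.Isotypic

set_option autoImplicit false

namespace CfsgLib.Classical22.Asch

open Matrix Cfsg.Geo
open scoped Kronecker MatrixGroups

variable {F : Type*} [Field F] [Finite F] {ι : Type} [Fintype ι] [DecidableEq ι]

omit [Finite F] in
/-- A minimal non-zero invariant subspace. -/
lemma exists_irreducible_sub [Nonempty ι] (S : Set (Matrix ι ι F)) :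
    ∃ W : Submodule F (ι → F), W ≠ ⊥ ∧ (∀ s ∈ S, W.map (Matrix.toLin' s) ≤ W) ∧
      ∀ W' ≤ W, W' ≠ ⊥ → (∀ s ∈ S, W'.map (Matrix.toLin' s) ≤ W') → W' = W := by
  classical
  have hex : ∃ d, ∃ W : Submodule F (ι → F), W ≠ ⊥ ∧ (∀ s ∈ S, W.map (Matrix.toLin' s) ≤ W) ∧
      Module.finrank F W = d := ⟨_, ⊤, top_ne_bot, fun s _ => le_top, rfl⟩
  obtain ⟨W, hW0, hW, hd⟩ := Nat.find_spec hex
  refine ⟨W, hW0, hW, fun W' hle h0 h' => Submodule.eq_of_le_of_finrank_le hle ?_⟩
  rw [hd]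
  exact Nat.find_min' hex ⟨W', h0, h', rfl⟩

omit [Finite F] in
/-- The matrices of a set on a minimal invariant subspace. -/
lemma exists_restrict {S : Set (Matrix ι ι F)} {W : Submodule F (ι → F)}
    (hW : ∀ s ∈ S, W.map (Matrix.toLin' s) ≤ W)
    (hmin : ∀ W' ≤ W, W' ≠ ⊥ → (∀ s ∈ S, W'.map (Matrix.toLin' s) ≤ W') → W' = W) :
    ∃ (B : Matrix ι (Fin (Module.finrank F W)) F) (ρ : S → Matrix (Fin (Module.finrank F W)) (Fin (Module.finrank F W)) F),
      Function.Injective B.mulVec ∧ LinearMap.range B.mulVecLin = W ∧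
      Into ρ (fun x : S => (x : Matrix ι ι F)) B ∧ ActsIrreducibly (Set.range ρ) := by
  classical
  obtain ⟨b, -⟩ : ∃ b, b = Module.finBasis F W := ⟨_, rfl⟩
  obtain ⟨B, hB⟩ : ∃ B : Matrix ι (Fin (Module.finrank F W)) F,
      ∀ v, B *ᵥ v = ((∑ a, v a • b a : W) : ι → F) := by
    refine ⟨Matrix.of fun i a => (b a : ι → F) i, fun v => funext fun i => ?_⟩
    simp [mulVec, dotProduct, mul_comm]
  have hBinj : Function.Injective B.mulVec := fun u v huv => by
    have h1 : (∑ a, u a • b a : W) = ∑ a, v a • b a := Subtype.ext (by rw [← hB, ← hB]; exact huv)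
    funext a
    have := congrArg (fun w => b.repr w a) h1
    simpa only [Module.Basis.repr_sum_self] using this
  have hrange : LinearMap.range B.mulVecLin = W := by
    refine le_antisymm ?_ fun w hw => ⟨fun a => b.repr ⟨w, hw⟩ a, ?_⟩
    · rintro _ ⟨v, rfl⟩
      rw [Matrix.mulVecLin_apply, hB]
      exact Submodule.coe_mem _
    · rw [Matrix.mulVecLin_apply, hB, b.sum_repr]
  have hcols : ∀ (x : S) a, ∃ v, B *ᵥ v = (x : Matrix ι ι F) *ᵥ (B *ᵥ Pi.single a 1) := fun x a => by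
    have : (x : Matrix ι ι F) *ᵥ (B *ᵥ Pi.single a 1) ∈ LinearMap.range B.mulVecLin := by
      rw [hrange]
      refine hW _ x.2 ⟨B *ᵥ Pi.single a 1, ?_, Matrix.toLin'_apply _ _⟩
      exact hrange.le ⟨_, rfl⟩
    exact this
  choose c hc using hcols
  refine ⟨B, fun x => Matrix.of fun i a => c x a i, hBinj, hrange, fun x => ?_, ?_⟩
  · refine Matrix.ext_of_mulVec_single fun a => ?_
    rw [← Matrix.mulVec_mulVec, ← Matrix.mulVec_mulVec, ← hc]
    congr 1
    funext i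
    simp
  intro W' hW'
  have hmap : ∀ s ∈ S, (W'.map B.mulVecLin).map (Matrix.toLin' s) ≤ W'.map B.mulVecLin := by
    rintro s hs _ ⟨_, ⟨v, hv, rfl⟩, rfl⟩
    refine ⟨(Matrix.of fun i a => c ⟨s, hs⟩ a i) *ᵥ v, hW' _ ⟨⟨s, hs⟩, rfl⟩ ⟨v, hv, rfl⟩, ?_⟩
    rw [Matrix.mulVecLin_apply, Matrix.mulVecLin_apply, Matrix.toLin'_apply, Matrix.mulVec_mulVec,
      Matrix.mulVec_mulVec]
    congr 1
    refine (Matrix.ext_of_mulVec_single fun a => ?_ : s * B = B * Matrix.of fun i a => c ⟨s, hs⟩ a i).symm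
    rw [← Matrix.mulVec_mulVec, ← Matrix.mulVec_mulVec, ← hc ⟨s, hs⟩]
    congr 1
    funext i
    simp
  by_cases h0 : W'.map B.mulVecLin = ⊥
  · left
    rw [eq_bot_iff]
    intro v hv
    have : B *ᵥ v ∈ W'.map B.mulVecLin := ⟨v, hv, rfl⟩
    rw [h0, Submodule.mem_bot] at this
    rw [Submodule.mem_bot]
    exact hBinj (this.trans (mulVec_zero _).symm)
  right
  have hWeq := hmin _ (LinearMap.map_le_range.trans hrange.le) h0 hmap
  rw [eq_top_iff]
  intro v _
  obtain ⟨u, hu, huv⟩ : B *ᵥ v ∈ W'.map B.mulVecLin := by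
    rw [hWeq]; exact hrange.le ⟨v, rfl⟩
  exact hBinj huv ▸ hu

/-- The centraliser of an irreducible set of matrices over a finite field is commutative. -/
lemma commutant_comm {I : Type} [Fintype I] [DecidableEq I] [Nonempty I] {N : Type*} {ρ : N → Matrix I I F}
    (hρ : ActsIrreducibly (Set.range ρ)) {X Y : Matrix I I F} (hX : ∀ x, X * ρ x = ρ x * X)
    (hY : ∀ x, Y * ρ x = ρ x * Y) : X * Y = Y * X := by
  obtain ⟨C, hC⟩ : ∃ C : Subalgebra F (Matrix I I F), ∀ M, M ∈ C ↔ ∀ x, M * ρ x = ρ x * M :=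
    ⟨Subalgebra.centralizer F (Set.range ρ), fun M => by
      rw [Subalgebra.mem_centralizer_iff]
      exact ⟨fun h x => (h _ ⟨x, rfl⟩).symm, fun h g ⟨x, hx⟩ => hx ▸ (h x).symm⟩⟩
  have hinj : ∀ M ∈ C, M ≠ 0 → Function.Injective M.mulVec := fun M hM => intertwiner_injective hρ ((hC M).mp hM)
  haveI : NoZeroDivisors C := ⟨fun {a b} hab => by
    by_contra hne
    push Not at hne
    have hb : (b : Matrix I I F) ≠ 0 := fun h => hne.2 (Subtype.ext h)
    refine hb (Matrix.ext_of_mulVec_single fun i => ?_)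
    rw [Matrix.zero_mulVec]
    refine hinj a a.2 (fun h => hne.1 (Subtype.ext h)) ?_
    rw [Matrix.mulVec_mulVec, Matrix.mulVec_zero, show (a : Matrix I I F) * (b : Matrix I I F) = 0 from
      congrArg Subtype.val hab, Matrix.zero_mulVec]⟩
  haveI : IsDomain C := NoZeroDivisors.to_isDomain C
  haveI : Finite C := Subtype.finite
  exact congrArg Subtype.val ((Finite.isDomain_to_isField C).mul_comm ⟨X, (hC X).mpr hX⟩ ⟨Y, (hC Y).mpr hY⟩)

/-- A family which is absolutely irreducible together with the matrices commuting with it has one isotypic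
component, absolutely irreducible. -/
theorem exists_factor [Nonempty ι] {S S' : Set (Matrix ι ι F)} (hcomm : ∀ s ∈ S, ∀ s' ∈ S', s * s' = s' * s)
    (habs : ActsAbsolutelyIrreducibly (S ∪ S')) :
    ∃ (a k : ℕ) (e : ι ≃ Fin a × Fin k) (P : GL ι F) (ρ : S → Matrix (Fin a) (Fin a) F),
      0 < k ∧ ActsAbsolutelyIrreducibly (Set.range ρ) ∧
      (∀ x : S, (x : Matrix ι ι F) * (P : Matrix ι ι F) =
        (P : Matrix ι ι F) * (ρ x ⊗ₖ (1 : Matrix (Fin k) (Fin k) F)).submatrix e e) ∧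
      ∃ W : Submodule F (ι → F), W ≠ ⊥ ∧ (∀ s ∈ S, W.map (Matrix.toLin' s) ≤ W) ∧
        (∀ W' ≤ W, W' ≠ ⊥ → (∀ s ∈ S, W'.map (Matrix.toLin' s) ≤ W') → W' = W) ∧ Module.finrank F W = a := by
  classical
  obtain ⟨W, hW0, hW, hmin⟩ := exists_irreducible_sub (F := F) S
  obtain ⟨B, ρ, hBi, hBr, hB, hρ⟩ := exists_restrict hW hmin
  haveI : Nonempty (Fin (Module.finrank F W)) :=
    Fin.pos_iff_nonempty.mp (Nat.pos_of_ne_zero fun h => hW0 (Submodule.finrank_eq_zero.mp h))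
  obtain ⟨k, e, P, hP⟩ := exists_isotypic (ξ := fun x : S => (x : Matrix ι ι F)) hρ fun V hV => by
    obtain ⟨T, hT⟩ : ∃ T : Submodule F (ι → F), T =
        Submodule.span F {v | ∃ C w, Into ρ (fun x : S => (x : Matrix ι ι F)) C ∧ v = C *ᵥ w} := ⟨_, rfl⟩
    have hTV : T ≤ V := by
      rw [hT, Submodule.span_le]
      rintro _ ⟨C, w, hC, rfl⟩
      exact hV C hC w
    rcases habs.1 T (by
      rintro s hs
      rw [hT, Submodule.map_span, Submodule.span_le]
      rintro _ ⟨_, ⟨C, w, hC, rfl⟩, rfl⟩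
      refine Submodule.subset_span ?_
      rcases hs with hs | hs
      · exact ⟨C, ρ ⟨s, hs⟩ *ᵥ w, hC, by rw [Matrix.toLin'_apply, mulVec_mulVec, hC ⟨s, hs⟩, ← mulVec_mulVec]⟩
      · exact ⟨s * C, w, fun x => by
          show (x : Matrix ι ι F) * (s * C) = s * C * ρ x
          rw [← Matrix.mul_assoc, hcomm _ x.2 _ hs, Matrix.mul_assoc, hC x, Matrix.mul_assoc],
          by rw [Matrix.toLin'_apply, mulVec_mulVec]⟩) with h | h
    · refine absurd ?_ hW0
      rw [← hBr, eq_bot_iff]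
      rintro _ ⟨w, rfl⟩
      rw [← h, hT]
      exact Submodule.subset_span ⟨B, w, hB, rfl⟩
    · exact top_le_iff.mp (h ▸ hTV)
  have hk : 0 < k := by
    by_contra hk
    obtain ⟨i⟩ := ‹Nonempty ι›
    obtain ⟨a, b⟩ := e i
    exact absurd b.2 (by omega)
  refine ⟨Module.finrank F W, k, e, P, ρ, hk, ⟨hρ, fun Z hZ => ?_⟩, hP, W, hW0, hW, hmin, rfl⟩
  have hZ' : ∀ x, Z * ρ x = ρ x * Z := fun x => hZ _ ⟨x, rfl⟩
  obtain ⟨T, hT⟩ : ∃ T : Matrix ι ι F, T = (P : Matrix ι ι F) *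
      (Z ⊗ₖ (1 : Matrix (Fin k) (Fin k) F)).submatrix e e * ((P⁻¹ : GL ι F) : Matrix ι ι F) := ⟨_, rfl⟩
  obtain ⟨conj, hconj⟩ : ∃ conj : Matrix ι ι F → Matrix (Fin (Module.finrank F W) × Fin k) (Fin (Module.finrank F W) × Fin k) F,
      ∀ s, conj s = (((P⁻¹ : GL ι F) : Matrix ι ι F) * s * (P : Matrix ι ι F)).submatrix e.symm e.symm :=
    ⟨_, fun _ => rfl⟩
  have hsub : ∀ s, s * (P : Matrix ι ι F) = (P : Matrix ι ι F) * (conj s).submatrix e e := fun s => by
    rw [hconj, Matrix.submatrix_submatrix, Equiv.symm_comp_self, Matrix.submatrix_id_id, ← Matrix.mul_assoc,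
      ← Matrix.mul_assoc, Units.mul_inv, Matrix.one_mul]
  have hρconj : ∀ x : S, conj x = ρ x ⊗ₖ (1 : Matrix (Fin k) (Fin k) F) := fun x => by
    rw [hconj, Matrix.mul_assoc, hP, ← Matrix.mul_assoc, Units.inv_mul, Matrix.one_mul, Matrix.submatrix_submatrix,
      Equiv.self_comp_symm, Matrix.submatrix_id_id]
  have hblocks : ∀ s ∈ S ∪ S', ∀ α β, block (conj s) α β * Z = Z * block (conj s) α β := by
    rintro s (hs | hs) α β
    · rw [show s = ((⟨s, hs⟩ : S) : Matrix ι ι F) from rfl, hρconj]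
      have : block (ρ ⟨s, hs⟩ ⊗ₖ (1 : Matrix (Fin k) (Fin k) F)) α β =
          (if α = β then 1 else 0 : F) • ρ ⟨s, hs⟩ := by
        ext i j; simp [block, Matrix.one_apply, mul_comm]
      rw [this, Matrix.smul_mul, Matrix.mul_smul, hZ']
    · refine commutant_comm hρ (fun x => block_intertwines (g := conj s) (fun y => ?_) α β x) hZ'
      rw [← hρconj, hconj, hconj, Matrix.submatrix_mul_equiv, Matrix.submatrix_mul_equiv]
      congr 1
      simp only [Matrix.mul_assoc]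
      congr 1
      rw [← Matrix.mul_assoc (P : Matrix ι ι F), Units.mul_inv, Matrix.one_mul, ← Matrix.mul_assoc (P : Matrix ι ι F),
        Units.mul_inv, Matrix.one_mul, ← Matrix.mul_assoc, ← Matrix.mul_assoc, hcomm _ y.2 _ hs]
  obtain ⟨c, hc⟩ := habs.2 T fun s hs => by
    have h1 : conj s * (Z ⊗ₖ (1 : Matrix (Fin k) (Fin k) F)) = (Z ⊗ₖ (1 : Matrix (Fin k) (Fin k) F)) * conj s := by
      ext ⟨i, α⟩ ⟨j, β⟩
      have h2 := congrFun (congrFun (hblocks s hs α β) i) j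
      simp only [block, Matrix.mul_apply, Matrix.of_apply] at h2
      simp only [Matrix.mul_apply, Fintype.sum_prod_type, kronecker_apply, Matrix.one_apply, mul_ite, mul_one, mul_zero,
        ite_mul, zero_mul, Finset.sum_ite_eq, Finset.sum_ite_eq', Finset.mem_univ, if_true]
      exact h2
    have h3 : ((P⁻¹ : GL ι F) : Matrix ι ι F) * s = (conj s).submatrix e e * ((P⁻¹ : GL ι F) : Matrix ι ι F) := by
      have := congrArg (fun M => ((P⁻¹ : GL ι F) : Matrix ι ι F) * M * ((P⁻¹ : GL ι F) : Matrix ι ι F)) (hsub s)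
      simp only [Matrix.mul_assoc, Units.mul_inv, Matrix.mul_one] at this
      rw [this, ← Matrix.mul_assoc, Units.inv_mul, Matrix.one_mul]
    rw [hT, Matrix.mul_assoc, h3, ← Matrix.mul_assoc, Matrix.mul_assoc (P : Matrix ι ι F), Matrix.submatrix_mul_equiv,
      ← h1, ← Matrix.submatrix_mul_equiv _ _ _ e, ← Matrix.mul_assoc (P : Matrix ι ι F), ← hsub]
    simp only [Matrix.mul_assoc]
  refine ⟨c, ?_⟩
  have h4 : (Z ⊗ₖ (1 : Matrix (Fin k) (Fin k) F)).submatrix e e = c • (1 : Matrix ι ι F) := by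
    have := congrArg (fun M => ((P⁻¹ : GL ι F) : Matrix ι ι F) * M * (P : Matrix ι ι F)) hc
    simp only [hT, Matrix.mul_smul, Matrix.smul_mul, Matrix.mul_one, Units.inv_mul] at this
    simp only [Matrix.mul_assoc, Units.inv_mul, Matrix.mul_one] at this
    rwa [← Matrix.mul_assoc, Units.inv_mul, Matrix.one_mul] at this
  ext i j
  have h5 := congrFun (congrFun h4 (e.symm (i, ⟨0, hk⟩))) (e.symm (j, ⟨0, hk⟩))
  simpa [Matrix.one_apply] using h5

end CfsgLib.Classical22.Asch
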