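/-
Tensor power coordinates for pairwise commuting families which are jointly absolutely irreducible.
-/
import Cfsg.Agent.Lib.Classical22.Asch.Commutant
import Cfsg.Agent.Lib.Classical22.Asch.Coords

set_option autoImplicit false

namespace CfsgLib.Classical22.Asch

open Matrix Cfsg.Geo CfsgLib.Classical22.TensorMono
open scoped Kronecker MatrixGroups

universe u
variable {F : Type u} [Field F]

/-- Minimal non-zero invariant subspaces all have dimension `m`. -/
def IrrDim {ι : Type} [Fintype ι] [DecidableEq ι] (m : ℕ) (S : Set (Matrix ι ι F)) : Prop :=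
  ∀ W : Submodule F (ι → F), W ≠ ⊥ → (∀ s ∈ S, W.map (Matrix.toLin' s) ≤ W) →
    (∀ W' ≤ W, W' ≠ ⊥ → (∀ s ∈ S, W'.map (Matrix.toLin' s) ≤ W') → W' = W) → Module.finrank F W = m

/-- The coordinates of a vector. -/
def coordVec {ι κ : Type} [Fintype ι] [DecidableEq ι] (e : ι ≃ κ) (P : GL ι F) : (ι → F) →ₗ[F] (κ → F) :=
  (LinearMap.funLeft F F e.symm).comp (Matrix.toLin' ((P⁻¹ : GL ι F) : Matrix ι ι F))

section
variable {ι κ : Type} [Fintype ι] [DecidableEq ι] [Fintype κ] [DecidableEq κ]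

lemma coordVec_apply (e : ι ≃ κ) (P : GL ι F) (v : ι → F) :
    coordVec e P v = (((P⁻¹ : GL ι F) : Matrix ι ι F) *ᵥ v) ∘ e.symm := rfl

lemma coordVec_mulVec (e : ι ≃ κ) (P : GL ι F) (g : Matrix ι ι F) (v : ι → F) :
    coordVec e P (g *ᵥ v) = toCoord e P g *ᵥ coordVec e P v := by
  rw [coordVec_apply, coordVec_apply, toCoord, Matrix.submatrix_mulVec_equiv, Equiv.symm_symm]
  simp only [Function.comp_assoc, Equiv.symm_comp_self, Function.comp_id, Matrix.mulVec_mulVec, Matrix.mul_assoc,
    Units.mul_inv, Matrix.mul_one]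

lemma coordVec_bijective (e : ι ≃ κ) (P : GL ι F) : Function.Bijective (coordVec e P) := by
  refine ⟨fun u v h => ?_, fun w => ⟨(P : Matrix ι ι F) *ᵥ (w ∘ e), ?_⟩⟩
  · rw [coordVec_apply, coordVec_apply] at h
    have h1 := congrArg (fun x => (P : Matrix ι ι F) *ᵥ (x ∘ e)) h
    simpa [Function.comp_assoc, Matrix.mulVec_mulVec] using h1
  · rw [coordVec_apply, Matrix.mulVec_mulVec, Units.inv_mul, Matrix.one_mulVec, Function.comp_assoc,
      Equiv.self_comp_symm, Function.comp_id]

end

section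
variable {m k : ℕ}

lemma one_kronecker_injective (hm : 0 < m) {Y Y' : Matrix (Fin k) (Fin k) F}
    (h : (1 : Matrix (Fin m) (Fin m) F) ⊗ₖ Y = (1 : Matrix (Fin m) (Fin m) F) ⊗ₖ Y') : Y = Y' := by
  ext α β
  simpa using congrFun (congrFun h (⟨0, hm⟩, α)) (⟨0, hm⟩, β)

lemma one_kronecker_mulVec (Y : Matrix (Fin k) (Fin k) F) (v : Fin m × Fin k → F) (a : Fin m) :
    (fun β => (((1 : Matrix (Fin m) (Fin m) F) ⊗ₖ Y) *ᵥ v) (a, β)) = Y *ᵥ fun β => v (a, β) := by
  funext β
  simp [mulVec, dotProduct, Fintype.sum_prod_type, Matrix.one_apply]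

lemma kronecker_one_mulVec (X : Matrix (Fin m) (Fin m) F) (v : Fin m × Fin k → F) (a : Fin m) :
    (fun β => ((X ⊗ₖ (1 : Matrix (Fin k) (Fin k) F)) *ᵥ v) (a, β)) = ∑ b, X a b • fun β => v (b, β) := by
  funext β
  simp [mulVec, dotProduct, Fintype.sum_prod_type, Matrix.one_apply, Finset.sum_apply]

/-- A matrix commuting with every element of an absolutely irreducible tensor factor, in coordinates. -/
lemma inj_zero_eq {t : ℕ} (X : Matrix (Fin m) (Fin m) F) :
    inj (0 : Fin (t + 1)) X =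
      (X ⊗ₖ (1 : Matrix (Fin t → Fin m) (Fin t → Fin m) F)).submatrix (Fin.consEquiv fun _ => Fin m).symm
        (Fin.consEquiv fun _ => Fin m).symm := by
  ext x y
  rw [inj_apply, wr_apply, Fin.prod_univ_succ, Matrix.submatrix_apply, kronecker_apply]
  simp only [Function.update_self, Equiv.Perm.one_apply]
  change X (x 0) (y 0) * _ = X (x 0) (y 0) * (1 : Matrix (Fin t → Fin m) (Fin t → Fin m) F) (Fin.tail x) (Fin.tail y)
  congr 1
  by_cases h : Fin.tail x = Fin.tail y
  · rw [h, Matrix.one_apply_eq]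
    exact Finset.prod_eq_one fun i _ => by
      rw [Function.update_of_ne (Fin.succ_ne_zero i), show x i.succ = y i.succ from congrFun h i, Matrix.one_apply_eq]
  · obtain ⟨i, hi⟩ := Function.ne_iff.mp h
    rw [Matrix.one_apply_ne h]
    exact Finset.prod_eq_zero (Finset.mem_univ i) (by
      rw [Function.update_of_ne (Fin.succ_ne_zero i)]; exact Matrix.one_apply_ne hi)

lemma inj_succ_eq {t : ℕ} (i : Fin t) (X : Matrix (Fin m) (Fin m) F) :
    inj i.succ X = ((1 : Matrix (Fin m) (Fin m) F) ⊗ₖ inj i X).submatrix (Fin.consEquiv fun _ => Fin m).symm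
        (Fin.consEquiv fun _ => Fin m).symm := by
  ext x y
  rw [inj_apply, inj_apply, wr_apply, Fin.prod_univ_succ, Matrix.submatrix_apply, kronecker_apply, wr_apply]
  simp only [Function.update_of_ne (Fin.succ_ne_zero i).symm, Equiv.Perm.one_apply, Fin.consEquiv, Equiv.coe_fn_symm_mk]
  congr 1
  refine Finset.prod_congr rfl fun j _ => ?_
  by_cases hj : j = i
  · subst hj; rw [Function.update_self, Function.update_self]; rfl
  · rw [Function.update_of_ne hj, Function.update_of_ne (fun h => hj (Fin.succ_inj.mp h))]; rfl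

end

/-- Tensor power coordinates. -/
theorem exists_power_coords [Finite F] (m : ℕ) (hm0 : 0 < m) :
    ∀ (t : ℕ) {ι : Type} [Fintype ι] [DecidableEq ι] [Nonempty ι] (L : Fin t → Set (Matrix ι ι F)),
      (∀ i j, i ≠ j → ∀ x ∈ L i, ∀ y ∈ L j, x * y = y * x) → ActsAbsolutelyIrreducibly (⋃ i, L i) →
      (∀ i, IrrDim m (L i)) →
      ∃ (e : ι ≃ (Fin t → Fin m)) (P : GL ι F) (ρ : ∀ i, L i → Matrix (Fin m) (Fin m) F),
        (∀ i, ActsAbsolutelyIrreducibly (Set.range (ρ i))) ∧
        ∀ i (x : L i), toCoord e P (x : Matrix ι ι F) = inj i (ρ i x) := by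
  intro t
  induction t with
  | zero =>
    intro ι _ _ _ L _ habs _
    have hsub : Subsingleton ι := ⟨fun a b => by
      by_contra hab
      obtain ⟨c, hc⟩ := habs.2 (Matrix.single a b 1) (fun s hs => by
        obtain ⟨i, -⟩ := Set.mem_iUnion.mp hs; exact i.elim0)
      have := congrFun (congrFun hc a) b
      simp [hab] at this⟩
    exact ⟨Fintype.equivOfCardEq (by rw [Fintype.card_eq_one_iff_nonempty_unique.mpr
      ⟨uniqueOfSubsingleton (Classical.arbitrary ι)⟩]; simp), 1, fun i => i.elim0, fun i => i.elim0, fun i => i.elim0⟩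
  | succ t ih =>
    intro ι _ _ _ L hcomm habs hdim
    classical
    obtain ⟨a, k, e, P, ρ₀, hk, hρ₀, hP, W, hW0, hW, hWmin, hWd⟩ :=
      exists_factor (S := L 0) (S' := ⋃ i : Fin t, L i.succ)
        (fun s hs s' hs' => by
          obtain ⟨i, hi⟩ := Set.mem_iUnion.mp hs'
          exact hcomm 0 i.succ (Fin.succ_ne_zero i).symm s hs s' hi)
        (by
          rwa [show L 0 ∪ (⋃ i : Fin t, L i.succ) = ⋃ i, L i by
            ext x
            simp only [Set.mem_union, Set.mem_iUnion]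
            exact ⟨fun h => h.elim (fun h => ⟨0, h⟩) (fun ⟨i, h⟩ => ⟨i.succ, h⟩),
              fun ⟨i, h⟩ => by induction i using Fin.cases with
                | zero => exact Or.inl h
                | succ i => exact Or.inr ⟨i, h⟩⟩])
    obtain rfl : a = m := hWd ▸ hdim 0 W hW0 hW hWmin
    have hP' : ∀ x : L 0, toCoord e P (x : Matrix ι ι F) = ρ₀ x ⊗ₖ (1 : Matrix (Fin k) (Fin k) F) :=
      fun x => toCoord_eq_iff.mpr (hP x)
    have hη : ∀ (i : Fin t) (x : L i.succ), ∃ Y : Matrix (Fin k) (Fin k) F,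
        toCoord e P (x : Matrix ι ι F) = (1 : Matrix (Fin a) (Fin a) F) ⊗ₖ Y := fun i x =>
      exists_one_kronecker hρ₀ fun y => by
        rw [← hP', ← toCoord_mul, ← toCoord_mul, hcomm i.succ 0 (Fin.succ_ne_zero i) _ x.2 _ y.2]
    choose η hη using hη
    obtain ⟨L', hL'⟩ : ∃ L' : Fin t → Set (Matrix (Fin k) (Fin k) F), ∀ i, L' i = Set.range (η i) :=
      ⟨_, fun _ => rfl⟩
    haveI : Nonempty (Fin k) := ⟨⟨0, hk⟩⟩
    obtain ⟨Φ, hΦ⟩ : ∃ Φ : (ι → F) →ₗ[F] (Fin a × Fin k → F), Φ = coordVec e P := ⟨_, rfl⟩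
    have hΦb : Function.Bijective Φ := hΦ ▸ coordVec_bijective e P
    have hΦm : ∀ g v, Φ (g *ᵥ v) = toCoord e P g *ᵥ Φ v := fun g v => hΦ ▸ coordVec_mulVec e P g v
    have habs' : ActsAbsolutelyIrreducibly (⋃ i, L' i) := by
      refine ⟨fun U hU => ?_, fun Z hZ => ?_⟩
      · obtain ⟨V, hV⟩ : ∃ V : Submodule F (ι → F), ∀ v, v ∈ V ↔ ∀ b, (fun β => Φ v (b, β)) ∈ U :=
          ⟨⨅ b, U.comap ((LinearMap.funLeft F F fun β => (b, β)).comp Φ), fun v => by
            simp only [Submodule.mem_iInf, Submodule.mem_comap]; rfl⟩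
        rcases habs.1 V (fun s hs => by
          rintro _ ⟨v, hv, rfl⟩
          rw [SetLike.mem_coe, hV] at hv
          rw [hV, Matrix.toLin'_apply, hΦm]
          intro b
          obtain ⟨i, hi⟩ := Set.mem_iUnion.mp hs
          revert hi
          refine Fin.cases (fun hi => ?_) (fun i hi => ?_) i
          · rw [hP' ⟨s, hi⟩, kronecker_one_mulVec]
            exact Submodule.sum_mem _ fun c _ => U.smul_mem _ (hv c)
          · rw [hη i ⟨s, hi⟩, one_kronecker_mulVec]
            exact hU _ (Set.mem_iUnion.mpr ⟨i, by rw [hL']; exact ⟨_, rfl⟩⟩) ⟨_, hv b, rfl⟩) with h | h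
        · left
          rw [eq_bot_iff]
          intro u hu
          obtain ⟨v, hv⟩ := hΦb.2 (fun p => if p.1 = ⟨0, hm0⟩ then u p.2 else 0)
          have hvV : v ∈ V := (hV v).mpr fun b => by
            rw [hv]
            by_cases hb : b = ⟨0, hm0⟩
            · simp only [hb, if_true]; exact hu
            · simp only [hb, if_false]; exact U.zero_mem
          rw [h, Submodule.mem_bot] at hvV
          rw [hvV, map_zero] at hv
          rw [Submodule.mem_bot]
          funext β
          simpa using (congrFun hv (⟨0, hm0⟩, β)).symm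
        · right
          rw [eq_top_iff]
          intro u _
          obtain ⟨v, hv⟩ := hΦb.2 (fun p => u p.2)
          have := (hV v).mp (h ▸ Submodule.mem_top) ⟨0, hm0⟩
          rwa [hv] at this
      · obtain ⟨G, hG⟩ : ∃ G : Matrix ι ι F, toCoord e P G = (1 : Matrix (Fin a) (Fin a) F) ⊗ₖ Z :=
          ⟨(P : Matrix ι ι F) * ((1 : Matrix (Fin a) (Fin a) F) ⊗ₖ Z).submatrix e e *
            ((P⁻¹ : GL ι F) : Matrix ι ι F), toCoord_eq_iff.mpr (by rw [Matrix.mul_assoc, Units.inv_mul, Matrix.mul_one])⟩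
        obtain ⟨c, hc⟩ := habs.2 G fun s hs => toCoord_injective e P (by
          obtain ⟨i, hi⟩ := Set.mem_iUnion.mp hs
          rw [toCoord_mul, toCoord_mul, hG]
          revert hi
          refine Fin.cases (fun hi => ?_) (fun i hi => ?_) i
          · rw [hP' ⟨s, hi⟩, ← Matrix.mul_kronecker_mul, ← Matrix.mul_kronecker_mul, Matrix.one_mul, Matrix.mul_one,
              Matrix.mul_one, Matrix.one_mul]
          · rw [hη i ⟨s, hi⟩, ← Matrix.mul_kronecker_mul, ← Matrix.mul_kronecker_mul,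
              hZ _ (Set.mem_iUnion.mpr ⟨i, by rw [hL']; exact ⟨_, rfl⟩⟩)])
        refine ⟨c, one_kronecker_injective hm0 ?_⟩
        rw [← hG, hc, Matrix.kronecker_smul, Matrix.one_kronecker_one]
        rw [show toCoord e P (c • (1 : Matrix ι ι F)) = c • toCoord e P 1 by
          simp only [toCoord, Matrix.mul_smul, Matrix.smul_mul, Matrix.submatrix_smul]; rfl, toCoord_one]
    have hcomm' : ∀ i j, i ≠ j → ∀ x ∈ L' i, ∀ y ∈ L' j, x * y = y * x := by
      intro i j hij x hx y hy
      rw [hL'] at hx hy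
      obtain ⟨x, rfl⟩ := hx
      obtain ⟨y, rfl⟩ := hy
      refine one_kronecker_injective hm0 ?_
      rw [← Matrix.one_mul (1 : Matrix (Fin a) (Fin a) F), Matrix.mul_kronecker_mul, Matrix.mul_kronecker_mul,
        ← hη, ← hη, ← toCoord_mul, ← toCoord_mul,
        hcomm i.succ j.succ (fun h => hij (Fin.succ_inj.mp h)) _ x.2 _ y.2]
    have hdim' : ∀ i, IrrDim a (L' i) := by
      intro i U hU0 hUinv hUmin
      obtain ⟨lift, hlift, hliftinj⟩ : ∃ lift : (Fin k → F) →ₗ[F] (ι → F),
          (∀ u, Φ (lift u) = fun p => if p.1 = ⟨0, hm0⟩ then u p.2 else 0) ∧ Function.Injective lift := by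
        refine ⟨(LinearEquiv.ofBijective Φ hΦb).symm.toLinearMap.comp
          ({ toFun := fun u p => if p.1 = (⟨0, hm0⟩ : Fin a) then u p.2 else 0
             map_add' := fun u v => by funext p; simp only [Pi.add_apply]; split_ifs <;> simp
             map_smul' := fun c u => by
               funext p; simp only [Pi.smul_apply, smul_eq_mul, RingHom.id_apply]; split_ifs <;> simp } :
            (Fin k → F) →ₗ[F] (Fin a × Fin k → F)), fun u => ?_, fun u v huv => ?_⟩
        · exact LinearEquiv.apply_symm_apply (LinearEquiv.ofBijective Φ hΦb) _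
        · funext β
          have h1 := congrFun (congrArg Φ huv) (⟨0, hm0⟩, β)
          simpa [LinearEquiv.ofBijective] using
            (congrFun ((LinearEquiv.ofBijective Φ hΦb).symm.injective huv) (⟨0, hm0⟩, β))
      have hact : ∀ (x : L i.succ) u, (x : Matrix ι ι F) *ᵥ lift u = lift (η i x *ᵥ u) := fun x u => hΦb.1 (by
        rw [hΦm, hη, hlift, hlift]
        funext p
        obtain ⟨b, β⟩ := p
        have := congrFun (one_kronecker_mulVec (η i x) (fun p : Fin a × Fin k => if p.1 = ⟨0, hm0⟩ then u p.2 else 0) b) β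
        rw [this]
        by_cases hb : b = ⟨0, hm0⟩
        · simp [hb]
        · simp only [hb, if_false]; exact congrFun (mulVec_zero (η i x)) β)
      rw [← (Submodule.equivMapOfInjective lift hliftinj U).finrank_eq.symm.trans rfl]
      refine hdim i.succ (U.map lift) (fun h => hU0 ?_) (fun s hs => ?_) (fun W' hle hW'0 hW' => ?_)
      · rw [eq_bot_iff]
        intro u hu
        have : lift u ∈ U.map lift := ⟨u, hu, rfl⟩
        rw [h, Submodule.mem_bot] at this
        rw [Submodule.mem_bot]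
        exact hliftinj (this.trans (map_zero lift).symm)
      · rintro _ ⟨_, ⟨u, hu, rfl⟩, rfl⟩
        exact ⟨η i ⟨s, hs⟩ *ᵥ u, hUinv _ (by rw [hL']; exact ⟨_, rfl⟩) ⟨u, hu, rfl⟩,
          by rw [Matrix.toLin'_apply]; exact (hact ⟨s, hs⟩ u).symm⟩
      · refine le_antisymm hle ?_
        have h1 := hUmin (W'.comap lift) (fun u hu => by
            obtain ⟨u', hu', he⟩ := hle hu
            exact hliftinj he ▸ hu') (fun h => hW'0 (by
            rw [eq_bot_iff]
            intro w hw
            obtain ⟨u, -, rfl⟩ := hle hw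
            have : u ∈ W'.comap lift := hw
            rw [h, Submodule.mem_bot] at this
            rw [Submodule.mem_bot, this, map_zero]))
          (fun s hs => by
            rw [hL'] at hs
            obtain ⟨x, rfl⟩ := hs
            rintro _ ⟨u, hu, rfl⟩
            show lift (Matrix.toLin' (η i x) u) ∈ W'
            rw [Matrix.toLin'_apply, ← hact]
            exact hW' _ x.2 ⟨_, hu, Matrix.toLin'_apply _ _⟩)
        rw [← h1]
        exact Submodule.map_comap_le _ _
    obtain ⟨e', P', ρ', hρ', hP''⟩ := ih L' hcomm' habs' hdim'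
    obtain ⟨M, hM⟩ : ∃ M : GL ι F,
        (M : Matrix ι ι F) = ((1 : Matrix (Fin a) (Fin a) F) ⊗ₖ (P' : Matrix (Fin k) (Fin k) F)).submatrix e e ∧
        ((M⁻¹ : GL ι F) : Matrix ι ι F) =
          ((1 : Matrix (Fin a) (Fin a) F) ⊗ₖ ((P'⁻¹ : GL (Fin k) F) : Matrix (Fin k) (Fin k) F)).submatrix e e :=
      ⟨⟨(((1 : Matrix (Fin a) (Fin a) F) ⊗ₖ (P' : Matrix (Fin k) (Fin k) F)).submatrix e e : Matrix ι ι F), ((1 : Matrix (Fin a) (Fin a) F) ⊗ₖ ((P'⁻¹ : GL (Fin k) F) : Matrix (Fin k) (Fin k) F)).submatrix e e,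
        by rw [Matrix.submatrix_mul_equiv, ← Matrix.mul_kronecker_mul, Matrix.one_mul, Units.mul_inv,
          Matrix.one_kronecker_one, Matrix.submatrix_one_equiv],
        by rw [Matrix.submatrix_mul_equiv, ← Matrix.mul_kronecker_mul, Matrix.one_mul, Units.inv_mul,
          Matrix.one_kronecker_one, Matrix.submatrix_one_equiv]⟩, rfl, rfl⟩
    have hnew : ∀ (g : Matrix ι ι F) (X : Matrix (Fin a) (Fin a) F) (Y : Matrix (Fin k) (Fin k) F),
        toCoord e P g = X ⊗ₖ Y →
          toCoord (e.trans ((Equiv.prodCongr (Equiv.refl (Fin a)) e').trans (Fin.consEquiv fun _ => Fin a))) (P * M) g =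
            (X ⊗ₖ toCoord e' P' Y).submatrix (Fin.consEquiv fun _ => Fin a).symm (Fin.consEquiv fun _ => Fin a).symm := by
      intro g X Y hg
      have hg' : ((P⁻¹ : GL ι F) : Matrix ι ι F) * g * (P : Matrix ι ι F) = (X ⊗ₖ Y).submatrix e e := by
        rw [Matrix.mul_assoc, toCoord_eq_iff.mp hg, ← Matrix.mul_assoc, Units.inv_mul, Matrix.one_mul]
      rw [toCoord, _root_.mul_inv_rev, Units.val_mul, Units.val_mul,
        show ((M⁻¹ : GL ι F) : Matrix ι ι F) * ((P⁻¹ : GL ι F) : Matrix ι ι F) * g *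
          ((P : Matrix ι ι F) * (M : Matrix ι ι F)) = ((M⁻¹ : GL ι F) : Matrix ι ι F) *
            (((P⁻¹ : GL ι F) : Matrix ι ι F) * g * (P : Matrix ι ι F)) * (M : Matrix ι ι F) by
          simp only [Matrix.mul_assoc], hg', hM.1, hM.2, Matrix.submatrix_mul_equiv, Matrix.submatrix_mul_equiv,
        ← Matrix.mul_kronecker_mul, ← Matrix.mul_kronecker_mul, Matrix.one_mul, Matrix.mul_one, toCoord]
      ext x y
      simp [Fin.consEquiv]
    refine ⟨e.trans ((Equiv.prodCongr (Equiv.refl (Fin a)) e').trans (Fin.consEquiv fun _ => Fin a)), P * M,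
      fun i => Fin.cases (motive := fun i => L i → Matrix (Fin a) (Fin a) F) ρ₀
        (fun i x => ρ' i ⟨η i x, by rw [hL']; exact ⟨x, rfl⟩⟩) i, fun i => ?_, fun i x => ?_⟩
    · refine Fin.cases ?_ ?_ i
      · simpa using hρ₀
      · intro i
        have : Set.range (fun x : L i.succ => ρ' i ⟨η i x, by rw [hL']; exact ⟨x, rfl⟩⟩) = Set.range (ρ' i) := by
          refine Set.Subset.antisymm (by rintro _ ⟨x, rfl⟩; exact ⟨_, rfl⟩) ?_
          rintro _ ⟨⟨y, hy⟩, rfl⟩
          rw [hL'] at hy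
          obtain ⟨x, rfl⟩ := hy
          exact ⟨x, rfl⟩
        simpa [this] using hρ' i
    · revert x
      refine Fin.cases ?_ ?_ i
      · intro x
        simp only [Fin.cases_zero]
        rw [hnew _ _ _ (hP' x), toCoord_one, inj_zero_eq]
      · intro i x
        simp only [Fin.cases_succ]
        rw [hnew _ _ _ (hη i x), hP'' i ⟨η i x, by rw [hL']; exact ⟨x, rfl⟩⟩, inj_succ_eq]

end CfsgLib.Classical22.Asch
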