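/-
The tensor members of the linear classes: factorisations with one factor, several factors, and two-dimensional factors.
-/
import Cfsg.Agent.Lib.Classical22.Asch.Coords
import Cfsg.Agent.Lib.Classical22.Asch.CentralProd

set_option autoImplicit false

namespace CfsgLib.Classical22.Asch

open Matrix Cfsg.Geo CfsgLib.Classical22.TensorMono
open scoped Kronecker MatrixGroups

variable {F : Type*} [Field F] {ι : Type} [Fintype ι] [DecidableEq ι]

lemma exists_toCoord_of_mem {κ : Type} [Fintype κ] [DecidableEq κ] {K : Subgroup (GL κ F)} {e : ι ≃ κ} {P g : GL ι F}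
    (hg : g ∈ (K.map (glReindex e.symm).toMonoidHom).map (MulAut.conj P).toMonoidHom) :
    ∃ z ∈ K, toCoord e P (g : Matrix ι ι F) = (z : Matrix κ κ F) := by
  obtain ⟨_, ⟨z, hz, rfl⟩, rfl⟩ := hg
  refine ⟨z, hz, toCoord_eq_iff.mpr ?_⟩
  change (P : Matrix ι ι F) * Matrix.reindexAlgEquiv F F e.symm (z : Matrix κ κ F) * ((P⁻¹ : GL ι F) : Matrix ι ι F) *
    (P : Matrix ι ι F) = _
  rw [Matrix.reindexAlgEquiv_apply, Matrix.reindex_apply, Equiv.symm_symm, Matrix.mul_assoc, Units.inv_mul,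
    Matrix.mul_one]

lemma toCoord_trans {κ κ' : Type} [Fintype κ] [DecidableEq κ] [Fintype κ'] [DecidableEq κ'] (e : ι ≃ κ) (e' : κ ≃ κ')
    (P : GL ι F) (g : Matrix ι ι F) :
    toCoord (e.trans e') P g = (toCoord e P g).submatrix e'.symm e'.symm := by
  rw [toCoord, toCoord, Matrix.submatrix_submatrix]; rfl

/-- The two factors may be exchanged. -/
lemma tensorProduct_le_swap {a b : ℕ} (e : ι ≃ Fin a × Fin b) (P : GL ι F) :
    tensorProductSubgroup a b e P ≤ tensorProductSubgroup b a (e.trans (Equiv.prodComm _ _)) P := by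
  intro g hg
  obtain ⟨z, ⟨A, B, hz⟩, hgz⟩ := exists_toCoord_of_mem hg
  obtain ⟨w, hw⟩ : ∃ w : GL (Fin b × Fin a) F,
      (w : Matrix (Fin b × Fin a) (Fin b × Fin a) F) = (B : Matrix (Fin b) (Fin b) F) ⊗ₖ (A : Matrix (Fin a) (Fin a) F) :=
    ⟨⟨((B : Matrix (Fin b) (Fin b) F) ⊗ₖ (A : Matrix (Fin a) (Fin a) F)), ((B⁻¹ : GL (Fin b) F) : Matrix (Fin b) (Fin b) F) ⊗ₖ ((A⁻¹ : GL (Fin a) F) : Matrix (Fin a) (Fin a) F),
      by rw [← mul_kronecker_mul, Units.mul_inv, Units.mul_inv, one_kronecker_one],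
      by rw [← mul_kronecker_mul, Units.inv_mul, Units.inv_mul, one_kronecker_one]⟩, rfl⟩
  refine mem_of_toCoord (z := w) ⟨B, A, hw⟩ ?_
  rw [toCoord_trans, hgz, hz, hw]
  ext ⟨i, j⟩ ⟨i', j'⟩
  simp [mul_comm]

/-- Two factors of equal dimension. -/
lemma tensorProduct_le_wreath {a : ℕ} (e : ι ≃ Fin a × Fin a) (P : GL ι F) :
    tensorProductSubgroup a a e P ≤ tensorWreathSubgroup a 2 (e.trans (piFinTwoEquiv fun _ => Fin a).symm) P := by
  intro g hg
  obtain ⟨z, ⟨A, B, hz⟩, hgz⟩ := exists_toCoord_of_mem hg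
  obtain ⟨w, hw, hwv⟩ := exists_gl_wr (1 : Equiv.Perm (Fin 2)) ![A, B]
  refine mem_of_toCoord (z := w) hw ?_
  rw [toCoord_trans, hgz, hz, hwv]
  ext x y
  simp [wr_apply, Fin.prod_univ_two]

/-- The bilinear form of a tensor power of the determinant form, in coordinates. -/
def twoForm {t : ℕ} (e : ι ≃ (Fin t → Fin 2)) (P : GL ι F) (u v : ι → F) : F :=
  coordVec e P u ⬝ᵥ (wr 1 (fun _ : Fin t => !![(0 : F), 1; -1, 0]) *ᵥ coordVec e P v)

lemma twoForm_bilinear {t : ℕ} (e : ι ≃ (Fin t → Fin 2)) (P : GL ι F) : IsBilinearForm (twoForm e P) where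
  add_left x y v := by rw [twoForm, twoForm, twoForm, map_add, add_dotProduct]
  smul_left c x v := by rw [twoForm, twoForm, map_smul, smul_dotProduct, smul_eq_mul]
  add_right v x y := by rw [twoForm, twoForm, twoForm, map_add, mulVec_add, dotProduct_add]
  smul_right c v x := by rw [twoForm, twoForm, map_smul, mulVec_smul, dotProduct_smul, smul_eq_mul]

lemma wr_smul {t m : ℕ} (c : Fin t → F) (X : Fin t → Matrix (Fin m) (Fin m) F) :
    wr 1 (fun i => c i • X i) = (∏ i, c i) • wr 1 X := by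
  ext x y
  simp [wr_apply, Finset.prod_mul_distrib]

lemma twoForm_transpose {t : ℕ} :
    (wr 1 (fun _ : Fin t => !![(0 : F), 1; -1, 0]))ᵀ = (-1 : F) ^ t • wr 1 (fun _ : Fin t => !![(0 : F), 1; -1, 0]) := by
  rw [wr_transpose, ← show ∏ _i : Fin t, (-1 : F) = (-1) ^ t by simp, ← wr_smul]
  congr 1
  funext i
  ext a b
  fin_cases a <;> fin_cases b <;> simp

lemma twoForm_nondegenerate {t : ℕ} (e : ι ≃ (Fin t → Fin 2)) (P : GL ι F) :
    IsNondegenerateForm (twoForm e P) := by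
  classical
  obtain ⟨G, hG⟩ : ∃ G, G = wr 1 (fun _ : Fin t => !![(0 : F), 1; -1, 0]) := ⟨_, rfl⟩
  have hGG : G * G = (-1 : F) ^ t • 1 := by
    rw [hG, wr_one_mul, ← show ∏ _i : Fin t, (-1 : F) = (-1) ^ t by simp,
      ← wr_one (F := F) (ι := Fin t) (D := Fin 2), ← wr_smul]
    congr 1
    funext i
    ext a b
    fin_cases a <;> fin_cases b <;> simp
  have hf : ∀ u v, twoForm e P u v = coordVec e P u ⬝ᵥ (G *ᵥ coordVec e P v) := fun u v => by rw [twoForm, hG]
  intro v hv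
  obtain ⟨w, hw⟩ : ∃ w, w = coordVec e P v := ⟨_, rfl⟩
  have hw0 : w ≠ 0 := fun h => hv ((coordVec_bijective e P).1 (by rw [← hw, h, map_zero]))
  have hGw : G *ᵥ w ≠ 0 := fun h => hw0 (by
    have h1 : (G * G) *ᵥ w = 0 := by rw [← mulVec_mulVec, h, mulVec_zero]
    rw [hGG, smul_mulVec, one_mulVec, smul_eq_zero] at h1
    exact h1.resolve_left (pow_ne_zero _ (neg_ne_zero.mpr one_ne_zero)))
  have hwG : w ᵥ* G ≠ 0 := fun h => hGw (by
    rw [← vecMul_transpose, hG, twoForm_transpose, vecMul_smul, ← hG, h, smul_zero])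
  constructor
  · obtain ⟨i, hi⟩ := Function.ne_iff.mp hGw
    obtain ⟨x, hx⟩ := (coordVec_bijective e P).2 (Pi.single i 1)
    exact ⟨x, by rw [hf, hx, ← hw, single_one_dotProduct]; exact hi⟩
  · obtain ⟨i, hi⟩ := Function.ne_iff.mp hwG
    obtain ⟨x, hx⟩ := (coordVec_bijective e P).2 (Pi.single i 1)
    exact ⟨x, by rw [hf, hx, ← hw, dotProduct_mulVec, dotProduct_single_one]; exact hi⟩

/-- Two-dimensional tensor powers preserve the form up to a scalar. -/
lemma tensorWreath_two_le [Finite F] {t : ℕ} (e : ι ≃ (Fin t → Fin 2)) (P : GL ι F) :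
    tensorWreathSubgroup 2 t e P ≤ similarityGroup (twoForm e P) := by
  intro g hg
  obtain ⟨z, hz, hgz⟩ := exists_toCoord_of_mem hg
  obtain ⟨π, A, hzA⟩ := standard_form hz
  refine ⟨∏ i, Matrix.GeneralLinearGroup.det (A (π.symm i)), fun u v => ?_⟩
  obtain ⟨J, hJ⟩ : ∃ J : Matrix (Fin 2) (Fin 2) F, J = !![(0 : F), 1; -1, 0] := ⟨_, rfl⟩
  have hAJ : ∀ X : Matrix (Fin 2) (Fin 2) F, Xᵀ * J * X = X.det • J := fun X => by
    rw [hJ, Matrix.det_fin_two]
    ext a b
    fin_cases a <;> fin_cases b <;>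
      simp [Matrix.mul_apply, Fin.sum_univ_two, Matrix.transpose_apply] <;> ring
  have key : (wr π fun i => (A i : Matrix (Fin 2) (Fin 2) F))ᵀ * wr 1 (fun _ : Fin t => J) *
      (wr π fun i => (A i : Matrix (Fin 2) (Fin 2) F)) =
      (∏ i, (A (π.symm i) : Matrix (Fin 2) (Fin 2) F).det) • wr 1 (fun _ : Fin t => J) := by
    rw [Matrix.mul_assoc, wr_transpose, wr_one_mul, wr_mul, Equiv.symm_trans_self, ← wr_smul]
    congr 1
    funext i
    rw [← Matrix.mul_assoc, hAJ]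
  rw [twoForm, twoForm, coordVec_mulVec, coordVec_mulVec, hgz, hzA, ← hJ, mulVec_mulVec,
    ← vecMul_transpose, ← dotProduct_mulVec, mulVec_mulVec, ← Matrix.mul_assoc, key, smul_mulVec, dotProduct_smul,
    smul_eq_mul, Units.coe_prod]
  simp only [Matrix.GeneralLinearGroup.val_det_apply]

lemma sum_mul_alternating {κ : Type} [Fintype κ] [DecidableEq κ] {G : Matrix κ κ F} (hskew : Gᵀ = -G)
    (hdiag : ∀ x, G x x = 0) (w : κ → F) : w ⬝ᵥ (G *ᵥ w) = 0 := by
  simp only [dotProduct, mulVec, Finset.mul_sum, ← Fintype.sum_prod_type']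
  refine Finset.sum_involution (fun p _ => (p.2, p.1)) (fun p _ => ?_) (fun p _ hp e => hp ?_)
    (fun _ _ => Finset.mem_univ _) (fun p _ => rfl)
  · have h1 := congrFun (congrFun hskew p.1) p.2
    rw [transpose_apply, Matrix.neg_apply] at h1
    linear_combination (w p.1 * w p.2) * h1
  · have : p.1 = p.2 := congrArg Prod.snd e
    rw [← this, hdiag]; ring

/-- The symplectic case. -/
lemma twoForm_symplectic {t : ℕ} (ht : 0 < t) (e : ι ≃ (Fin t → Fin 2)) (P : GL ι F)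
    (h : Odd t ∨ (2 : F) = 0) : IsSymplecticForm (twoForm e P) := by
  have hpow : (-1 : F) ^ t = -1 := by
    rcases h with h | h
    · exact h.neg_one_pow
    · rw [show (-1 : F) = 1 by linear_combination -h, one_pow]
  obtain ⟨G, hG⟩ : ∃ G, G = wr 1 (fun _ : Fin t => !![(0 : F), 1; -1, 0]) := ⟨_, rfl⟩
  have hskew : Gᵀ = -G := by rw [hG, twoForm_transpose, hpow, neg_smul, one_smul]
  refine ⟨twoForm_bilinear e P, fun v w => ?_, fun v => ?_, twoForm_nondegenerate e P⟩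
  · rw [twoForm, twoForm, ← hG, dotProduct_mulVec, dotProduct_comm, ← mulVec_transpose, hskew, neg_mulVec,
      dotProduct_neg]
  · rw [twoForm, ← hG]
    refine sum_mul_alternating hskew (fun x => ?_) _
    rw [hG, wr_apply]
    refine Finset.prod_eq_zero (Finset.mem_univ ⟨0, ht⟩) ?_
    rcases Fin.exists_fin_two.mp ⟨x ⟨0, ht⟩, rfl⟩ with hx | hx <;> simp [hx]

/-- The orthogonal case. -/
lemma twoForm_quadratic {t : ℕ} (e : ι ≃ (Fin t → Fin 2)) (P : GL ι F) (h : Even t) (h2 : (2 : F) ≠ 0) :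
    IsNondegenerateQuadraticForm (fun v => twoForm e P v v) ∧
      similarityGroup (twoForm e P) ≤ quadSimilarityGroup (fun v => twoForm e P v v) := by
  have hb := twoForm_bilinear e P
  have hsymm : ∀ u v, twoForm e P u v = twoForm e P v u := fun u v => by
    rw [twoForm, twoForm, dotProduct_mulVec, dotProduct_comm, ← mulVec_transpose, twoForm_transpose, h.neg_one_pow,
      one_smul]
  have hpolar : ∀ u v, QuadraticMap.polar (fun v => twoForm e P v v) u v = 2 * twoForm e P u v := fun u v => by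
    simp only [QuadraticMap.polar]
    rw [hb.add_left, hb.add_right, hb.add_right, hsymm v u]
    ring
  refine ⟨⟨fun c v => ?_, ⟨fun x y v => ?_, fun c x v => ?_, fun v x y => ?_, fun c v x => ?_⟩, fun v hv => ?_⟩, ?_⟩
  · rw [hb.smul_left, hb.smul_right]; ring
  · rw [hpolar, hpolar, hpolar, hb.add_left, mul_add]
  · rw [hpolar, hpolar, hb.smul_left]; ring
  · rw [hpolar, hpolar, hpolar, hb.add_right, mul_add]
  · rw [hpolar, hpolar, hb.smul_right]; ring
  · obtain ⟨⟨x, hx⟩, ⟨y, hy⟩⟩ := twoForm_nondegenerate e P v hv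
    exact ⟨⟨x, by rw [hpolar]; exact mul_ne_zero h2 hx⟩, ⟨y, by rw [hpolar]; exact mul_ne_zero h2 hy⟩⟩
  · rintro g ⟨c, hc⟩
    exact ⟨c, fun v => hc v v⟩

variable [Fintype F] {n : ℕ}

/-- Tensor wreath stabilisers lie in members of the linear classes. -/
theorem exists_linear_member_wreath {m t : ℕ} (hm : 2 ≤ m) (ht : 2 ≤ t) (e : Fin n ≃ (Fin t → Fin m))
    (P : GL (Fin n) F) : ∃ M, InLinearClass n F M ∧ tensorWreathSubgroup m t e P ≤ M := by
  by_cases hm3 : 3 ≤ m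
  · exact ⟨_, Or.inr (Or.inr (Or.inr (Or.inr (Or.inr (Or.inr (Or.inr (Or.inr (Or.inl
      ⟨m, t, e, P, hm3, ht, rfl⟩)))))))), le_rfl⟩
  obtain rfl : m = 2 := by omega
  have hn : n = 2 ^ t := by simpa using Fintype.card_congr e
  have h4 : 4 ≤ n := hn ▸ le_trans (by norm_num) (Nat.pow_le_pow_right (by norm_num) ht)
  have heven : Even n := hn ▸ (Nat.even_pow.mpr ⟨even_two, by omega⟩)
  by_cases h : Odd t ∨ (2 : F) = 0
  · exact ⟨_, Or.inr (Or.inr (Or.inr (Or.inr (Or.inr (Or.inr (Or.inr (Or.inr (Or.inr (Or.inl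
      ⟨twoForm e P, twoForm_symplectic (by omega) e P h, heven, h4, rfl⟩))))))))), tensorWreath_two_le e P⟩
  push Not at h
  obtain ⟨hQ, hle⟩ := twoForm_quadratic e P (Nat.not_odd_iff_even.mp h.1) h.2
  refine ⟨_, Or.inr (Or.inr (Or.inr (Or.inr (Or.inr (Or.inr (Or.inr (Or.inr (Or.inr (Or.inr (Or.inr
    ⟨_, hQ, ?_, by omega, rfl⟩)))))))))), (tensorWreath_two_le e P).trans hle⟩
  by_contra hodd
  have hchar : ringChar F = 2 :=
    FiniteField.even_card_iff_char_two.mpr (Nat.even_iff.mp (Nat.not_odd_iff_even.mp hodd))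
  refine h.2 ?_
  have := ringChar.Nat.cast_ringChar (R := F)
  rwa [hchar, Nat.cast_ofNat] at this

/-- Tensor product stabilisers lie in members of the linear classes. -/
theorem exists_linear_member_tensor {a b : ℕ} (ha : 2 ≤ a) (hb : 2 ≤ b) (e : Fin n ≃ Fin a × Fin b)
    (P : GL (Fin n) F) : ∃ M, InLinearClass n F M ∧ tensorProductSubgroup a b e P ≤ M := by
  rcases lt_trichotomy a b with h | rfl | h
  · exact ⟨_, Or.inr (Or.inr (Or.inr (Or.inr (Or.inr (Or.inl ⟨a, b, e, P, ha, h, rfl⟩))))), le_rfl⟩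
  · obtain ⟨M, hM, hle⟩ := exists_linear_member_wreath ha le_rfl (e.trans (piFinTwoEquiv fun _ => Fin a).symm) P
    exact ⟨M, hM, (tensorProduct_le_wreath e P).trans hle⟩
  · exact ⟨_, Or.inr (Or.inr (Or.inr (Or.inr (Or.inr (Or.inl ⟨b, a, _, P, hb, h, rfl⟩))))),
      tensorProduct_le_swap e P⟩

omit [Fintype F] in
/-- The normaliser of a group acting on one tensor factor only. -/
theorem le_tensorProduct {d k : ℕ} (hk : 0 < k) {H : Subgroup (GL ι F)} {e : ι ≃ Fin d × Fin k} {P : GL ι F}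
    {S : Set (Matrix ι ι F)} {ρ : S → Matrix (Fin d) (Fin d) F} (hρ : ActsAbsolutelyIrreducibly (Set.range ρ))
    (hP : ∀ x : S, toCoord e P (x : Matrix ι ι F) = ρ x ⊗ₖ (1 : Matrix (Fin k) (Fin k) F))
    (hd : 0 < d) (hN : ∀ h ∈ H, ∀ x ∈ S, (h : Matrix ι ι F) * x * ((h⁻¹ : GL ι F) : Matrix ι ι F) ∈ S) :
    H ≤ tensorProductSubgroup d k e P := by
  classical
  intro h hh
  haveI : Nonempty ι := ⟨e.symm (⟨0, hd⟩, ⟨0, hk⟩)⟩
  obtain ⟨G, Hm, -, hgH, -⟩ := exists_kronecker hρ (σ := fun x : S => ρ ⟨_, hN h hh _ x.2⟩)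
    (g := toCoord e P (h : Matrix ι ι F)) (fun x => by
      rw [← hP, ← hP, ← toCoord_mul, ← toCoord_mul]
      congr 1
      simp [mul_assoc]) (toCoord_ne_zero e P h)
  have hinj : Function.Injective Hm.mulVec := by
    intro u v huv
    have hbig : Function.Injective (toCoord e P (h : Matrix ι ι F)).mulVec := fun a b hab => by
      obtain ⟨a, rfl⟩ := (coordVec_bijective e P).2 a
      obtain ⟨b, rfl⟩ := (coordVec_bijective e P).2 b
      rw [← coordVec_mulVec, ← coordVec_mulVec] at hab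
      exact congrArg _ ((Matrix.mulVec_injective_iff_isUnit.mpr h.isUnit) ((coordVec_bijective e P).1 hab))
    have h1 := hbig (a₁ := fun p => if p.1 = (⟨0, hd⟩ : Fin d) then u p.2 else 0)
      (a₂ := fun p => if p.1 = (⟨0, hd⟩ : Fin d) then v p.2 else 0) (by
      rw [hgH, show (G : Matrix (Fin d) (Fin d) F) ⊗ₖ Hm = ((G : Matrix (Fin d) (Fin d) F) ⊗ₖ
        (1 : Matrix (Fin k) (Fin k) F)) * ((1 : Matrix (Fin d) (Fin d) F) ⊗ₖ Hm) by
          rw [← mul_kronecker_mul, Matrix.mul_one, Matrix.one_mul], ← mulVec_mulVec, ← mulVec_mulVec]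
      congr 1
      funext ⟨a, β⟩
      have e1 := congrFun (one_kronecker_mulVec Hm (fun p : Fin d × Fin k => if p.1 = ⟨0, hd⟩ then u p.2 else 0) a) β
      have e2 := congrFun (one_kronecker_mulVec Hm (fun p : Fin d × Fin k => if p.1 = ⟨0, hd⟩ then v p.2 else 0) a) β
      rw [e1, e2]
      by_cases ha : a = ⟨0, hd⟩
      · simp only [ha, if_true]; exact congrFun huv β
      · simp only [ha, if_false])
    funext β
    simpa using congrFun h1 (⟨0, hd⟩, β)
  obtain ⟨Hg, hHg⟩ := exists_gl_of_injective hinj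
  obtain ⟨z, hz⟩ : ∃ z : GL (Fin d × Fin k) F, (z : Matrix (Fin d × Fin k) (Fin d × Fin k) F) =
      (G : Matrix (Fin d) (Fin d) F) ⊗ₖ (Hg : Matrix (Fin k) (Fin k) F) :=
    ⟨⟨((G : Matrix (Fin d) (Fin d) F) ⊗ₖ (Hg : Matrix (Fin k) (Fin k) F)), ((G⁻¹ : GL (Fin d) F) : Matrix (Fin d) (Fin d) F) ⊗ₖ ((Hg⁻¹ : GL (Fin k) F) : Matrix (Fin k) (Fin k) F),
      by rw [← mul_kronecker_mul, Units.mul_inv, Units.mul_inv, one_kronecker_one],
      by rw [← mul_kronecker_mul, Units.inv_mul, Units.inv_mul, one_kronecker_one]⟩, rfl⟩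
  exact mem_of_toCoord (z := z) ⟨G, Hg, hz⟩ (by rw [hgH, hz, hHg])

end CfsgLib.Classical22.Asch
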