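/-
The components of a perfect minimal normal subgroup modulo scalars, and tensor wreath stabilisers.
-/
import Cfsg.Agent.Lib.Classical22.Asch.CentralProd
import Cfsg.Agent.Lib.Techniques.AschPrime.Cases
import Cfsg.Agent.Lib.Transvec.Stabilizer

set_option autoImplicit false

namespace CfsgLib.Classical22.Asch

open Matrix Cfsg.Geo CfsgLib.Classical22.TensorMono CfsgLib.Techniques.AschPrime
open scoped Kronecker MatrixGroups commutatorElement

variable {F : Type*} [Field F] [Finite F] {ι : Type} [Fintype ι] [DecidableEq ι]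

/-- Pairwise commuting perfect components permuted transitively. -/
structure CompData (H N : Subgroup (GL ι F)) {t : ℕ} (L : Fin t → Subgroup (GL ι F)) : Prop where
  le : ∀ i, L i ≤ N
  perfect : ∀ i, ⁅L i, L i⁆ = L i
  not_scalar : ∀ i, ¬ L i ≤ scalars ι F
  comm : ∀ i j, i ≠ j → ∀ x ∈ L i, ∀ y ∈ L j, x * y = y * x
  iSup_eq : ⨆ i, L i = N
  perm : ∀ h ∈ H, ∃ π : Equiv.Perm (Fin t), ∀ i, ∀ x ∈ L i, h * x * h⁻¹ ∈ L (π i)
  trans : ∀ i j, ∃ h ∈ H, (L i).map (MulAut.conj h).toMonoidHom = L j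
  simple : ∀ i M, M ≤ L i → NormalisedBy (L i) M → ¬ M ≤ scalars ι F → M = L i

/-- The components of a perfect minimal normal subgroup above the scalars. -/
theorem exists_components {H N : Subgroup (GL ι F)} (hN : NormalisedBy H N) (hperf : ⁅N, N⁆ = N)
    (hns : ¬ N ≤ scalars ι F)
    (hmin : ∀ M ≤ N, NormalisedBy H M → ¬ M ≤ scalars ι F → M = N) :
    ∃ (t : ℕ) (L : Fin t → Subgroup (GL ι F)), 0 < t ∧ CompData H N L := by
  classical
  haveI : Finite (Matrix ι ι F) := Module.finite_of_finite F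
  haveI : Finite (GL ι F) := Finite.of_injective _ Units.val_injective
  haveI : Finite (Subgroup (GL ι F)) := Finite.of_injective _ SetLike.coe_injective
  set Sc := scalars ι F with hSc
  obtain ⟨L₀, hL₀⟩ := (Set.toFinite {M : Subgroup (GL ι F) | M ≤ N ∧ NormalisedBy N M ∧ ¬ M ≤ Sc}).exists_minimal
    ⟨N, le_rfl, fun h hh x hx => N.mul_mem (N.mul_mem hh hx) (N.inv_mem hh), hns⟩
  obtain ⟨hL₀N, hL₀n, hL₀s⟩ := hL₀.prop
  obtain ⟨C, hC⟩ : ∃ C : Set (Subgroup (GL ι F)), C = {L | ∃ h ∈ H, L₀.map (MulAut.conj h).toMonoidHom = L} :=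
    ⟨_, rfl⟩
  obtain ⟨t, ⟨E⟩⟩ := Finite.exists_equiv_fin C
  obtain ⟨L, hL⟩ : ∃ L : Fin t → Subgroup (GL ι F), ∀ i, L i = (E.symm i : Subgroup (GL ι F)) := ⟨_, fun _ => rfl⟩
  have hLC : ∀ i, L i ∈ C := fun i => hL i ▸ (E.symm i).2
  have hLinj : Function.Injective L := fun i j hij => E.symm.injective (Subtype.ext (by rwa [← hL, ← hL]))
  have hLsurj : ∀ M ∈ C, ∃ i, L i = M := fun M hM => ⟨E ⟨M, hM⟩, by rw [hL, Equiv.symm_apply_apply]⟩
  have hone : L₀ ∈ C := by
    rw [hC]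
    exact ⟨1, H.one_mem, by
      ext x; simp only [Subgroup.mem_map, MulEquiv.coe_toMonoidHom, MulAut.conj_apply, inv_one, mul_one, one_mul,
        exists_eq_right]⟩
  obtain ⟨i₀, hi₀⟩ := hLsurj _ hone
  -- each member is again minimal
  have hmem : ∀ i, L i ≤ N ∧ NormalisedBy N (L i) ∧ ¬ L i ≤ Sc ∧
      ∀ M ≤ L i, NormalisedBy N M → ¬ M ≤ Sc → M = L i := by
    intro i
    have h0 := hLC i
    rw [hC] at h0
    obtain ⟨h, hh, hLi⟩ := h0
    rw [← hLi]
    refine ⟨?_, hL₀n.map_conj fun x hx => hN.inv_mem hh hx, fun hs => hL₀s fun x hx => ?_, fun M hM hMn hMs => ?_⟩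
    · rintro _ ⟨x, hx, rfl⟩
      exact hN h hh x (hL₀N hx)
    · have := Subgroup.Normal.conj_mem (Cfsg.Geo.scalars_normal) _ (hs ⟨x, hx, rfl⟩) h⁻¹
      simpa [mul_assoc] using this
    · obtain ⟨M₀, hM₀⟩ : ∃ M₀, M₀ = M.map (MulAut.conj h⁻¹).toMonoidHom := ⟨_, rfl⟩
      have hle : M₀ ≤ L₀ := by
        rw [hM₀]
        rintro _ ⟨x, hx, rfl⟩
        obtain ⟨y, hy, rfl⟩ := hM hx
        simpa [mul_assoc] using hy
      have heq : L₀ ≤ M₀ := hL₀.le_of_le ⟨hle.trans hL₀N, hM₀ ▸ hMn.map_conj (fun x hx => by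
          simpa [mul_assoc] using hN h hh x hx), fun hs => hMs fun x hx => by
          have h1 : h⁻¹ * x * h ∈ M₀ := hM₀ ▸ ⟨x, hx, by simp [mul_assoc]⟩
          have := Subgroup.Normal.conj_mem (Cfsg.Geo.scalars_normal) _ (hs h1) h
          simpa [mul_assoc] using this⟩ hle
      refine le_antisymm hM ?_
      rintro _ ⟨y, hy, rfl⟩
      obtain ⟨x, hx, hxy⟩ := hM₀ ▸ heq hy
      rw [← hxy]
      simpa [mul_assoc] using hx
  have hinf : ∀ i j, i ≠ j → L i ⊓ L j ≤ Sc := by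
    intro i j hij
    by_contra hs
    have hn : NormalisedBy N (L i ⊓ L j) := fun h hh x hx => ⟨(hmem i).2.1 h hh x hx.1, (hmem j).2.1 h hh x hx.2⟩
    have h1 := (hmem i).2.2.2 _ inf_le_left hn hs
    have h2 := (hmem j).2.2.2 _ inf_le_right hn hs
    exact hij (hLinj (h1.symm.trans h2))
  have hcommSc : ∀ i j, i ≠ j → ∀ x ∈ L i, ∀ y ∈ L j, y * x * y⁻¹ * x⁻¹ ∈ Sc := by
    intro i j hij x hx y hy
    refine hinf i j hij ⟨(L i).mul_mem ((hmem i).2.1 y ((hmem j).1 hy) x hx) ((L i).inv_mem hx), ?_⟩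
    rw [show y * x * y⁻¹ * x⁻¹ = y * (x * y⁻¹ * x⁻¹) by group]
    exact (L j).mul_mem hy ((hmem j).2.1 x ((hmem i).1 hx) _ ((L j).inv_mem hy))
  have hperm : ∀ h ∈ H, ∃ π : Equiv.Perm (Fin t), ∀ i, (L i).map (MulAut.conj h).toMonoidHom = L (π i) := by
    intro h hh
    have h1 : ∀ i, ∃ j, L j = (L i).map (MulAut.conj h).toMonoidHom := fun i => hLsurj _ (by
      have h0 := hLC i
      rw [hC] at h0 ⊢
      obtain ⟨k, hk, hLi⟩ := h0
      refine ⟨h * k, H.mul_mem hh hk, ?_⟩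
      rw [← hLi, Subgroup.map_map]
      congr 1
      ext x
      simp [mul_assoc])
    choose π hπ using h1
    have hinj : Function.Injective π := fun i j hij => hLinj (Subgroup.map_injective (MulAut.conj h).injective
      (by rw [← hπ, ← hπ, hij]))
    exact ⟨Equiv.ofBijective π (Finite.injective_iff_bijective.mp hinj), fun i => (hπ i).symm⟩
  have hsup : ⨆ i, L i = N := by
    refine hmin _ (iSup_le fun i => (hmem i).1) (fun h hh x hx => ?_) fun hs =>
      (hmem i₀).2.2.1 ((le_iSup L i₀).trans hs)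
    obtain ⟨π, hπ⟩ := hperm h hh
    have : (⨆ i, L i) ≤ (⨆ i, L i).comap (MulAut.conj h).toMonoidHom := iSup_le fun i => by
      rw [← Subgroup.map_le_iff_le_comap, hπ i]
      exact le_iSup L (π i)
    exact this hx
  have hLperf : ∀ i, ⁅L i, L i⁆ = L i := by
    suffices h0 : ⁅L₀, L₀⁆ = L₀ by
      intro i
      have hi := hLC i
      rw [hC] at hi
      obtain ⟨h, -, hLi⟩ := hi
      rw [← hLi, ← Subgroup.map_commutator, h0]
    have hle : ⁅L₀, L₀⁆ ≤ L₀ := Subgroup.commutator_le_self L₀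
    by_contra hne
    have hs : ⁅L₀, L₀⁆ ≤ Sc := by
      by_contra hs
      exact hne (le_antisymm hle (hL₀.le_of_le ⟨hle.trans hL₀N, hL₀n.comm_self, hs⟩ hle))
    have hall : ∀ i j, ∀ x ∈ L i, ∀ y ∈ L j, y * x * y⁻¹ * x⁻¹ ∈ Sc := by
      intro i j x hx y hy
      by_cases hij : i = j
      swap
      · exact hcommSc i j hij x hx y hy
      subst hij
      have hi := hLC i
      rw [hC] at hi
      obtain ⟨h, -, hLi⟩ := hi
      rw [← hLi] at hx hy
      obtain ⟨a, ha, rfl⟩ := hx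
      obtain ⟨b, hb, rfl⟩ := hy
      rw [← map_inv, ← map_inv, ← map_mul, ← map_mul, ← map_mul]
      exact Subgroup.Normal.conj_mem (Cfsg.Geo.scalars_normal) _
        (hs (Subgroup.commutator_mem_commutator hb ha)) h
    apply hns
    rw [← hperf, ← hsup, Subgroup.commutator_le]
    intro a ha b hb
    haveI := Cfsg.Geo.scalars_normal (ι := ι) (F := F)
    suffices hab : (QuotientGroup.mk' Sc) a * QuotientGroup.mk' Sc b = QuotientGroup.mk' Sc b * QuotientGroup.mk' Sc a by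
      rw [← QuotientGroup.eq_one_iff, ← QuotientGroup.mk'_apply, map_commutatorElement,
        commutatorElement_eq_one_iff_mul_comm]
      exact hab
    have hpair : ∀ i j, ∀ x ∈ L i, ∀ y ∈ L j,
        QuotientGroup.mk' Sc x * QuotientGroup.mk' Sc y = QuotientGroup.mk' Sc y * QuotientGroup.mk' Sc x := by
      intro i j x hx y hy
      have h1 := hall i j x hx y hy
      rw [← QuotientGroup.eq_one_iff, ← QuotientGroup.mk'_apply, map_mul, map_mul, map_mul, map_inv, map_inv,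
        mul_inv_eq_one, mul_inv_eq_iff_eq_mul] at h1
      exact h1.symm
    have hA : ∀ i, ∀ x ∈ L i, ∀ b ∈ ⨆ j, L j,
        QuotientGroup.mk' Sc x * QuotientGroup.mk' Sc b = QuotientGroup.mk' Sc b * QuotientGroup.mk' Sc x := by
      intro i x hx b hb
      have : (⨆ j, L j) ≤ (Subgroup.centralizer {QuotientGroup.mk' Sc x}).comap (QuotientGroup.mk' Sc) :=
        iSup_le fun j y hy => by
          rw [Subgroup.mem_comap, Subgroup.mem_centralizer_singleton_iff]
          exact (hpair i j x hx y hy).symm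
      exact (Subgroup.mem_centralizer_singleton_iff.mp (this hb)).symm
    have : (⨆ j, L j) ≤ (Subgroup.centralizer {QuotientGroup.mk' Sc b}).comap (QuotientGroup.mk' Sc) :=
      iSup_le fun j y hy => by
        rw [Subgroup.mem_comap, Subgroup.mem_centralizer_singleton_iff]
        exact hA j y hy b hb
    exact Subgroup.mem_centralizer_singleton_iff.mp (this ha)
  have hcomm : ∀ i j, i ≠ j → ∀ x ∈ L i, ∀ y ∈ L j, x * y = y * x := fun i j hij x hx y hy =>
    (comm_of_comm_mod_scalars (hLperf i) (fun z hz => hcommSc i j hij z hz y hy) x hx).symm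
  refine ⟨t, L, Fin.pos i₀, fun i => (hmem i).1, hLperf, fun i => (hmem i).2.2.1, hcomm, hsup,
    fun h hh => ?_, fun i j => ?_, fun i M hM hMn hMs => ?_⟩
  · obtain ⟨π, hπ⟩ := hperm h hh
    exact ⟨π, fun i x hx => hπ i ▸ ⟨x, hx, rfl⟩⟩
  · have hi := hLC i
    have hj := hLC j
    rw [hC] at hi hj
    obtain ⟨a, ha, hLi⟩ := hi
    obtain ⟨b, hb, hLj⟩ := hj
    refine ⟨b * a⁻¹, H.mul_mem hb (H.inv_mem ha), ?_⟩
    rw [← hLi, ← hLj, Subgroup.map_map]
    congr 1
    ext x
    simp [mul_assoc]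
  · refine (hmem i).2.2.2 M hM (fun g hg x hx => ?_) hMs
    have hgen : (⨆ j, L j) ≤ Subgroup.normalizer (M : Set (GL ι F)) := iSup_le fun j => by
      by_cases hji : j = i
      · subst hji; exact le_normalizer_of hMn
      · refine le_normalizer_of fun y hy z hz => ?_
        rw [hcomm j i hji y hy z (hM hz), mul_inv_cancel_right]
        exact hz
    rw [hsup] at hgen
    exact (Subgroup.mem_normalizer_iff.mp (hgen hg) x).mp hx

omit [Finite F] in
/-- In adapted coordinates every minimal invariant subspace has the dimension of the irreducible factor. -/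
lemma irrDim_of_coords {a k : ℕ} {S : Set (Matrix ι ι F)} {ρ : S → Matrix (Fin a) (Fin a) F} (ha : 0 < a)
    (hρ : ActsIrreducibly (Set.range ρ)) {e : ι ≃ Fin a × Fin k} {P : GL ι F}
    (hP : ∀ x : S, toCoord e P (x : Matrix ι ι F) = ρ x ⊗ₖ (1 : Matrix (Fin k) (Fin k) F)) : IrrDim a S := by
  classical
  intro W hW0 hW hmin
  obtain ⟨B, ρ', hBinj, hBr, hB, hρ'⟩ := exists_restrict hW hmin
  obtain ⟨g, hg⟩ : ∃ g : Matrix (Fin a × Fin k) (Fin (Module.finrank F W)) F,
      ∀ v, g *ᵥ v = coordVec e P (B *ᵥ v) :=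
    ⟨LinearMap.toMatrix' ((coordVec e P).comp B.mulVecLin), fun v => by
      rw [← Matrix.toLin'_apply, Matrix.toLin'_toMatrix']; rfl⟩
  have hgint : ∀ x : S, g * ρ' x = (ρ x ⊗ₖ (1 : Matrix (Fin k) (Fin k) F)) * g := fun x =>
    Matrix.ext_of_mulVec_single fun i => by
      rw [← mulVec_mulVec, ← mulVec_mulVec, hg, hg, ← hP, ← coordVec_mulVec, mulVec_mulVec, mulVec_mulVec, hB x]
  haveI : Nonempty (Fin (Module.finrank F W)) :=
    Fin.pos_iff_nonempty.mp (Nat.pos_of_ne_zero fun h => hW0 (Submodule.finrank_eq_zero.mp h))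
  obtain ⟨j⟩ := ‹Nonempty (Fin (Module.finrank F W))›
  obtain ⟨i, β, hib⟩ : ∃ i β, g (i, β) j ≠ 0 := by
    by_contra hc
    push Not at hc
    have h1 : g *ᵥ (Pi.single j 1 : Fin (Module.finrank F W) → F) = 0 := by
      rw [Matrix.mulVec_single_one]; funext p; exact hc p.1 p.2
    rw [hg] at h1
    have h2 := hBinj (((coordVec_bijective e P).1 (h1.trans (map_zero _).symm)).trans (mulVec_zero B).symm)
    simpa using congrFun h2 j
  obtain ⟨C, hC⟩ : ∃ C : Matrix (Fin a) (Fin (Module.finrank F W)) F, C = Matrix.of fun i j => g (i, β) j := ⟨_, rfl⟩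
  have hC0 : C ≠ 0 := fun h => hib (by
    have := congrFun (congrFun h i) j
    rwa [hC] at this)
  have hCint : ∀ x : S, C * ρ' x = ρ x * C := fun x => by
    ext p r
    have h := congrFun (congrFun (hgint x) (p, β)) r
    simp only [Matrix.mul_apply, Fintype.sum_prod_type, kronecker_apply, Matrix.one_apply, mul_ite, mul_one,
      mul_zero, ite_mul, zero_mul, Finset.sum_ite_eq, Finset.mem_univ, if_true] at h
    simpa [hC, Matrix.mul_apply] using h
  have h1 := intertwiner_injective hρ' hCint hC0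
  have h2 : LinearMap.range C.mulVecLin = ⊤ := (hρ _ (by
    rintro _ ⟨x, rfl⟩ _ ⟨_, ⟨v, rfl⟩, rfl⟩
    refine ⟨ρ' x *ᵥ v, ?_⟩
    rw [Matrix.mulVecLin_apply, Matrix.mulVecLin_apply, Matrix.toLin'_apply, mulVec_mulVec, hCint, mulVec_mulVec])).resolve_left
    fun h => hC0 (Matrix.ext_of_mulVec_single fun r => by
      rw [Matrix.zero_mulVec, ← Matrix.mulVecLin_apply]
      exact LinearMap.mem_range_self C.mulVecLin _ |> fun hm => by rw [h, Submodule.mem_bot] at hm; exact hm)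
  have h3 := card_le_of_injective h1
  have h4 := LinearMap.finrank_range_le C.mulVecLin
  rw [h2, finrank_top, Module.finrank_pi, Module.finrank_pi] at h4
  simp only [Fintype.card_fin] at h3 h4
  omega

omit [Finite F] in
/-- Conjugate sets have the same dimensions of irreducible subspaces. -/
lemma IrrDim.conj {m : ℕ} {S : Set (Matrix ι ι F)} (hS : IrrDim m S) (g : GL ι F) :
    IrrDim m ((fun s => (g : Matrix ι ι F) * s * ((g⁻¹ : GL ι F) : Matrix ι ι F)) '' S) := by
  intro W hW0 hW hmin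
  obtain ⟨φ, hφ⟩ : ∃ φ, φ = Matrix.toLin' ((g⁻¹ : GL ι F) : Matrix ι ι F) := ⟨_, rfl⟩
  have hinj : Function.Injective φ := hφ ▸ toLin'_injective_of_gl g⁻¹
  have hback : ∀ U : Submodule F (ι → F), (U.map (Matrix.toLin' (g : Matrix ι ι F))).map φ = U := fun U => by
    rw [hφ, ← Submodule.map_comp, ← Matrix.toLin'_mul, Units.inv_mul, Matrix.toLin'_one, Submodule.map_id]
  have hback' : ∀ U : Submodule F (ι → F), (U.map φ).map (Matrix.toLin' (g : Matrix ι ι F)) = U := fun U => by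
    rw [hφ, ← Submodule.map_comp, ← Matrix.toLin'_mul, Units.mul_inv, Matrix.toLin'_one, Submodule.map_id]
  rw [← (Submodule.equivMapOfInjective φ hinj W).finrank_eq.symm]
  refine hS (W.map φ) (fun h => hW0 (by rw [← hback' W, h, Submodule.map_bot])) (fun s hs => ?_)
    (fun U hU hU0 hUinv => ?_)
  · have h1 := Submodule.map_mono (f := φ) (hW _ ⟨s, hs, rfl⟩)
    rw [hφ, ← Submodule.map_comp, ← Matrix.toLin'_mul, ← Matrix.mul_assoc, ← Matrix.mul_assoc, Units.inv_mul,
      Matrix.one_mul, Matrix.toLin'_mul, Submodule.map_comp] at h1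
    rwa [hφ]
  · have h1 := hmin (U.map (Matrix.toLin' (g : Matrix ι ι F))) ((Submodule.map_mono hU).trans (hback' W).le)
      (fun h => hU0 (by rw [← hback U, h, Submodule.map_bot])) (by
        rintro _ ⟨s, hs, rfl⟩
        rw [← Submodule.map_comp, ← Matrix.toLin'_mul, Matrix.mul_assoc _ _ (g : Matrix ι ι F), Units.inv_mul,
          Matrix.mul_one, Matrix.toLin'_mul, Submodule.map_comp]
        exact Submodule.map_mono (hUinv s hs))
    rw [← hback U, h1]

/-- Tensor power coordinates adapted to the components. -/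
structure WreathData (H : Subgroup (GL ι F)) {t : ℕ} (L : Fin t → Subgroup (GL ι F)) (m : ℕ)
    (e : ι ≃ (Fin t → Fin m)) (P : GL ι F) (ρ : ∀ i, matrixSet (L i) → Matrix (Fin m) (Fin m) F) : Prop where
  two : 2 ≤ m
  absIrr : ∀ i, ActsAbsolutelyIrreducibly (Set.range (ρ i))
  coord : ∀ i (x : matrixSet (L i)), toCoord e P (x : Matrix ι ι F) = inj i (ρ i x)
  le : H ≤ tensorWreathSubgroup m t e P

/-- An absolutely irreducible group with several components gives a tensor wreath stabiliser. -/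
theorem exists_wreathData [Nonempty ι] {H N : Subgroup (GL ι F)} (hNabs : AbsIrr N) {t : ℕ}
    {L : Fin t → Subgroup (GL ι F)} (ht : 0 < t) (hL : CompData H N L) :
    ∃ (m : ℕ) (e : ι ≃ (Fin t → Fin m)) (P : GL ι F) (ρ : ∀ i, matrixSet (L i) → Matrix (Fin m) (Fin m) F),
      WreathData H L m e P ρ := by
  classical
  have hcomm : ∀ i j, i ≠ j → ∀ x ∈ matrixSet (L i), ∀ y ∈ matrixSet (L j), x * y = y * x := by
    rintro i j hij _ ⟨x, hx, rfl⟩ _ ⟨y, hy, rfl⟩
    show (x : Matrix ι ι F) * (y : Matrix ι ι F) = (y : Matrix ι ι F) * (x : Matrix ι ι F)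
    rw [← Units.val_mul, ← Units.val_mul, hL.comm i j hij x hx y hy]
  have habs : ActsAbsolutelyIrreducibly (⋃ i, matrixSet (L i)) := by
    refine ⟨fun W hW => (irr_iff N).mp hNabs.1 W ?_, fun M hM => hNabs.scalar ?_⟩
    · have hle : N ≤ subspaceStabilizer W := by
        rw [← hL.iSup_eq]
        refine iSup_le fun i x hx => ?_
        refine (CfsgLib.Transvec.mem_subspaceStabilizer_of_maps fun w hw => ?_)
        have := hW _ (Set.mem_iUnion.mpr ⟨i, x, hx, rfl⟩) ⟨w, hw, Matrix.toLin'_apply _ _⟩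
        exact this
      intro h hh w hw
      exact CfsgLib.Transvec.mulVec_mem_of_mem_subspaceStabilizer (hle hh) hw
    · intro s hs
      show M * (s : Matrix ι ι F) = (s : Matrix ι ι F) * M
      have hcl : N ≤ Subgroup.closure (⋃ i, (L i : Set (GL ι F))) := by
        rw [Subgroup.closure_iUnion, ← hL.iSup_eq]
        exact iSup_mono fun i => le_of_eq (Subgroup.closure_eq (L i)).symm
      refine Subgroup.closure_induction (p := fun (s : GL ι F) _ => M * (s : Matrix ι ι F) = (s : Matrix ι ι F) * M)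
        (fun x hx => ?_) (by simp) (fun x y _ _ hx hy => ?_) (fun x _ hx => ?_) (hcl hs)
      · obtain ⟨i, hi⟩ := Set.mem_iUnion.mp hx
        exact hM _ (Set.mem_iUnion.mpr ⟨i, x, hi, rfl⟩)
      · rw [Units.val_mul, ← mul_assoc, hx, mul_assoc, hy, ← mul_assoc]
      · have := congrArg (fun K => ((x⁻¹ : GL ι F) : Matrix ι ι F) * K * ((x⁻¹ : GL ι F) : Matrix ι ι F)) hx
        simp only [mul_assoc, Units.mul_inv, mul_one] at this
        rw [← mul_assoc _ (x : Matrix ι ι F), Units.inv_mul, one_mul] at this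
        exact this.symm
  obtain ⟨a, k, e₀, P₀, ρ₀, hk, hρ₀, hP₀, W, hW0, -, -, hWd⟩ :=
    exists_factor (S := matrixSet (L ⟨0, ht⟩)) (S' := ⋃ i ∈ ({j : Fin t | j ≠ ⟨0, ht⟩}), matrixSet (L i))
      (fun s hs s' hs' => by
        obtain ⟨i, hi, hs'⟩ := Set.mem_iUnion₂.mp hs'
        exact hcomm _ i (Ne.symm hi) s hs s' hs')
      (by
        rwa [show matrixSet (L ⟨0, ht⟩) ∪ (⋃ i ∈ ({j : Fin t | j ≠ ⟨0, ht⟩}), matrixSet (L i)) =
            ⋃ i, matrixSet (L i) by
          ext x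
          simp only [Set.mem_union, Set.mem_iUnion, Set.mem_setOf_eq, exists_prop]
          exact ⟨fun h => h.elim (fun h => ⟨_, h⟩) (fun ⟨i, _, h⟩ => ⟨i, h⟩), fun ⟨i, h⟩ => by
            by_cases hi : i = ⟨0, ht⟩
            · exact Or.inl (hi ▸ h)
            · exact Or.inr ⟨i, hi, h⟩⟩])
  have ha : 0 < a := hWd ▸ Nat.pos_of_ne_zero fun h => hW0 (Submodule.finrank_eq_zero.mp h)
  have hd0 : IrrDim a (matrixSet (L ⟨0, ht⟩)) :=
    irrDim_of_coords ha hρ₀.1 fun x => toCoord_eq_iff.mpr (hP₀ x)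
  have hdim : ∀ i, IrrDim a (matrixSet (L i)) := fun i => by
    obtain ⟨h, -, hmap⟩ := hL.trans ⟨0, ht⟩ i
    have : matrixSet (L i) =
        (fun s => (h : Matrix ι ι F) * s * ((h⁻¹ : GL ι F) : Matrix ι ι F)) '' matrixSet (L ⟨0, ht⟩) := by
      rw [← hmap, matrixSet, matrixSet, Subgroup.coe_map, Set.image_image, Set.image_image]
      rfl
    exact this ▸ hd0.conj h
  obtain ⟨e, P, ρ, hρ, hP⟩ := exists_power_coords a ha t (fun i => matrixSet (L i)) hcomm habs hdim
  haveI : Nonempty (Fin t → Fin a) := ⟨fun _ => ⟨0, ha⟩⟩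
  refine ⟨a, e, P, ρ, ?_, hρ, hP, fun h hh => ?_⟩
  · by_contra h2
    have ha1 : a = 1 := by omega
    subst ha1
    refine hL.not_scalar ⟨0, ht⟩ fun x hx => ?_
    obtain ⟨c, hc⟩ : ∃ c : F, ρ ⟨0, ht⟩ ⟨_, x, hx, rfl⟩ = c • (1 : Matrix (Fin 1) (Fin 1) F) :=
      ⟨ρ ⟨0, ht⟩ ⟨_, x, hx, rfl⟩ 0 0, by ext i j; simp [Fin.fin_one_eq_zero i, Fin.fin_one_eq_zero j]⟩
    refine mem_scalars_of_eq_smul (c := c) (toCoord_injective e P ?_)
    rw [hP ⟨0, ht⟩ ⟨_, x, hx, rfl⟩, hc, map_smul, inj_one]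
    simp only [toCoord, Matrix.mul_smul, Matrix.smul_mul, Matrix.mul_one, Units.inv_mul]
    rw [show (c • (1 : Matrix ι ι F)).submatrix e.symm e.symm = c • (1 : Matrix ι ι F).submatrix e.symm e.symm from rfl,
      Matrix.submatrix_one_equiv]
  · obtain ⟨π, hπ⟩ := hL.perm h hh
    refine mem_tensorWreath hρ ht (π := π) fun i x => ?_
    obtain ⟨x, hx, hxv⟩ := x.2
    refine ⟨⟨_, h * x * h⁻¹, hπ i x hx, rfl⟩, ?_⟩
    rw [← hP, ← hP, ← toCoord_mul, ← toCoord_mul]
    congr 1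
    rw [← hxv, ← Units.val_mul, ← Units.val_mul, inv_mul_cancel_right]

end CfsgLib.Classical22.Asch
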