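/-
Subgroups of the general linear group: geometric members, residual class, or an absolutely irreducible normal subgroup
of class two.
-/
import Cfsg.Agent.Lib.Classical22.Asch.Components
import Cfsg.Agent.Lib.Classical22.Asch.Members
import Cfsg.Agent.Lib.Techniques.AschGen.Clifford
import Cfsg.Agent.Lib.Techniques.AschGen.CoreMember
import Cfsg.Agent.Lib.Transvec.Stabilizer

set_option autoImplicit false

namespace CfsgLib.Classical22.Asch

open Matrix Cfsg.Geo CfsgLib.Techniques.AschPrime CfsgLib.Techniques.AschGen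
open scoped Kronecker MatrixGroups commutatorElement

variable {F : Type*} [Field F] {ι : Type} [Fintype ι] [DecidableEq ι]

/-- A minimal non-scalar normal subgroup. -/
lemma exists_minimal_normal [Finite F] {H : Subgroup (GL ι F)} (hHs : ¬ H ≤ scalars ι F) :
    ∃ N : Subgroup (GL ι F), N ≤ H ∧ NormalisedBy H N ∧ ¬ N ≤ scalars ι F ∧
      ∀ M ≤ N, NormalisedBy H M → ¬ M ≤ scalars ι F → M = N := by
  haveI : Finite (Matrix ι ι F) := Module.finite_of_finite F
  haveI : Finite (GL ι F) := Finite.of_injective _ Units.val_injective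
  haveI : Finite (Subgroup (GL ι F)) := Finite.of_injective _ SetLike.coe_injective
  obtain ⟨N, hN⟩ := (Set.toFinite {P : Subgroup (GL ι F) | P ≤ H ∧ NormalisedBy H P ∧ ¬ P ≤ scalars ι F}).exists_minimal
    ⟨H, le_rfl, fun h hh x hx => H.mul_mem (H.mul_mem hh hx) (H.inv_mem hh), hHs⟩
  obtain ⟨hNH, hNn, hNs⟩ := hN.prop
  exact ⟨N, hNH, hNn, hNs, fun M hM hMn hMs => le_antisymm hM (hN.le_of_le ⟨hM.trans hNH, hMn, hMs⟩ hM)⟩

lemma irr_not_scalar (h2 : 2 ≤ Fintype.card ι) {H : Subgroup (GL ι F)} (hH : Irr H) : ¬ H ≤ scalars ι F := by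
  intro hle
  haveI : Nonempty ι := Fintype.card_pos_iff.mp (by omega)
  have hne : (Pi.single (Classical.arbitrary ι) 1 : ι → F) ≠ 0 := by simp
  rcases (irr_iff H).mp hH (Submodule.span F {(Pi.single (Classical.arbitrary ι) 1 : ι → F)}) (fun h hh w hw => by
      obtain ⟨c, hc⟩ := (Cfsg.Geo.mem_scalars_iff h).mp (hle hh)
      rw [hc, Matrix.smul_mulVec, one_mulVec]
      exact Submodule.smul_mem _ _ hw) with h | h
  · exact hne (by simpa using h)
  · have h1 := congrArg (fun U : Submodule F (ι → F) => Module.finrank F U) h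
    rw [finrank_span_singleton hne, finrank_top, Module.finrank_pi] at h1
    omega

/-- Normal subgroups in Kronecker form: absolutely irreducible, or a proper tensor factorisation. -/
lemma kron_cases {H N : Subgroup (GL ι F)} (hN : NormalisedBy H N) (hNs : ¬ N ≤ scalars ι F)
    {d k : ℕ} {e : ι ≃ Fin d × Fin k} {P : GL ι F} {N₀ : Subgroup (GL (Fin d) F)} (hd : 0 < d) (hk : 0 < k)
    (habs : AbsIrr N₀) (hK : KronForm N e P N₀)
    (hK' : ∀ a ∈ N₀, ∃ x ∈ N, (x : Matrix ι ι F) = (P : Matrix ι ι F) *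
      Matrix.reindex e.symm e.symm ((a : Matrix (Fin d) (Fin d) F) ⊗ₖ (1 : Matrix (Fin k) (Fin k) F)) *
        ((P⁻¹ : GL ι F) : Matrix ι ι F)) :
    AbsIrr N ∨ (2 ≤ d ∧ 2 ≤ k ∧ ∃ ρ : matrixSet N → Matrix (Fin d) (Fin d) F,
      ActsAbsolutelyIrreducibly (Set.range ρ) ∧
      (∀ x : matrixSet N, toCoord e P (x : Matrix ι ι F) = ρ x ⊗ₖ (1 : Matrix (Fin k) (Fin k) F)) ∧
      H ≤ tensorProductSubgroup d k e P) := by
  classical
  haveI : Nonempty ι := ⟨e.symm (⟨0, hd⟩, ⟨0, hk⟩)⟩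
  have hcoord : ∀ {g : Matrix ι ι F} {a : Matrix (Fin d) (Fin d) F},
      g = (P : Matrix ι ι F) * Matrix.reindex e.symm e.symm (a ⊗ₖ (1 : Matrix (Fin k) (Fin k) F)) *
        ((P⁻¹ : GL ι F) : Matrix ι ι F) → toCoord e P g = a ⊗ₖ (1 : Matrix (Fin k) (Fin k) F) := fun {g a} h =>
    toCoord_eq_iff.mpr (by
      rw [h, Matrix.mul_assoc, Units.inv_mul, Matrix.mul_one, Matrix.reindex_apply, Equiv.symm_symm])
  have hinj : ∀ {X Y : Matrix (Fin d) (Fin d) F},
      X ⊗ₖ (1 : Matrix (Fin k) (Fin k) F) = Y ⊗ₖ (1 : Matrix (Fin k) (Fin k) F) → X = Y := fun {X Y} h => by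
    ext i j
    simpa using congrFun (congrFun h (i, ⟨0, hk⟩)) (j, ⟨0, hk⟩)
  have hx : ∀ x : matrixSet N, ∃ X, toCoord e P (x : Matrix ι ι F) = X ⊗ₖ (1 : Matrix (Fin k) (Fin k) F) := by
    rintro ⟨_, x, hx, rfl⟩
    obtain ⟨a, -, ha⟩ := hK x hx
    exact ⟨_, hcoord ha⟩
  choose ρ hρ using hx
  have himg : ∀ a ∈ N₀, ∃ x, ρ x = (a : Matrix (Fin d) (Fin d) F) := fun a ha => by
    obtain ⟨x, hx, hxa⟩ := hK' a ha
    exact ⟨⟨_, x, hx, rfl⟩, hinj ((hρ ⟨_, x, hx, rfl⟩).symm.trans (hcoord hxa))⟩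
  have hρabs : ActsAbsolutelyIrreducibly (Set.range ρ) := by
    have hsub : matrixSet N₀ ⊆ Set.range ρ := by
      rintro _ ⟨a, ha, rfl⟩
      exact himg a ha
    exact ⟨fun W hW => habs.1 W fun s hs => hW s (hsub hs), fun M hM => habs.2 M fun s hs => hM s (hsub hs)⟩
  by_cases hd1 : d = 1
  · subst hd1
    refine absurd (fun x hx => ?_) hNs
    obtain ⟨c, hc⟩ : ∃ c : F, ρ ⟨_, x, hx, rfl⟩ = c • (1 : Matrix (Fin 1) (Fin 1) F) :=
      ⟨ρ ⟨_, x, hx, rfl⟩ 0 0, by ext i j; simp [Fin.fin_one_eq_zero i, Fin.fin_one_eq_zero j]⟩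
    refine mem_scalars_of_eq_smul (c := c) (toCoord_injective e P ?_)
    rw [hρ ⟨_, x, hx, rfl⟩, hc, Matrix.smul_kronecker, one_kronecker_one]
    simp only [toCoord, Matrix.mul_smul, Matrix.smul_mul, Matrix.mul_one, Units.inv_mul]
    rw [show (c • (1 : Matrix ι ι F)).submatrix e.symm e.symm = c • (1 : Matrix ι ι F).submatrix e.symm e.symm from rfl,
      Matrix.submatrix_one_equiv]
  by_cases hk1 : k = 1
  · subst hk1
    left
    obtain ⟨Φ, hΦ⟩ : ∃ Φ : (Fin d → F) →ₗ[F] (ι → F), ∀ v, Φ v = (P : Matrix ι ι F) *ᵥ (fun i => v (e i).1) :=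
      ⟨(Matrix.toLin' (P : Matrix ι ι F)).comp (LinearMap.funLeft F F fun i => (e i).1), fun v => rfl⟩
    have hΦact : ∀ (x : matrixSet N) v, (x : Matrix ι ι F) *ᵥ Φ v = Φ (ρ x *ᵥ v) := fun x v => by
      rw [hΦ, hΦ, mulVec_mulVec, toCoord_eq_iff.mp (hρ x), ← mulVec_mulVec]
      congr 1
      funext i
      simp only [mulVec, dotProduct, Matrix.submatrix_apply, kronecker_apply]
      rw [← Equiv.sum_comp e.symm]
      simp [Fintype.sum_prod_type, Matrix.one_apply, Fin.fin_one_eq_zero]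
    have hΦsurj : Function.Surjective Φ := fun w => ⟨fun j => (((P⁻¹ : GL ι F) : Matrix ι ι F) *ᵥ w) (e.symm (j, 0)), by
      rw [hΦ]
      conv_rhs => rw [← one_mulVec w, ← Units.mul_inv P, ← mulVec_mulVec]
      congr 1
      funext i
      congr 1
      rw [Equiv.symm_apply_eq]
      exact Prod.ext rfl (Subsingleton.elim _ _)⟩
    refine ⟨fun W hW => ?_, fun M hM => ?_⟩
    · rcases hρabs.1 (W.comap Φ) (by
        rintro _ ⟨x, rfl⟩ _ ⟨v, hv, rfl⟩
        show Φ (Matrix.toLin' (ρ x) v) ∈ W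
        rw [Matrix.toLin'_apply, ← hΦact]
        exact hW _ x.2 ⟨_, hv, Matrix.toLin'_apply _ _⟩) with h | h
      · left
        rw [eq_bot_iff]
        intro w hw
        obtain ⟨v, rfl⟩ := hΦsurj w
        have h1 : v ∈ W.comap Φ := hw
        rw [h, Submodule.mem_bot] at h1
        rw [Submodule.mem_bot, h1, map_zero]
      · right
        rw [eq_top_iff]
        intro w _
        obtain ⟨v, rfl⟩ := hΦsurj w
        exact (h ▸ Submodule.mem_top : v ∈ W.comap Φ)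
    · obtain ⟨H', hH'⟩ := exists_one_kronecker hρabs (g := toCoord e P M) fun x => by
        rw [← hρ, ← toCoord_mul, ← toCoord_mul, hM _ x.2]
      refine ⟨H' 0 0, toCoord_injective e P ?_⟩
      rw [hH']
      simp only [toCoord, Matrix.mul_smul, Matrix.smul_mul, Matrix.mul_one, Units.inv_mul]
      rw [show (H' 0 0 • (1 : Matrix ι ι F)).submatrix e.symm e.symm = H' 0 0 • (1 : Matrix ι ι F).submatrix e.symm e.symm
        from rfl, Matrix.submatrix_one_equiv, show H' = H' 0 0 • (1 : Matrix (Fin 1) (Fin 1) F) by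
          ext i j; simp [Fin.fin_one_eq_zero i, Fin.fin_one_eq_zero j], Matrix.kronecker_smul, one_kronecker_one]
      simp
  refine Or.inr ⟨by omega, by omega, ρ, hρabs, hρ, le_tensorProduct hk hρabs hρ hd fun h hh => ?_⟩
  rintro _ ⟨x, hx, rfl⟩
  exact ⟨h * x * h⁻¹, hN h hh x hx, by simp [Units.val_mul]⟩

/-- A perfect absolutely irreducible minimal normal subgroup: tensor member or simple socle. -/
theorem perfect_cases [Fintype F] {n : ℕ} [Nonempty (Fin n)] {H N : Subgroup (GL (Fin n) F)} (hNH : N ≤ H)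
    (hN : NormalisedBy H N) (hNs : ¬ N ≤ scalars (Fin n) F)
    (hmin : ∀ M ≤ N, NormalisedBy H M → ¬ M ≤ scalars (Fin n) F → M = N) (hperf : ⁅N, N⁆ = N) (habs : AbsIrr N) :
    (∃ M, InLinearClass n F M ∧ H ≤ M) ∨ CoreData H N := by
  obtain ⟨t, L, ht, hL⟩ := exists_components hN hperf hNs hmin
  by_cases h2 : 2 ≤ t
  · obtain ⟨m, e, P, ρ, hW⟩ := exists_wreathData habs ht hL
    obtain ⟨M, hM, hle⟩ := exists_linear_member_wreath hW.two h2 e P
    exact Or.inl ⟨M, hM, hW.le.trans hle⟩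
  obtain rfl : t = 1 := by omega
  have hL0 : L 0 = N := by rw [← hL.iSup_eq, iSup_unique]; rfl
  refine Or.inr ⟨hNH, hN, hperf, isSimpleGroup_quot hperf hNs fun M hM hMn hMs => ?_, not_comm_quot hperf hNs,
    fun h _ hc => habs.mem_scalars (comm_of_comm_mod_scalars hperf hc), habs⟩
  exact (hL.simple 0 M (hL0 ▸ hM) (hL0 ▸ hMn) hMs).trans hL0

/-- A subgroup of the general linear group in dimension at least 3: a geometric member, the residual class, or an
absolutely irreducible minimal normal subgroup of class two. -/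
theorem linear_cases [Fintype F] {n : ℕ} (hn : 3 ≤ n) (H : Subgroup (GL (Fin n) F)) :
    (∃ M, InLinearClass n F M ∧ H ≤ M) ∨ InLinearResidualClass H ∨
      (Irr H ∧ ∃ N : Subgroup (GL (Fin n) F), N ≤ H ∧ NormalisedBy H N ∧ ¬ N ≤ scalars (Fin n) F ∧
        (∀ M ≤ N, NormalisedBy H M → ¬ M ≤ scalars (Fin n) F → M = N) ∧ AbsIrr N ∧
        ⁅N, N⁆ ≤ scalars (Fin n) F) := by
  haveI : Nonempty (Fin n) := ⟨⟨0, by omega⟩⟩
  by_cases hI : Irr H
  swap
  · rw [irr_iff] at hI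
    push Not at hI
    obtain ⟨W, hW, hW0, hW1⟩ := hI
    exact Or.inl ⟨_, Or.inl ⟨W, hW0, hW1, rfl⟩,
      fun h hh => CfsgLib.Transvec.mem_subspaceStabilizer_of_maps (hW h hh)⟩
  obtain ⟨N, hNH, hN, hNs, hmin⟩ := exists_minimal_normal (irr_not_scalar (by rw [Fintype.card_fin]; omega) hI)
  rcases clifford_gen hI hN with ⟨t, m, D, hD, hle⟩ | ⟨r, K, hr, hK, hle⟩ |
    ⟨d, k, e, P, N₀, hd, hk, habs, hK, hK'⟩
  · exact Or.inl ⟨_, Or.inr (Or.inr (Or.inr (Or.inl ⟨t, m, D, hD, rfl⟩))), hle⟩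
  · exact Or.inl ⟨_, Or.inr (Or.inr (Or.inr (Or.inr (Or.inl ⟨r, K, hr, hK, rfl⟩)))), hle⟩
  rcases kron_cases hN hNs hd hk habs hK hK' with hNabs | ⟨hd2, hk2, -, -, -, hle⟩
  swap
  · obtain ⟨M, hM, hMle⟩ := exists_linear_member_tensor hd2 hk2 e P
    exact Or.inl ⟨M, hM, hle.trans hMle⟩
  by_cases hperf : ⁅N, N⁆ = N
  · rcases perfect_cases hNH hN hNs hmin hperf hNabs with h | h
    · exact Or.inl h
    · exact (core_member hn h).imp id Or.inl
  refine Or.inr (Or.inr ⟨hI, N, hNH, hN, hNs, hmin, hNabs, ?_⟩)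
  by_contra hc
  refine hperf (hmin _ (Subgroup.commutator_le.mpr fun a ha b hb =>
    N.mul_mem (N.mul_mem (N.mul_mem ha hb) (N.inv_mem ha)) (N.inv_mem hb)) (fun h hh x hx => ?_) hc)
  have hle : ⁅N, N⁆ ≤ (⁅N, N⁆).comap (MulAut.conj h).toMonoidHom := Subgroup.commutator_le.mpr fun a ha b hb => by
    rw [Subgroup.mem_comap, map_commutatorElement]
    exact Subgroup.commutator_mem_commutator (hN h hh a ha) (hN h hh b hb)
  exact hle hx

end CfsgLib.Classical22.Asch
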