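/-
Gram matrices of forms in coordinates; forms given by Gram matrices.
-/
import Cfsg.Agent.Lib.Classical22.Asch.Coords
import Cfsg.Agent.Lib.Classical22.Asch.CentralProd
import Cfsg.Agent.Lib.Techniques.AschPrime.Descent

set_option autoImplicit false

namespace CfsgLib.Classical22.Asch

open Matrix Cfsg.Geo CfsgLib.Classical22.TensorMono
open scoped Kronecker MatrixGroups

variable {F : Type*} [Field F] {ι κ : Type} [Fintype ι] [DecidableEq ι] [Fintype κ] [DecidableEq κ] {σ : F ≃+* F}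

/-- A form read in the coordinates `(e, P)`. -/
def coordForm (e : ι ≃ κ) (P : GL ι F) (f : (ι → F) → (ι → F) → F) (x y : κ → F) : F :=
  f ((P : Matrix ι ι F) *ᵥ (x ∘ e)) ((P : Matrix ι ι F) *ᵥ (y ∘ e))

/-- The Gram matrix of a form in the coordinates `(e, P)`. -/
def fGram (e : ι ≃ κ) (P : GL ι F) (f : (ι → F) → (ι → F) → F) : Matrix κ κ F := gramMatrix (coordForm e P f)

section coord

variable {e : ι ≃ κ} {P : GL ι F} {f : (ι → F) → (ι → F) → F}

lemma isSesq_coordForm (hf : Techniques.AschPrime.IsSesq σ f) :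
    Techniques.AschPrime.IsSesq σ (coordForm e P f) where
  add_left x y v := by rw [coordForm, coordForm, coordForm, ← hf.add_left, ← mulVec_add]; rfl
  smul_left c x v := by rw [coordForm, coordForm, ← hf.smul_left, ← mulVec_smul]; rfl
  add_right v x y := by rw [coordForm, coordForm, coordForm, ← hf.add_right, ← mulVec_add]; rfl
  smul_right c v x := by rw [coordForm, coordForm, ← hf.smul_right, ← mulVec_smul]; rfl

lemma mulVec_coordVec (v : ι → F) : (P : Matrix ι ι F) *ᵥ (coordVec e P v ∘ e) = v := by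
  rw [coordVec_apply, Function.comp_assoc, Equiv.symm_comp_self, Function.comp_id, mulVec_mulVec, Units.mul_inv,
    one_mulVec]

lemma nondegenerate_coordForm (hnd : IsNondegenerateForm f) : IsNondegenerateForm (coordForm e P f) := by
  intro w hw
  have hne : (P : Matrix ι ι F) *ᵥ (w ∘ e) ≠ 0 := fun h => hw (by
    have h1 := congrArg (((P⁻¹ : GL ι F) : Matrix ι ι F) *ᵥ ·) h
    simp only [mulVec_mulVec, Units.inv_mul, one_mulVec, mulVec_zero] at h1
    funext i
    simpa using congrFun h1 (e.symm i))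
  obtain ⟨⟨x, hx⟩, ⟨y, hy⟩⟩ := hnd _ hne
  exact ⟨⟨coordVec e P x, by rwa [coordForm, mulVec_coordVec]⟩, ⟨coordVec e P y, by rwa [coordForm, mulVec_coordVec]⟩⟩

lemma fGram_det_ne_zero (hf : Techniques.AschPrime.IsSesq σ f) (hnd : IsNondegenerateForm f) :
    (fGram e P f).det ≠ 0 :=
  (isSesq_coordForm hf).gram_det_ne_zero (nondegenerate_coordForm hnd)

lemma coord_formula (hf : Techniques.AschPrime.IsSesq σ f) (x y : κ → F) :
    f ((P : Matrix ι ι F) *ᵥ (x ∘ e)) ((P : Matrix ι ι F) *ᵥ (y ∘ e)) = x ⬝ᵥ (fGram e P f *ᵥ (σ ∘ y)) :=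
  (isSesq_coordForm (e := e) (P := P) hf).eq_gram x y

/-- The Gram matrix under a similarity. -/
lemma fGram_similarity (hf : Techniques.AschPrime.IsSesq σ f) {g : Matrix ι ι F} {c : F}
    (hg : ∀ u v, f (g *ᵥ u) (g *ᵥ v) = c * f u v) :
    (toCoord e P g)ᵀ * fGram e P f * (toCoord e P g).map σ = c • fGram e P f := by
  have hs := isSesq_coordForm (e := e) (P := P) hf
  have hval : ∀ x, (P : Matrix ι ι F) *ᵥ ((toCoord e P g *ᵥ x) ∘ e) = g *ᵥ ((P : Matrix ι ι F) *ᵥ (x ∘ e)) := fun x => by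
    obtain ⟨v, rfl⟩ := (coordVec_bijective e P).2 x
    rw [← coordVec_mulVec, mulVec_coordVec, mulVec_coordVec]
  rw [fGram, ← hs.gram_comp]
  ext a b
  rw [Matrix.smul_apply, smul_eq_mul]
  simp only [gramMatrix, coordForm, hval, hg]

end coord

/-! ### Forms given by a Gram matrix -/

lemma formOfGram_apply (G : Matrix κ κ F) (x y : κ → F) :
    formOfGram σ G x y = x ⬝ᵥ (G *ᵥ (σ ∘ y)) := by
  simp only [formOfGram, dotProduct, mulVec, Finset.mul_sum, Function.comp_apply, mul_assoc]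

lemma isSesq_formOfGram (G : Matrix κ κ F) : Techniques.AschPrime.IsSesq σ (formOfGram σ G) where
  add_left x y v := by rw [formOfGram_apply, formOfGram_apply, formOfGram_apply, add_dotProduct]
  smul_left c x v := by rw [formOfGram_apply, formOfGram_apply, smul_dotProduct, smul_eq_mul]
  add_right v x y := by
    rw [formOfGram_apply, formOfGram_apply, formOfGram_apply, ← dotProduct_add, ← mulVec_add]
    congr 2; funext i; simp
  smul_right c v x := by
    rw [formOfGram_apply, formOfGram_apply, ← smul_eq_mul, ← dotProduct_smul, ← mulVec_smul]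
    congr 2; funext i; simp

lemma gram_formOfGram (G : Matrix κ κ F) : gramMatrix (formOfGram σ G) = G := by
  ext a b
  rw [gramMatrix, formOfGram_apply, single_one_dotProduct,
    show σ ∘ (Pi.single b 1 : κ → F) = Pi.single b 1 by
      funext i; by_cases h : i = b
      · subst h; simp
      · simp [h],
    mulVec_single_one]
  rfl

lemma formOfGram_nondegenerate {G : Matrix κ κ F} (hG : G.det ≠ 0) : IsNondegenerateForm (formOfGram σ G) := by
  have hU : IsUnit G := (Matrix.isUnit_iff_isUnit_det G).mpr (Ne.isUnit hG)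
  intro v hv
  have hσv : (σ ∘ v : κ → F) ≠ 0 := fun h => hv (funext fun i => σ.injective (by simpa using congrFun h i))
  constructor
  · obtain ⟨i, hi⟩ := Function.ne_iff.mp
      (fun h => hσv (Matrix.mulVec_injective_iff_isUnit.mpr hU (h.trans (mulVec_zero G).symm)) :
        G *ᵥ (σ ∘ v) ≠ 0)
    exact ⟨Pi.single i 1, by rw [formOfGram_apply, single_one_dotProduct]; exact hi⟩
  · obtain ⟨i, hi⟩ := Function.ne_iff.mp
      (fun h => hv (Matrix.vecMul_injective_iff_isUnit.mpr hU (h.trans (zero_vecMul G).symm)) : v ᵥ* G ≠ 0)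
    refine ⟨Pi.single i 1, ?_⟩
    rw [formOfGram_apply, show σ ∘ (Pi.single i 1 : κ → F) = Pi.single i 1 by
      funext j; by_cases h : j = i
      · subst h; simp
      · simp [h], dotProduct_mulVec, dotProduct_single_one]
    exact hi

/-- A form with symmetric Gram matrix. -/
lemma formOfGram_symmetric {G : Matrix κ κ F} (hG : G.det ≠ 0) (h : Gᵀ = G) :
    IsSymmetricForm (formOfGram (id : F → F) G) := by
  have hs := isSesq_formOfGram (σ := RingEquiv.refl F) G
  refine ⟨⟨hs.add_left, hs.smul_left, hs.add_right, fun c v x => by simpa using hs.smul_right c v x⟩, fun u v => ?_,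
    formOfGram_nondegenerate (σ := RingEquiv.refl F) hG⟩
  show formOfGram (RingEquiv.refl F) G u v = formOfGram (RingEquiv.refl F) G v u
  rw [formOfGram_apply, formOfGram_apply]
  show u ⬝ᵥ (G *ᵥ v) = v ⬝ᵥ (G *ᵥ u)
  rw [dotProduct_mulVec, dotProduct_comm, ← mulVec_transpose, h]

/-- A form with skew Gram matrix, in odd characteristic. -/
lemma formOfGram_symplectic {G : Matrix κ κ F} (hG : G.det ≠ 0) (h : Gᵀ = -G) (h2 : (2 : F) ≠ 0) :
    IsSymplecticForm (formOfGram (id : F → F) G) := by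
  have hs := isSesq_formOfGram (σ := RingEquiv.refl F) G
  have hskew : ∀ u v, formOfGram (RingEquiv.refl F) G u v = -formOfGram (RingEquiv.refl F) G v u := fun u v => by
    rw [formOfGram_apply, formOfGram_apply]
    show u ⬝ᵥ (G *ᵥ v) = -(v ⬝ᵥ (G *ᵥ u))
    rw [dotProduct_mulVec, dotProduct_comm, ← mulVec_transpose, h, neg_mulVec, dotProduct_neg]
  refine ⟨⟨hs.add_left, hs.smul_left, hs.add_right, fun c v x => by simpa using hs.smul_right c v x⟩, hskew,
    fun v => ?_, formOfGram_nondegenerate (σ := RingEquiv.refl F) hG⟩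
  have h1 := hskew v v
  exact (mul_eq_zero.mp (show (2 : F) * formOfGram (RingEquiv.refl F) G v v = 0 by linear_combination h1)).resolve_left h2

/-- A form with hermitian Gram matrix. -/
lemma formOfGram_unitary {q : ℕ} (hσq : ∀ x, σ x = x ^ q) (hinv : ∀ x, σ (σ x) = x) {G : Matrix κ κ F}
    (hG : G.det ≠ 0) (h : Gᵀ.map σ = G) : IsUnitaryFormPow q (formOfGram (fun x : F => x ^ q) G) := by
  have hσ : (fun x : F => x ^ q) = σ := funext fun x => (hσq x).symm
  rw [hσ]
  have hs := isSesq_formOfGram (σ := σ) G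
  refine ⟨hs.add_left, hs.smul_left, fun v w => ?_, formOfGram_nondegenerate hG⟩
  rw [← hσq, formOfGram, formOfGram]
  simp only [map_sum, map_mul, hinv]
  rw [Finset.sum_comm]
  refine Finset.sum_congr rfl fun a _ => Finset.sum_congr rfl fun b _ => ?_
  have h1 := congrFun (congrFun h b) a
  rw [Matrix.map_apply, transpose_apply] at h1
  rw [← h1]
  ring

/-- The symmetry of a form passes to its Gram matrix. -/
lemma fGram_transpose {e : ι ≃ κ} {P : GL ι F} {f : (ι → F) → (ι → F) → F} {ε : F}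
    (h : ∀ u v, σ (f v u) = ε * f u v) : (fGram e P f)ᵀ.map σ = ε • fGram e P f := by
  ext a b
  simp only [Matrix.map_apply, transpose_apply, Matrix.smul_apply, smul_eq_mul, fGram, gramMatrix, coordForm, h]

/-- The symmetry of a Kronecker product passes to the factors. -/
lemma split_symmetry {A B : Type} [Fintype A] [Fintype B] {G₁ : Matrix A A F} {G₂ : Matrix B B F} (h1 : G₁ ≠ 0)
    (h2 : G₂ ≠ 0) {ε : F} (hε : ε ≠ 0) (hinv : ∀ x, σ (σ x) = x)
    (h : (G₁ ⊗ₖ G₂)ᵀ.map σ = ε • (G₁ ⊗ₖ G₂)) :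
    ∃ l m : F, l * m = ε ∧ G₁ᵀ.map σ = l • G₁ ∧ G₂ᵀ.map σ = m • G₂ ∧ σ l * l = 1 := by
  obtain ⟨a, ha⟩ := Function.ne_iff.mp h1
  obtain ⟨a', ha'⟩ := Function.ne_iff.mp ha
  obtain ⟨b, hb⟩ := Function.ne_iff.mp h2
  obtain ⟨b', hb'⟩ := Function.ne_iff.mp hb
  have he : ∀ i j k l, σ (G₁ j i) * σ (G₂ l k) = ε * (G₁ i j * G₂ k l) := fun i j k l => by
    have := congrFun (congrFun h (i, k)) (j, l)
    simpa [Matrix.smul_apply] using this
  simp only [Matrix.zero_apply, Pi.zero_apply] at ha' hb'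
  have hga : σ (G₁ a' a) ≠ 0 := fun h0 => by
    have h1 := he a a' b b'
    rw [h0, zero_mul] at h1
    exact mul_ne_zero hε (mul_ne_zero ha' hb') h1.symm
  have hgb : σ (G₂ b' b) ≠ 0 := fun h0 => by
    have h1 := he a a' b b'
    rw [h0, mul_zero] at h1
    exact mul_ne_zero hε (mul_ne_zero ha' hb') h1.symm
  obtain ⟨l, hl⟩ : ∃ l, l = ε * G₂ b b' / σ (G₂ b' b) := ⟨_, rfl⟩
  obtain ⟨m, hm⟩ : ∃ m, m = ε * G₁ a a' / σ (G₁ a' a) := ⟨_, rfl⟩
  have hG1 : G₁ᵀ.map σ = l • G₁ := by
    ext i j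
    rw [Matrix.map_apply, transpose_apply, Matrix.smul_apply, smul_eq_mul, hl, div_mul_eq_mul_div, eq_div_iff hgb]
    linear_combination he i j b b'
  have hG2 : G₂ᵀ.map σ = m • G₂ := by
    ext i j
    rw [Matrix.map_apply, transpose_apply, Matrix.smul_apply, smul_eq_mul, hm, div_mul_eq_mul_div, eq_div_iff hga]
    linear_combination he a a' i j
  refine ⟨l, m, ?_, hG1, hG2, ?_⟩
  · rw [hl, hm, div_mul_div_comm, div_eq_iff (mul_ne_zero hgb hga)]
    linear_combination (-ε) * he a a' b b'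
  · have e1 := congrFun (congrFun hG1 a') a
    have e2 := congrFun (congrFun hG1 a) a'
    rw [Matrix.map_apply, transpose_apply, Matrix.smul_apply, smul_eq_mul] at e1 e2
    have e3 : σ l * σ (G₁ a' a) = G₁ a a' * 1 := by rw [← map_mul, ← e1, hinv, mul_one]
    rw [e2, ← mul_assoc] at e3
    exact mul_right_cancel₀ ha' (by linear_combination e3)

/-- Rescaling makes a factor hermitian. -/
lemma exists_hermitian_scale (hne : σ ≠ RingEquiv.refl F) (hinv : ∀ x, σ (σ x) = x) {l : F} (hl : σ l * l = 1) :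
    ∃ ν : F, ν ≠ 0 ∧ σ ν * l = ν := by
  by_cases h : l + 1 = 0
  · obtain ⟨c, hc⟩ : ∃ c, σ c ≠ c := by
      by_contra hc
      push Not at hc
      exact hne (RingEquiv.ext hc)
    refine ⟨c - σ c, sub_ne_zero.mpr (Ne.symm hc), ?_⟩
    rw [map_sub, hinv, show l = -1 by linear_combination h]
    ring
  · refine ⟨l + 1, h, ?_⟩
    rw [map_add, map_one]
    linear_combination hl

end CfsgLib.Classical22.Asch
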