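/-
Forms fixed by groups acting on tensor factors are tensor products of forms.
-/
import Cfsg.Agent.Lib.Classical22.Asch.Gram

set_option autoImplicit false

namespace CfsgLib.Classical22.Asch

open Matrix Cfsg.Geo CfsgLib.Classical22.TensorMono
open scoped Kronecker MatrixGroups

variable {F : Type*} [Field F] {ι : Type} [Fintype ι] [DecidableEq ι] {σ : F ≃+* F}

/-- A field automorphism applied entrywise keeps absolute irreducibility. -/
lemma absIrr_map {I : Type} [Fintype I] [DecidableEq I] {N : Type*} {ρ : N → Matrix I I F}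
    (hρ : ActsAbsolutelyIrreducibly (Set.range ρ)) :
    ActsAbsolutelyIrreducibly (Set.range fun x => (ρ x).map σ) := by
  have hmv : ∀ x (v : I → F), (ρ x).map σ *ᵥ (σ ∘ v) = σ ∘ (ρ x *ᵥ v) := fun x v => by
    funext i
    simp [mulVec, dotProduct, map_sum, map_mul]
  refine ⟨fun W hW => ?_, fun M hM => ?_⟩
  · obtain ⟨V, hV⟩ : ∃ V : Submodule F (I → F), ∀ v, v ∈ V ↔ σ ∘ v ∈ W :=
      ⟨{ carrier := {v | σ ∘ v ∈ W}
         zero_mem' := by
           show σ ∘ (0 : I → F) ∈ W
           convert W.zero_mem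
           funext i; simp
         add_mem' := fun {u v} hu hv => by
           show σ ∘ (u + v) ∈ W
           convert W.add_mem hu hv
           funext i; simp
         smul_mem' := fun c v hv => by
           show σ ∘ (c • v) ∈ W
           convert W.smul_mem (σ c) hv
           funext i; simp }, fun v => Iff.rfl⟩
    rcases hρ.1 V (by
      rintro _ ⟨x, rfl⟩ _ ⟨v, hv, rfl⟩
      rw [SetLike.mem_coe, hV] at hv
      rw [hV, Matrix.toLin'_apply, ← hmv]
      exact hW _ ⟨x, rfl⟩ ⟨_, hv, Matrix.toLin'_apply _ _⟩) with h | h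
    · left
      rw [eq_bot_iff]
      intro w hw
      have h1 : (σ.symm ∘ w) ∈ V := by
        rw [hV, show σ ∘ (σ.symm ∘ w) = w from funext fun i => σ.apply_symm_apply _]; exact hw
      rw [h, Submodule.mem_bot] at h1
      rw [Submodule.mem_bot]
      funext i
      simpa using congrFun h1 i
    · right
      rw [eq_top_iff]
      intro w _
      have h1 : (σ.symm ∘ w) ∈ V := h ▸ Submodule.mem_top
      rwa [hV, show σ ∘ (σ.symm ∘ w) = w from funext fun i => σ.apply_symm_apply _] at h1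
  · obtain ⟨c, hc⟩ := hρ.2 (M.map σ.symm) (by
      rintro _ ⟨x, rfl⟩
      have h1 := congrArg (fun K : Matrix I I F => K.map σ.symm) (hM _ ⟨x, rfl⟩)
      rw [Matrix.map_mul, Matrix.map_mul] at h1
      have h2 : ((ρ x).map σ).map σ.symm = ρ x := by ext i j; simp
      rwa [h2] at h1)
    refine ⟨σ c, Matrix.ext fun i j => ?_⟩
    have h3 := congrArg σ (congrFun (congrFun hc i) j)
    rw [Matrix.map_apply, σ.apply_symm_apply] at h3
    rw [h3]
    by_cases hij : i = j <;> simp [hij]

variable {f : (ι → F) → (ι → F) → F}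

/-- The Gram matrix of a form fixed by a group acting on one factor. -/
theorem exists_tensor_gram {d k : ℕ} (hd : 0 < d) (hk : 0 < k) (hf : Techniques.AschPrime.IsSesq σ f)
    (hnd : IsNondegenerateForm f) {S : Set (Matrix ι ι F)} (hfix : FixesForm S f) {e : ι ≃ Fin d × Fin k} {P : GL ι F}
    {ρ : S → Matrix (Fin d) (Fin d) F} (hρ : ActsAbsolutelyIrreducibly (Set.range ρ))
    (hP : ∀ x : S, toCoord e P (x : Matrix ι ι F) = ρ x ⊗ₖ (1 : Matrix (Fin k) (Fin k) F)) :
    ∃ (G₁ : Matrix (Fin d) (Fin d) F) (G₂ : Matrix (Fin k) (Fin k) F),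
      G₁.det ≠ 0 ∧ G₂.det ≠ 0 ∧ fGram e P f = G₁ ⊗ₖ G₂ := by
  have hdet := fGram_det_ne_zero (e := e) (P := P) hf hnd
  have hrel : ∀ x : S, (ρ x ⊗ₖ (1 : Matrix (Fin k) (Fin k) F))ᵀ * fGram e P f *
      ((ρ x).map σ ⊗ₖ (1 : Matrix (Fin k) (Fin k) F)) = fGram e P f := fun x => by
    have h := fGram_similarity (e := e) (P := P) hf (g := (x : Matrix ι ι F)) (c := 1)
      fun u v => by rw [one_mul]; exact hfix _ x.2 u v
    rw [one_smul, hP, show (ρ x ⊗ₖ (1 : Matrix (Fin k) (Fin k) F)).map σ =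
      (ρ x).map σ ⊗ₖ (1 : Matrix (Fin k) (Fin k) F) by
        ext a b; simp [Matrix.one_apply, apply_ite σ]] at h
    exact h
  have hρdet : ∀ x : S, (ρ x).det ≠ 0 := fun x h0 => by
    have h1 := congrArg Matrix.det (hrel x)
    rw [det_mul, det_mul, det_transpose, det_kronecker, h0, det_one, one_pow, mul_one, zero_pow (by simp; omega),
      zero_mul, zero_mul] at h1
    exact hdet h1.symm
  haveI : Nonempty (Fin d × Fin k) := ⟨(⟨0, hd⟩, ⟨0, hk⟩)⟩
  obtain ⟨G, H, -, hGH, -⟩ := exists_kronecker (absIrr_map (σ := σ) hρ) (σ := fun x : S => (ρ x)ᵀ⁻¹)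
    (g := fGram e P f) (fun x => by
      have h1 := congrArg (fun K => ((ρ x)ᵀ⁻¹ ⊗ₖ (1 : Matrix (Fin k) (Fin k) F)) * K) (hrel x)
      simp only [← Matrix.kroneckerMap_transpose, transpose_one, ← Matrix.mul_assoc, ← mul_kronecker_mul, Matrix.mul_one,
        Matrix.nonsing_inv_mul _ (by rw [det_transpose]; exact (hρdet x).isUnit : IsUnit (ρ x)ᵀ.det),
        one_kronecker_one, Matrix.one_mul] at h1
      exact h1) (fun h0 => hdet (by rw [h0]; exact det_zero))
  refine ⟨G, H, ?_, fun h0 => hdet ?_, hGH⟩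
  · exact ((Matrix.isUnit_iff_isUnit_det _).mp G.isUnit).ne_zero
  · rw [hGH, det_kronecker, h0, zero_pow (by simp; omega), mul_zero]

/-- A tensor form structure from a factorised Gram matrix. -/
theorem isTensorFormStructure {d k : ℕ} (hf : Techniques.AschPrime.IsSesq σ f) {e : ι ≃ Fin d × Fin k} {P : GL ι F}
    {G₁ : Matrix (Fin d) (Fin d) F} {G₂ : Matrix (Fin k) (Fin k) F} {c : F} (hc : c ≠ 0)
    (hG : fGram e P f = c • (G₁ ⊗ₖ G₂)) :
    IsTensorFormStructure σ f (formOfGram σ G₁) (formOfGram σ G₂) e P := by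
  refine ⟨c, hc, fun x y => ?_⟩
  rw [coord_formula hf, hG, gram_formOfGram, gram_formOfGram, formOfGram_apply, smul_mulVec, dotProduct_smul, smul_eq_mul]

/-- Exchanging the factors. -/
theorem fGram_swap {d k : ℕ} {e : ι ≃ Fin d × Fin k} {P : GL ι F} {G₁ : Matrix (Fin d) (Fin d) F}
    {G₂ : Matrix (Fin k) (Fin k) F} {c : F} (hG : fGram e P f = c • (G₁ ⊗ₖ G₂)) :
    fGram (e.trans (Equiv.prodComm _ _)) P f = c • (G₂ ⊗ₖ G₁) := by
  ext ⟨a, b⟩ ⟨a', b'⟩
  have h := congrFun (congrFun hG (b, a)) (b', a')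
  have key : ∀ a b, (Pi.single (a, b) 1 : Fin k × Fin d → F) ∘ (e.trans (Equiv.prodComm _ _)) =
      (Pi.single (b, a) 1 : Fin d × Fin k → F) ∘ e := fun a b => by
    funext i
    rcases hi : e i with ⟨u, w⟩
    by_cases h : u = b ∧ w = a <;> simp [hi, Pi.single_apply, and_comm]
  simp only [fGram, gramMatrix, coordForm, key] at h ⊢
  rw [h]
  simp [mul_comm, mul_assoc]

/-- A form on a tensor power: the Gram matrix is a pure tensor. -/
theorem exists_pure_gram {m t : ℕ} [Nonempty (Fin t → Fin m)] (hf : Techniques.AschPrime.IsSesq σ f)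
    (hnd : IsNondegenerateForm f) {S : Fin t → Set (Matrix ι ι F)} (hfix : ∀ i, FixesForm (S i) f)
    {e : ι ≃ (Fin t → Fin m)} {P : GL ι F} {ρ : ∀ i, S i → Matrix (Fin m) (Fin m) F}
    (hρ : ∀ i, ActsAbsolutelyIrreducibly (Set.range (ρ i)))
    (hP : ∀ i (x : S i), toCoord e P (x : Matrix ι ι F) = inj i (ρ i x)) :
    ∃ (c : F) (G : Fin t → GL (Fin m) F), c ≠ 0 ∧
      fGram e P f = c • wr 1 (fun i => (G i : Matrix (Fin m) (Fin m) F)) := by
  classical
  have hdet := fGram_det_ne_zero (e := e) (P := P) hf hnd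
  have hmap : ∀ (i : Fin t) (X : Matrix (Fin m) (Fin m) F), (inj i X).map σ = inj i (X.map σ) := fun i X => by
    ext a b
    rw [Matrix.map_apply, inj_apply, inj_apply, wr_apply, wr_apply, map_prod]
    refine Finset.prod_congr rfl fun j _ => ?_
    by_cases hj : j = i
    · subst hj; simp
    · simp [Function.update_of_ne hj, Matrix.one_apply, apply_ite σ]
  have htr : ∀ (i : Fin t) (X : Matrix (Fin m) (Fin m) F), (inj i X)ᵀ = inj i Xᵀ := fun i X => by
    rw [inj_apply, inj_apply, wr_transpose]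
    show wr 1 _ = _
    congr 1
    funext j
    simp only [show ((1 : Equiv.Perm (Fin t)).symm j) = j from rfl]
    by_cases hj : j = i
    · subst hj; simp
    · simp [Function.update_of_ne hj]
  have hmul : ∀ (i : Fin t) (X Y : Matrix (Fin m) (Fin m) F), inj i X * inj i Y = inj i (X * Y) := fun i X Y => by
    rw [inj_apply, inj_apply, inj_apply, wr_one_mul]
    congr 1
    funext j
    by_cases hj : j = i
    · subst hj; simp
    · simp [Function.update_of_ne hj]
  have hrel : ∀ i (x : S i), inj i (ρ i x)ᵀ * fGram e P f * inj i ((ρ i x).map σ) = fGram e P f := fun i x => by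
    have h := fGram_similarity (e := e) (P := P) hf (g := (x : Matrix ι ι F)) (c := 1)
      fun u v => by rw [one_mul]; exact hfix i _ x.2 u v
    rw [one_smul, hP, hmap, htr] at h
    exact h
  have hρdet : ∀ i (x : S i), (ρ i x).det ≠ 0 := fun i x h0 => by
    obtain ⟨v, hv, hv0⟩ := Matrix.exists_mulVec_eq_zero_iff.mpr h0
    haveI : Nonempty ({j // j ≠ i} → Fin m) := ⟨fun j => Classical.arbitrary (Fin t → Fin m) j.1⟩
    have h1 : (inj i (ρ i x)).det = 0 := by
      rw [inj_eq_split, det_submatrix_equiv_self, det_kronecker, h0, det_one, one_pow, mul_one,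
        zero_pow (Fintype.card_ne_zero (α := {j // j ≠ i} → Fin m))]
    have h2 := congrArg Matrix.det (hrel i x)
    rw [det_mul, det_mul, ← htr, det_transpose, h1, zero_mul, zero_mul] at h2
    exact hdet h2.symm
  obtain ⟨c, G, hc, hG, -⟩ := exists_pure (ρ := fun i (x : S i) => (ρ i x).map σ)
    (σ := fun i (x : S i) => (ρ i x)ᵀ⁻¹) (fun i => absIrr_map (hρ i)) (g := fGram e P f) (fun i x => by
      have h1 := congrArg (fun K => inj i (ρ i x)ᵀ⁻¹ * K) (hrel i x)
      simp only [← Matrix.mul_assoc, hmul,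
        Matrix.nonsing_inv_mul _ (by rw [det_transpose]; exact (hρdet i x).isUnit : IsUnit (ρ i x)ᵀ.det), inj_one,
        Matrix.one_mul] at h1
      exact h1) (fun h0 => hdet (by rw [h0]; exact det_zero))
  exact ⟨c, G, hc, hG⟩

end CfsgLib.Classical22.Asch
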