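/-
Subgroups of the symplectic group: adjoints, invariant subspaces and invariant quadratic forms.
-/
import Cfsg.Agent.Lib.Techniques.AschGen.Algebra
import Cfsg.Agent.Lib.Transvec.Stabilizer

set_option autoImplicit false

namespace CfsgLib.Classical22.Asch

open Matrix Cfsg Cfsg.Geo CfsgLib.Techniques.AschPrime CfsgLib.Techniques.AschGen CfsgLib.Transvec
open scoped MatrixGroups

/-- `x'` is an adjoint of `x` for `f`. -/
def AdjPair {ι : Type} [Fintype ι] {F : Type*} [Field F] (f : (ι → F) → (ι → F) → F) (x x' : Matrix ι ι F) : Prop :=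
  ∀ u v, f (x *ᵥ u) v = f u (x' *ᵥ v)

section adj

variable {ι : Type} [Fintype ι] [DecidableEq ι] {F : Type*} [Field F] {f : (ι → F) → (ι → F) → F}
  (hb : IsBilinearForm f)

lemma form_ext (hnd : IsNondegenerateForm f) (hb : IsBilinearForm f) {a b : ι → F} (h : ∀ u, f u a = f u b) :
    a = b := by
  by_contra hne
  obtain ⟨x, hx⟩ := (hnd (a - b) (sub_ne_zero.mpr hne)).1
  apply hx
  have := hb.add_right x (a - b) b
  rw [sub_add_cancel, h] at this
  simpa using this

lemma adj_one : AdjPair f 1 1 := fun u v => by rw [one_mulVec, one_mulVec]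

include hb in
lemma AdjPair.add {x x' y y' : Matrix ι ι F} (hx : AdjPair f x x') (hy : AdjPair f y y') :
    AdjPair f (x + y) (x' + y') := fun u v => by
  rw [add_mulVec, add_mulVec, hb.add_left, hb.add_right, hx, hy]

include hb in
lemma AdjPair.smul {x x' : Matrix ι ι F} (hx : AdjPair f x x') (c : F) : AdjPair f (c • x) (c • x') := fun u v => by
  rw [smul_mulVec, smul_mulVec, hb.smul_left, hb.smul_right, hx]

lemma AdjPair.mul {x x' y y' : Matrix ι ι F} (hx : AdjPair f x x') (hy : AdjPair f y y') :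
    AdjPair f (x * y) (y' * x') := fun u v => by
  rw [← mulVec_mulVec, hx, hy, mulVec_mulVec]

include hb in
lemma AdjPair.unique (hnd : IsNondegenerateForm f) {x a b : Matrix ι ι F} (ha : AdjPair f x a) (hb' : AdjPair f x b) :
    a = b :=
  Matrix.ext_of_mulVec_single fun i => form_ext hnd hb fun u => by rw [← ha, hb']

lemma AdjPair.symm (hskew : ∀ u v, f u v = -f v u) {x x' : Matrix ι ι F} (hx : AdjPair f x x') : AdjPair f x' x :=
  fun u v => by rw [hskew, ← hx, ← hskew]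

lemma adjPair_iso {g : GL ι F} (hg : Iso f g) :
    AdjPair f (g : Matrix ι ι F) ((g⁻¹ : GL ι F) : Matrix ι ι F) := fun u v => by
  conv_rhs => rw [← hg, mulVec_inv_cancel]

lemma AdjPair.cnj {g : GL ι F} (hg : Iso f g) {x x' : Matrix ι ι F} (hx : AdjPair f x x') :
    AdjPair f (cnj g x) (cnj g x') := fun u v => by
  have h2 := adjPair_iso hg.inv
  rw [inv_inv] at h2
  rw [cnj_apply, cnj_apply, ← mulVec_mulVec, ← mulVec_mulVec, ← mulVec_mulVec, ← mulVec_mulVec, adjPair_iso hg, hx, h2]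

end adj

variable {m : ℕ} {F : Type*} [Field F] [Fintype F]

/-- The symplectic classes, recording for class 6 that the degree is the corresponding power of two. -/
def InSpClassD (m : ℕ) (F : Type*) [Field F] [Fintype F] (M : Subgroup (GL (Fin m ⊕ Fin m) F)) : Prop :=
  let f := sympForm m F
  let I := spGL m F
  ((∃ W : Submodule F (Fin m ⊕ Fin m → F), W ≠ ⊥ ∧ IsTotallySingularFor f W ∧ M = subspaceStabilizer W ⊓ I) ∨
  (∃ W : Submodule F (Fin m ⊕ Fin m → F), W ≠ ⊥ ∧ IsNondegenerateOn f W ∧ Module.finrank F W < m ∧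
      M = subspaceStabilizer W ⊓ I) ∨
  (∃ (t k : ℕ) (D : Fin t → Submodule F (Fin m ⊕ Fin m → F)), IsNondegenerateMDecomposition f k D ∧
      M = decompositionStabilizer D ⊓ I) ∨
  (∃ (D : Fin 2 → Submodule F (Fin m ⊕ Fin m → F)), Odd (Fintype.card F) ∧ IsMDecomposition m D ∧
      (∀ i, IsTotallySingularFor f (D i)) ∧ M = decompositionStabilizer D ⊓ I) ∨
  (∃ (F₀ : Subfield F) (r : ℕ) (P : GL (Fin m ⊕ Fin m) F) (ζ : F), r.Prime ∧ Fintype.card F = Nat.card F₀ ^ r ∧ ζ ≠ 0 ∧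
      IsFormRationalStructure f F₀ ζ P ∧ M = subfieldSubgroup F₀ P ⊓ I) ∨
  (∃ (R : Subgroup (GL (Fin m ⊕ Fin m) F)) (p k : ℕ), 2 * m = 2 ^ k ∧ IsSymplecticTypeGroup 2 R ∧
      ActsAbsolutelyIrreducibly (matrixSet R) ∧ R ≤ similarityGroup f ∧ p.Prime ∧ Odd p ∧ Fintype.card F = p ∧
      Nat.card R = 2 ^ (1 + 2 * k) ∧ Nat.card (Subgroup.center R) = 2 ∧ IsOfMinusType k R ∧
      M = subgroupNormalizer R ⊓ I) ∨
  (∃ Q : (Fin m ⊕ Fin m → F) → F, ¬ Odd (Fintype.card F) ∧ IsNondegenerateQuadraticForm Q ∧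
      (∀ u v, QuadraticMap.polar Q u v = f u v) ∧ M = quadSimilarityGroup Q ⊓ I)) ∨
  (∃ (r : ℕ) (K : Subalgebra F (Matrix (Fin m ⊕ Fin m) (Fin m ⊕ Fin m) F)), r.Prime ∧ IsFieldSubalgebra r K ∧
      IsSelfAdjointFor f K ∧ (∀ k ∈ K, ∀ v, f (k *ᵥ v) v = 0) ∧ M = subalgebraNormalizer K ⊓ I) ∨
  (∃ K : Subalgebra F (Matrix (Fin m ⊕ Fin m) (Fin m ⊕ Fin m) F), Odd (Fintype.card F) ∧ IsFieldSubalgebra 2 K ∧
      IsAdjointClosedFor f K ∧ ¬ IsSelfAdjointFor f K ∧ M = subalgebraNormalizer K ⊓ I) ∨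
  (∃ (n₁ n₂ : ℕ) (e : (Fin m ⊕ Fin m) ≃ Fin n₁ × Fin n₂) (P : GL (Fin m ⊕ Fin m) F)
      (f₁ : (Fin n₁ → F) → (Fin n₁ → F) → F) (f₂ : (Fin n₂ → F) → (Fin n₂ → F) → F),
      Odd (Fintype.card F) ∧ 3 ≤ n₂ ∧ IsSymplecticForm f₁ ∧ IsSymmetricForm f₂ ∧
      IsTensorFormStructure id f f₁ f₂ e P ∧ M = tensorProductSubgroup n₁ n₂ e P ⊓ I) ∨
  (∃ (k t : ℕ) (e : (Fin m ⊕ Fin m) ≃ (Fin t → Fin k)) (P : GL (Fin m ⊕ Fin m) F) (f₁ : (Fin k → F) → (Fin k → F) → F),
      Odd (Fintype.card F) ∧ Odd t ∧ 3 ≤ t ∧ ¬ (Fintype.card F = 3 ∧ k = 2) ∧ IsSymplecticForm f₁ ∧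
      IsTensorPowerFormStructure id f f₁ e P ∧ M = tensorWreathSubgroup k t e P ⊓ I)

theorem InSpClassD.toClass {M : Subgroup (GL (Fin m ⊕ Fin m) F)} (h : InSpClassD m F M) : InSymplecticClass m F M :=
  h.imp_left (Or.imp_right (Or.imp_right (Or.imp_right (Or.imp_right (Or.imp_right (Or.imp_left
    fun ⟨R, p, k, _, hR⟩ => ⟨R, p, k, hR⟩))))))

/-- `H` is contained in a member of one of the symplectic classes. -/
def SpMember (H : Subgroup (GL (Fin m ⊕ Fin m) F)) : Prop := ∃ M, InSpClassD m F M ∧ H ≤ M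

variable {H : Subgroup (GL (Fin m ⊕ Fin m) F)} (hH : H ≤ spGL m F)

omit [Fintype F] in
lemma natCard_index : Fintype.card (Fin m ⊕ Fin m) = 2 * m := by simp; omega

omit [Fintype F] in
lemma finrank_le_of_singular {W : Submodule F (Fin m ⊕ Fin m → F)} (hW : IsTotallySingularFor (sympForm m F) W) :
    Module.finrank F W ≤ m := by
  have hf := isSymplecticForm_sympForm (F := F) m
  have h1 : W ≤ perp hf W := fun w hw => (mem_perp_iff hf).mpr fun v hv => hW w hw v hv
  have h2 := Submodule.finrank_mono h1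
  rw [finrank_perp, natCard_index] at h2
  omega

include hH in
omit [Fintype F] in
lemma sp_iso {h : GL (Fin m ⊕ Fin m) F} (hh : h ∈ H) (u v : Fin m ⊕ Fin m → F) :
    sympForm m F ((h : Matrix (Fin m ⊕ Fin m) (Fin m ⊕ Fin m) F) *ᵥ u)
      ((h : Matrix (Fin m ⊕ Fin m) (Fin m ⊕ Fin m) F) *ᵥ v) = sympForm m F u v := hH hh u v

include hH in
/-- A group with an invariant subspace lies in a member. -/
theorem sp_reducible (hI : ¬ Irr H) : SpMember H := by
  have hf := isSymplecticForm_sympForm (F := F) m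
  rw [irr_iff] at hI
  push Not at hI
  obtain ⟨W, hW, hW0, hW1⟩ := hI
  have hperp : Inv H (perp hf W) := fun h hh x hx => (mem_perp_iff hf).mpr fun w hw => by
    have h1 := mulVec_inv_cancel h w
    rw [← h1, sp_iso hH hh]
    exact (mem_perp_iff hf).mp hx _ (hW _ (H.inv_mem hh) w hw)
  have hle : ∀ {U : Submodule F (Fin m ⊕ Fin m → F)}, Inv H U → H ≤ subspaceStabilizer U ⊓ spGL m F :=
    fun hU h hh => ⟨mem_subspaceStabilizer_of_maps (hU h hh), hH hh⟩
  by_cases hrad : W ⊓ perp hf W = ⊥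
  swap
  · refine ⟨_, Or.inl (Or.inl ⟨_, hrad, fun u hu v hv => (mem_perp_iff hf).mp hu.2 v hv.1, rfl⟩), hle fun h hh x hx =>
      ⟨hW h hh x hx.1, hperp h hh x hx.2⟩⟩
  have hnd : ∀ {U : Submodule F (Fin m ⊕ Fin m → F)}, U ⊓ perp hf U = ⊥ → IsNondegenerateOn (sympForm m F) U := by
    intro U hU w hw hw0
    obtain ⟨x, hx, hxw⟩ : ∃ x ∈ U, sympForm m F w x ≠ 0 := by
      by_contra hno
      push Not at hno
      have hmem : w ∈ U ⊓ perp hf U := ⟨hw, (mem_perp_iff hf).mpr hno⟩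
      rw [hU, Submodule.mem_bot] at hmem
      exact hw0 hmem
    exact ⟨⟨x, hx, by rw [hf.skew]; exact neg_ne_zero.mpr hxw⟩, x, hx, hxw⟩
  have hrad' : perp hf W ⊓ perp hf (perp hf W) = ⊥ := by rwa [perp_perp, inf_comm]
  have hsum : Module.finrank F W + Module.finrank F (perp hf W) = 2 * m := by
    rw [finrank_perp, natCard_index]
    have := Submodule.finrank_le W
    rw [Module.finrank_fintype_fun_eq_card, natCard_index] at this
    omega
  have hperp0 : perp hf W ≠ ⊥ := fun h0 => hW1 (by rw [← perp_perp hf W, h0]; exact LinearMap.BilinForm.orthogonal_bot)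
  rcases lt_trichotomy (Module.finrank F W) m with hlt | heq | hgt
  · exact ⟨_, Or.inl (Or.inr (Or.inl ⟨W, hW0, hnd hrad, hlt, rfl⟩)), hle hW⟩
  · obtain ⟨D, hD⟩ : ∃ D : Fin 2 → Submodule F (Fin m ⊕ Fin m → F), D = ![W, perp hf W] := ⟨_, rfl⟩
    have hdec : IsNondegenerateMDecomposition (sympForm m F) m D := by
      refine ⟨⟨le_rfl, ?_, fun i => ?_, ?_, ?_⟩, fun i => ?_, fun i j hij => ?_⟩
      · exact Nat.pos_of_ne_zero fun h0 => hW0 (Submodule.finrank_eq_zero.mp (heq.trans h0))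
      · subst hD
        fin_cases i
        · exact heq
        · change Module.finrank F (perp hf W) = m
          omega
      · exact iSupIndep_pair (i := 0) (j := 1) (by decide) (fun k => by fin_cases k <;> simp) |>.mpr
          (by simpa [hD] using disjoint_iff.mpr hrad)
      · rw [eq_top_iff]
        intro x _
        obtain ⟨a, ha, b, hb, rfl⟩ := exists_add_perp hf (fun w hw hw0 => (hnd hrad w hw hw0).1) x
        exact Submodule.add_mem _ (Submodule.mem_iSup_of_mem 0 (by simpa [hD] using ha))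
          (Submodule.mem_iSup_of_mem 1 (by simpa [hD] using hb))
      · fin_cases i <;> simp [hD]
        · exact hnd hrad
        · exact hnd hrad'
      · fin_cases i <;> fin_cases j <;> simp [hD] at hij ⊢
        · exact fun u hu v hv => by rw [hf.skew, (mem_perp_iff hf).mp hv u hu, neg_zero]
        · exact fun u hu v hv => (mem_perp_iff hf).mp hu v hv
    refine ⟨_, Or.inl (Or.inr (Or.inr (Or.inl ⟨2, m, D, hdec, rfl⟩))), fun h hh => ⟨⟨1, fun i => ?_⟩, hH hh⟩⟩
    have hD' : Inv H (D i) := by fin_cases i <;> simp [hD] <;> assumption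
    apply Submodule.eq_of_le_of_finrank_eq
    · rintro _ ⟨v, hv, rfl⟩
      rw [Matrix.toLin'_apply]
      exact hD' h hh v hv
    · exact Techniques.AschPrime.finrank_map_gl h _
  · exact ⟨_, Or.inl (Or.inr (Or.inl ⟨_, hperp0, hnd hrad', by omega, rfl⟩)), hle hperp⟩

include hH in
/-- An invariant quadratic form with polar form the symplectic form, in characteristic two. -/
theorem sp_quad_member (h2 : (2 : F) = 0) {Q : (Fin m ⊕ Fin m → F) → F} (hQs : ∀ (c : F) v, Q (c • v) = c ^ 2 * Q v)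
    (hQp : ∀ u v, QuadraticMap.polar Q u v = sympForm m F u v)
    (hinv : ∀ h ∈ H, ∀ v, Q ((h : Matrix (Fin m ⊕ Fin m) (Fin m ⊕ Fin m) F) *ᵥ v) = Q v) : SpMember H := by
  have hf := isSymplecticForm_sympForm (F := F) m
  have hfun : QuadraticMap.polar Q = sympForm m F := funext fun u => funext fun v => hQp u v
  refine ⟨_, Or.inl (Or.inr (Or.inr (Or.inr (Or.inr (Or.inr (Or.inr ⟨Q, ?_, ⟨hQs, hfun ▸ hf.bilinear,
    hfun ▸ hf.nondegenerate⟩, hQp, rfl⟩)))))), fun h hh => ⟨⟨1, fun v => by rw [Units.val_one, one_mul]; exact hinv h hh v⟩, hH hh⟩⟩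
  intro hodd
  exact Nat.not_even_iff_odd.mpr hodd (Nat.even_iff.mpr (FiniteField.even_card_iff_char_two.mp
    (CharP.ringChar_of_prime_eq_zero Nat.prime_two (by exact_mod_cast h2))))

include hH in
/-- A quadratic form with polar form the symplectic form that vanishes on a spanning stable set is invariant. -/
theorem sp_quad_member_of_spanning (h2 : (2 : F) = 0) {Q : (Fin m ⊕ Fin m → F) → F}
    (hQs : ∀ (c : F) v, Q (c • v) = c ^ 2 * Q v) (hQp : ∀ u v, QuadraticMap.polar Q u v = sympForm m F u v)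
    {S : Set (Fin m ⊕ Fin m → F)} (hS : Submodule.span F S = ⊤) (hQ0 : ∀ v ∈ S, Q v = 0)
    (hQh : ∀ h ∈ H, ∀ v ∈ S, Q ((h : Matrix (Fin m ⊕ Fin m) (Fin m ⊕ Fin m) F) *ᵥ v) = 0) : SpMember H := by
  refine sp_quad_member hH h2 hQs hQp fun h hh v => ?_
  have hadd : ∀ u w, Q (u + w) = Q u + Q w + sympForm m F u w := fun u w => by
    rw [← hQp u w, QuadraticMap.polar]; ring
  have hv : v ∈ Submodule.span F S := hS ▸ Submodule.mem_top
  induction hv using Submodule.span_induction with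
  | mem x hx => rw [hQh h hh x hx, hQ0 x hx]
  | zero => rw [mulVec_zero]
  | add x y _ _ hx hy => rw [mulVec_add, hadd, hadd, hx, hy, sp_iso hH hh]
  | smul c x _ hx => rw [mulVec_smul, hQs, hQs, hx]

end CfsgLib.Classical22.Asch
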