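/-
Commuting involutions: separating vectors and a dimension bound for symplectic isometries in odd characteristic.
-/
import Cfsg.Agent.Lib.Classical22.Asch.SpBasic

set_option autoImplicit false

namespace CfsgLib.Classical22.Asch

open Matrix Cfsg Cfsg.Geo CfsgLib.Transvec
open scoped MatrixGroups

section sep

variable {ι : Type} [Fintype ι] [DecidableEq ι] {F : Type*} [Field F]

/-- Common eigenvectors of commuting involutions span. -/
theorem span_common_eigen (h2 : (2 : F) ≠ 0) (s : Finset (Matrix ι ι F)) (hc : ∀ a ∈ s, ∀ b ∈ s, a * b = b * a)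
    (hs : ∀ a ∈ s, a * a = 1) :
    Submodule.span F {w : ι → F | ∀ a ∈ s, ∃ c : F, a *ᵥ w = c • w} = ⊤ := by
  classical
  induction s using Finset.induction with
  | empty => simp
  | @insert a s _ ih =>
    rw [eq_top_iff, ← ih (fun x hx y hy => hc x (Finset.mem_insert_of_mem hx) y (Finset.mem_insert_of_mem hy))
      (fun x hx => hs x (Finset.mem_insert_of_mem hx)), Submodule.span_le]
    intro w hw
    have haa : a *ᵥ (a *ᵥ w) = w := by rw [mulVec_mulVec, hs a (Finset.mem_insert_self a s), one_mulVec]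
    have hmem : ∀ ε : F, ε * ε = 1 →
        w + ε • (a *ᵥ w) ∈ {w : ι → F | ∀ b ∈ insert a s, ∃ c : F, b *ᵥ w = c • w} := by
      intro ε hε b hb
      rcases Finset.mem_insert.mp hb with rfl | hb
      · refine ⟨ε, ?_⟩
        rw [mulVec_add, mulVec_smul, haa, smul_add, smul_smul, hε, one_smul, add_comm]
      · obtain ⟨c, hcw⟩ := hw b hb
        refine ⟨c, ?_⟩
        rw [mulVec_add, mulVec_smul, mulVec_mulVec, hc b (Finset.mem_insert_of_mem hb) a (Finset.mem_insert_self a s),
          ← mulVec_mulVec, hcw, mulVec_smul, smul_add, smul_comm]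
    have hsum : w = (2 : F)⁻¹ • ((w + (1 : F) • (a *ᵥ w)) + (w + (-1 : F) • (a *ᵥ w))) := by
      rw [one_smul, neg_one_smul, add_add_add_comm, add_neg_cancel, add_zero, ← two_smul F w, inv_smul_smul₀ h2]
    rw [SetLike.mem_coe, hsum]
    exact Submodule.smul_mem _ _ (Submodule.add_mem _ (Submodule.subset_span (hmem 1 (by ring)))
      (Submodule.subset_span (hmem (-1) (by ring))))

/-- A commuting family of involutions has a vector that separates their span. -/
theorem exists_separating (h2 : (2 : F) ≠ 0) (s : Finset (Matrix ι ι F)) (hc : ∀ a ∈ s, ∀ b ∈ s, a * b = b * a)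
    (hs : ∀ a ∈ s, a * a = 1) :
    ∃ v : ι → F, ∀ X ∈ Submodule.span F (s : Set (Matrix ι ι F)), X *ᵥ v = 0 → X = 0 := by
  classical
  obtain ⟨b, hbs, hbspan, hbli⟩ := exists_linearIndependent F {w : ι → F | ∀ a ∈ s, ∃ c : F, a *ᵥ w = c • w}
  rw [span_common_eigen h2 s hc hs] at hbspan
  haveI : Fintype b := @Fintype.ofFinite _ hbli.finite
  refine ⟨∑ w : b, (w : ι → F), fun X hX hX0 => ?_⟩
  have hdiag : ∀ w : b, ∃ c : F, X *ᵥ (w : ι → F) = c • (w : ι → F) := by
    intro w
    clear hX0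
    induction hX using Submodule.span_induction with
    | mem a ha => exact hbs w.2 a ha
    | zero => exact ⟨0, by rw [zero_mulVec, zero_smul]⟩
    | add A B _ _ hA hB =>
      obtain ⟨c, hc⟩ := hA
      obtain ⟨d, hd⟩ := hB
      exact ⟨c + d, by rw [add_mulVec, hc, hd, add_smul]⟩
    | smul e A _ hA =>
      obtain ⟨c, hc⟩ := hA
      exact ⟨e * c, by rw [smul_mulVec, hc, smul_smul]⟩
  choose c hcw using hdiag
  rw [Matrix.mulVec_sum] at hX0
  simp only [hcw] at hX0
  have hc0 := Fintype.linearIndependent_iff.mp hbli c hX0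
  refine Matrix.toLin'.injective ?_
  rw [map_zero]
  refine LinearMap.ext_on (s := b) hbspan fun w hw => ?_
  rw [Matrix.toLin'_apply, hcw ⟨w, hw⟩, hc0, zero_smul, LinearMap.zero_apply]

end sep

variable {m : ℕ} {F : Type*} [Field F] [Fintype F]

/-- Commuting involutory isometries closed under products span at most `m` dimensions. -/
theorem finrank_span_invol_le (h2 : (2 : F) ≠ 0) {A : Subgroup (GL (Fin m ⊕ Fin m) F)} (hA : A ≤ spGL m F)
    (hc : ∀ a ∈ A, ∀ b ∈ A, a * b = b * a) (h1 : ∀ a ∈ A, a * a = 1) :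
    Module.finrank F (Submodule.span F (matrixSet A)) ≤ m := by
  classical
  have hf := isSymplecticForm_sympForm (F := F) m
  haveI : Finite (GL (Fin m ⊕ Fin m) F) := inferInstance
  have hfin : (matrixSet A).Finite := Set.toFinite _
  have hc' : ∀ a ∈ hfin.toFinset, ∀ b ∈ hfin.toFinset, a * b = b * a := by
    intro a ha b hb
    rw [Set.Finite.mem_toFinset] at ha hb
    obtain ⟨a, ha, rfl⟩ := ha
    obtain ⟨b, hb, rfl⟩ := hb
    rw [← Units.val_mul, ← Units.val_mul, hc a ha b hb]
  have hs' : ∀ a ∈ hfin.toFinset, a * a = 1 := by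
    intro a ha
    rw [Set.Finite.mem_toFinset] at ha
    obtain ⟨a, ha, rfl⟩ := ha
    rw [← Units.val_mul, h1 a ha, Units.val_one]
  obtain ⟨v, hv⟩ := exists_separating h2 hfin.toFinset hc' hs'
  rw [Set.Finite.coe_toFinset] at hv
  -- the orbit span is totally singular
  let ev : Matrix (Fin m ⊕ Fin m) (Fin m ⊕ Fin m) F →ₗ[F] (Fin m ⊕ Fin m → F) :=
    { toFun := fun X => X *ᵥ v
      map_add' := fun X Y => add_mulVec X Y v
      map_smul' := fun c X => smul_mulVec c X v }
  let W : Submodule F (Fin m ⊕ Fin m → F) := (Submodule.span F (matrixSet A)).map ev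
  have hgen : ∀ a ∈ A, ∀ b ∈ A,
      sympForm m F ((a : Matrix (Fin m ⊕ Fin m) (Fin m ⊕ Fin m) F) *ᵥ v)
        ((b : Matrix (Fin m ⊕ Fin m) (Fin m ⊕ Fin m) F) *ᵥ v) = 0 := by
    intro a ha b hb
    have e1 := sp_iso hA ha ((a : Matrix (Fin m ⊕ Fin m) (Fin m ⊕ Fin m) F) *ᵥ v)
      ((b : Matrix (Fin m ⊕ Fin m) (Fin m ⊕ Fin m) F) *ᵥ v)
    have e2 : sympForm m F v (((a * b : GL (Fin m ⊕ Fin m) F) : Matrix _ _ F) *ᵥ v) = 0 := by
      have e3 := sp_iso hA (A.mul_mem ha hb) v (((a * b : GL (Fin m ⊕ Fin m) F) : Matrix _ _ F) *ᵥ v)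
      rw [mulVec_mulVec, ← Units.val_mul, h1 _ (A.mul_mem ha hb), Units.val_one, one_mulVec, hf.skew] at e3
      exact (mul_eq_zero.mp (show (2 : F) * sympForm m F v (((a * b : GL (Fin m ⊕ Fin m) F) : Matrix _ _ F) *ᵥ v) = 0
        by linear_combination -e3)).resolve_left h2
    rw [← e1, mulVec_mulVec, ← Units.val_mul, h1 a ha, Units.val_one, one_mulVec, mulVec_mulVec, ← Units.val_mul, e2]
  have hW : IsTotallySingularFor (sympForm m F) W := by
    rintro _ ⟨X, hX, rfl⟩ _ ⟨Y, hY, rfl⟩
    have hX' : X ∈ Submodule.span F (matrixSet A) := hX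
    have hY' : Y ∈ Submodule.span F (matrixSet A) := hY
    change sympForm m F (X *ᵥ v) (Y *ᵥ v) = 0
    clear hX hY
    induction hX' using Submodule.span_induction with
    | mem a ha =>
      obtain ⟨a, ha, rfl⟩ := ha
      induction hY' using Submodule.span_induction with
      | mem b hb =>
        obtain ⟨b, hb, rfl⟩ := hb
        exact hgen a ha b hb
      | zero =>
        have h := hf.bilinear.smul_right 0 ((a : Matrix (Fin m ⊕ Fin m) (Fin m ⊕ Fin m) F) *ᵥ v) v
        rw [zero_smul, zero_mul] at h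
        rw [zero_mulVec, h]
      | add B C _ _ hB hC => rw [add_mulVec, hf.bilinear.add_right, hB, hC, add_zero]
      | smul c B _ hB => rw [smul_mulVec, hf.bilinear.smul_right, hB, mul_zero]
    | zero =>
      have h := hf.bilinear.smul_left 0 v (Y *ᵥ v)
      rw [zero_smul, zero_mul] at h
      rw [zero_mulVec, h]
    | add B C _ _ hB hC => rw [add_mulVec, hf.bilinear.add_left, hB, hC, add_zero]
    | smul c B _ hB => rw [smul_mulVec, hf.bilinear.smul_left, hB, mul_zero]
  refine le_trans ?_ (finrank_le_of_singular hW)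
  refine (LinearEquiv.ofBijective (ev.submoduleMap (Submodule.span F (matrixSet A))) ⟨?_, ?_⟩).finrank_eq.le
  · intro X Y hXY
    have h : (X : Matrix (Fin m ⊕ Fin m) (Fin m ⊕ Fin m) F) *ᵥ v = (Y : Matrix _ _ F) *ᵥ v := congrArg Subtype.val hXY
    exact Subtype.ext (sub_eq_zero.mp (hv _ (Submodule.sub_mem _ X.2 Y.2) (by rw [sub_mulVec, h, sub_self])))
  · exact LinearMap.submoduleMap_surjective _ _

end CfsgLib.Classical22.Asch
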