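/-
The symplectic form in coordinates: adjoints, similitude factors and quadratic forms from a Gram matrix.
-/
import Cfsg.Agent.Lib.Classical22.Asch.SpBasic
import Cfsg.Agent.Lib.Classical22.Asch.Gram
import Cfsg.Agent.Lib.Classical22.Asch.Members

set_option autoImplicit false

namespace CfsgLib.Classical22.Asch

open Matrix Cfsg Cfsg.Geo CfsgLib.Techniques.AschPrime CfsgLib.Transvec CfsgLib.Classical22.TensorMono
open scoped Kronecker MatrixGroups

variable {ι κ : Type} [Fintype ι] [DecidableEq ι] [Fintype κ] [DecidableEq κ] {F : Type*} [Field F]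

lemma coord_eval {f : (ι → F) → (ι → F) → F} (hb : IsBilinearForm f) (e : ι ≃ κ) (P : GL ι F) (u v : ι → F) :
    f u v = coordVec e P u ⬝ᵥ (fGram e P f *ᵥ coordVec e P v) := by
  conv_lhs => rw [← mulVec_coordVec (e := e) (P := P) u, ← mulVec_coordVec (e := e) (P := P) v]
  rw [coord_formula (IsSesq.of_bilinear hb)]
  rfl

lemma adjPair_of_coord {f : (ι → F) → (ι → F) → F} (hb : IsBilinearForm f) {e : ι ≃ κ} {P : GL ι F}
    {x x' : Matrix ι ι F} (h : (toCoord e P x)ᵀ * fGram e P f = fGram e P f * toCoord e P x') : AdjPair f x x' := by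
  intro u v
  rw [coord_eval hb e P, coord_eval hb e P, coordVec_mulVec, coordVec_mulVec, mulVec_mulVec, ← h, ← mulVec_mulVec,
    dotProduct_mulVec _ (toCoord e P x)ᵀ, vecMul_transpose]

/-- The matrix with given coordinates. -/
lemma exists_of_toCoord (e : ι ≃ κ) (P : GL ι F) (M : Matrix κ κ F) : ∃ x : Matrix ι ι F, toCoord e P x = M :=
  ⟨(P : Matrix ι ι F) * M.submatrix e e * ((P⁻¹ : GL ι F) : Matrix ι ι F), toCoord_eq_iff.mpr (by
    rw [Matrix.mul_assoc, Units.inv_mul, Matrix.mul_one])⟩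

/-- Equal Kronecker products have proportional factors. -/
lemma kronecker_eq_imp {A A' B B' : Type} [Fintype A] [Fintype A'] [Fintype B] [Fintype B'] {G X : Matrix A A' F}
    {G' Y : Matrix B B' F} (hG : G ≠ 0) (hG' : G' ≠ 0) (h : X ⊗ₖ Y = G ⊗ₖ G') :
    ∃ c : F, c ≠ 0 ∧ X = c⁻¹ • G ∧ Y = c • G' := by
  obtain ⟨a, ha⟩ := Function.ne_iff.mp hG
  obtain ⟨a', ha'⟩ := Function.ne_iff.mp ha
  obtain ⟨b, hb⟩ := Function.ne_iff.mp hG'
  obtain ⟨b', hb'⟩ := Function.ne_iff.mp hb
  simp only [Matrix.zero_apply, Pi.zero_apply] at ha' hb'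
  have he : ∀ i j k l, X i j * Y k l = G i j * G' k l := fun i j k l => congrFun (congrFun h (i, k)) (j, l)
  have hX : X a a' ≠ 0 := fun h0 => by
    have := he a a' b b'
    rw [h0, zero_mul] at this
    exact mul_ne_zero ha' hb' this.symm
  have hY : Y b b' ≠ 0 := fun h0 => by
    have := he a a' b b'
    rw [h0, mul_zero] at this
    exact mul_ne_zero ha' hb' this.symm
  refine ⟨G a a' / X a a', div_ne_zero ha' hX, Matrix.ext fun i j => ?_, Matrix.ext fun k l => ?_⟩
  · rw [Matrix.smul_apply, smul_eq_mul, inv_div, div_mul_eq_mul_div, eq_div_iff ha']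
    refine mul_right_cancel₀ (mul_ne_zero hY hb') ?_
    linear_combination (G a a' * G' b b') * he i j b b' - (G i j * G' b b') * he a a' b b'
  · rw [Matrix.smul_apply, smul_eq_mul, div_mul_eq_mul_div, eq_div_iff hX]
    linear_combination he a a' k l

/-- A symmetric matrix fixed up to scalars by an irreducible set has zero diagonal in characteristic two. -/
lemma diag_zero_of_irr [Finite F] (h2 : (2 : F) = 0) {I : Type} [Fintype I] [DecidableEq I] (hI : 2 ≤ Fintype.card I)
    {G : Matrix I I F} (hsym : Gᵀ = G) {S : Set (Matrix I I F)} (hS : ActsIrreducibly S)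
    (hfix : ∀ s ∈ S, ∃ c : F, sᵀ * G * s = c • G) : ∀ v : I → F, v ⬝ᵥ (G *ᵥ v) = 0 := by
  have hswap : ∀ u v : I → F, v ⬝ᵥ (G *ᵥ u) = u ⬝ᵥ (G *ᵥ v) := fun u v => by
    conv_lhs => rw [dotProduct_mulVec, ← mulVec_transpose, hsym, dotProduct_comm]
  let W : Submodule F (I → F) :=
    { carrier := {v | v ⬝ᵥ (G *ᵥ v) = 0}
      zero_mem' := zero_dotProduct _
      add_mem' := fun {u v} (hu : u ⬝ᵥ (G *ᵥ u) = 0) (hv : v ⬝ᵥ (G *ᵥ v) = 0) => by
        change (u + v) ⬝ᵥ (G *ᵥ (u + v)) = 0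
        simp only [mulVec_add, add_dotProduct, dotProduct_add, hu, hv, hswap u v]
        linear_combination (u ⬝ᵥ (G *ᵥ v)) * h2
      smul_mem' := fun c v (hv : v ⬝ᵥ (G *ᵥ v) = 0) => by
        change (c • v) ⬝ᵥ (G *ᵥ (c • v)) = 0
        rw [mulVec_smul, smul_dotProduct, dotProduct_smul, hv, smul_zero, smul_zero] }
  have hW : W ≠ ⊥ := by
    obtain ⟨i, j, hij⟩ := Fintype.one_lt_card_iff.mp (show 1 < Fintype.card I by omega)
    have hv : ∀ k, (Pi.single k 1 : I → F) ⬝ᵥ (G *ᵥ Pi.single k 1) = G k k := fun k => by simp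
    by_cases h0 : G i i = 0
    · intro h
      have h1 : (Pi.single i 1 : I → F) ∈ W := (hv i).trans h0
      rw [h, Submodule.mem_bot, Pi.single_eq_zero_iff] at h1
      exact one_ne_zero h1
    · obtain ⟨c, hc⟩ := FiniteField.isSquare_of_char_two
        (CharP.ringChar_of_prime_eq_zero Nat.prime_two (by exact_mod_cast h2)) (G j j / G i i)
      intro h
      have h1 : (Pi.single j 1 + c • Pi.single i 1 : I → F) ∈ W := by
        change _ = (0 : F)
        simp only [mulVec_add, mulVec_smul, add_dotProduct, dotProduct_add, smul_dotProduct, dotProduct_smul, hv,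
          smul_eq_mul, hswap (Pi.single i 1 : I → F) (Pi.single j 1)]
        have h3 : c * c * G i i = G j j := by rw [← hc, div_mul_cancel₀ _ h0]
        linear_combination h3 + ((Pi.single i 1 : I → F) ⬝ᵥ (G *ᵥ Pi.single j 1) * c + G j j) * h2
      rw [h, Submodule.mem_bot] at h1
      have h4 := congrFun h1 j
      simp [hij.symm] at h4
  intro v
  refine ((hS W ?_).resolve_left hW ▸ Submodule.mem_top : v ∈ W)
  rintro s hs _ ⟨w, hw, rfl⟩
  obtain ⟨c, hc⟩ := hfix s hs
  change _ = (0 : F)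
  rw [Matrix.toLin'_apply, mulVec_mulVec, ← vecMul_transpose s w, ← dotProduct_mulVec, mulVec_mulVec,
    ← Matrix.mul_assoc, hc, smul_mulVec, dotProduct_smul, show w ⬝ᵥ (G *ᵥ w) = 0 from hw, smul_zero]

variable {m : ℕ} [Fintype F] {H : Subgroup (GL (Fin m ⊕ Fin m) F)} (hH : H ≤ spGL m F)

include hH in
/-- A quadratic form given in coordinates by a matrix that vanishes on a stable spanning set. -/
theorem sp_quad_member_coord (h2 : (2 : F) = 0) {e : (Fin m ⊕ Fin m) ≃ κ} {P : GL (Fin m ⊕ Fin m) F}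
    {W : Matrix κ κ F} (hW : W + Wᵀ = fGram e P (sympForm m F)) {S : Set (κ → F)} (hS : Submodule.span F S = ⊤)
    (h0 : ∀ w ∈ S, w ⬝ᵥ (W *ᵥ w) = 0)
    (hst : ∀ h ∈ H, ∀ w ∈ S, toCoord e P (h : Matrix (Fin m ⊕ Fin m) (Fin m ⊕ Fin m) F) *ᵥ w ∈ S) : SpMember H := by
  have hf := isSymplecticForm_sympForm (F := F) m
  obtain ⟨T, hT⟩ : ∃ T : (Fin m ⊕ Fin m → F) ≃ₗ[F] (κ → F), ∀ v, T v = coordVec e P v :=
    ⟨LinearEquiv.ofBijective (coordVec e P) (coordVec_bijective e P), fun v => rfl⟩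
  refine sp_quad_member_of_spanning hH h2 (Q := fun v => coordVec e P v ⬝ᵥ (W *ᵥ coordVec e P v))
    (fun c v => ?_) (fun u v => ?_) (S := T.symm '' S) ?_ ?_ ?_
  · rw [map_smul, mulVec_smul, smul_dotProduct, dotProduct_smul, smul_eq_mul, smul_eq_mul]; ring
  · rw [coord_eval hf.bilinear e P u v, ← hW, add_mulVec, dotProduct_add,
      show coordVec e P u ⬝ᵥ (Wᵀ *ᵥ coordVec e P v) = coordVec e P v ⬝ᵥ (W *ᵥ coordVec e P u) by
        rw [dotProduct_mulVec, vecMul_transpose, dotProduct_comm]]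
    simp only [QuadraticMap.polar, map_add, mulVec_add, add_dotProduct, dotProduct_add]
    ring
  · rw [show (T.symm : (κ → F) → _) '' S = T.symm.toLinearMap '' S from rfl, ← Submodule.map_span, hS, Submodule.map_top,
      LinearEquiv.range]
  · rintro _ ⟨w, hw, rfl⟩
    simp only [← hT, LinearEquiv.apply_symm_apply]
    exact h0 w hw
  · rintro h hh _ ⟨w, hw, rfl⟩
    simp only [coordVec_mulVec]
    rw [← hT, LinearEquiv.apply_symm_apply]
    exact h0 _ (hst h hh w hw)

/-- The vectors that are pure tensors of two factors span. -/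
lemma span_pure_pair (d k : ℕ) :
    Submodule.span F (Set.range fun p : (Fin d → F) × (Fin k → F) => fun x : Fin d × Fin k => p.1 x.1 * p.2 x.2) = ⊤ := by
  rw [eq_top_iff]
  intro v _
  rw [pi_eq_sum_univ v]
  refine Submodule.sum_mem _ fun x _ => Submodule.smul_mem _ _ (Submodule.subset_span ?_)
  refine ⟨(Pi.single x.1 1, Pi.single x.2 1), funext fun y => ?_⟩
  by_cases h1 : x.1 = y.1 <;> by_cases h2 : x.2 = y.2 <;>
    simp [Pi.single_apply, Prod.ext_iff, h1, h2, Ne.symm]

end CfsgLib.Classical22.Asch
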