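/-
Subgroups of the symplectic group normalising a commutative algebra closed under adjoints: imprimitive, extension
field or quadratic form members.
-/
import Cfsg.Agent.Lib.Classical22.Asch.SpBasic
import Cfsg.Agent.Lib.Techniques.AschGen.Clifford

set_option autoImplicit false

namespace CfsgLib.Classical22.Asch

open Matrix Cfsg Cfsg.Geo CfsgLib.Techniques.AschPrime CfsgLib.Techniques.AschGen CfsgLib.Transvec
open scoped MatrixGroups

variable {ι : Type} [Fintype ι] [DecidableEq ι] {F : Type*} [Field F]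

/-- A power of an element of a finite monoid is idempotent. -/
lemma exists_idem_pow [Finite (Matrix ι ι F)] (x : Matrix ι ι F) : ∃ k, 0 < k ∧ x ^ k * x ^ k = x ^ k := by
  obtain ⟨a, b, hab, h⟩ : ∃ a b, a < b ∧ x ^ a = x ^ b := by
    obtain ⟨a, b, hne, h⟩ := Finite.exists_ne_map_eq_of_infinite (fun k : ℕ => x ^ k)
    rcases lt_or_gt_of_ne hne with hlt | hlt
    · exact ⟨a, b, hlt, h⟩
    · exact ⟨b, a, hlt, h.symm⟩
  obtain ⟨d, rfl⟩ := Nat.exists_eq_add_of_lt hab
  have hper : ∀ j i, a ≤ i → x ^ (i + j * (d + 1)) = x ^ i := by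
    intro j
    induction j with
    | zero => intro i _; simp
    | succ j ih =>
      intro i hi
      obtain ⟨u, rfl⟩ := Nat.exists_eq_add_of_le hi
      rw [show a + u + (j + 1) * (d + 1) = (a + d + 1) + (u + j * (d + 1)) by ring, pow_add, ← h, ← pow_add,
        ← add_assoc]
      exact ih _ hi
  refine ⟨(a + 1) * (d + 1), Nat.mul_pos (Nat.succ_pos _) (Nat.succ_pos _), ?_⟩
  rw [← pow_add]
  exact hper _ _ ((Nat.le_succ a).trans (Nat.le_mul_of_pos_right _ (Nat.succ_pos _)))

/-- A normalised commutative algebra of an irreducible group has no non-zero nilpotent elements. -/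
lemma eq_zero_of_nilpotent [Finite F] [Nonempty ι] {H : Subgroup (GL ι F)} (hI : Irr H)
    {K : Subalgebra F (Matrix ι ι F)} (hcomm : ∀ x ∈ K, ∀ y ∈ K, x * y = y * x)
    (hconj : ∀ h ∈ H, ∀ x ∈ K, cnj h x ∈ K) {x : Matrix ι ι F} (hx : x ∈ K) (hn : IsNilpotent x) : x = 0 := by
  classical
  haveI : Finite (Matrix ι ι F) := Module.finite_of_finite F
  haveI : Fintype (Matrix ι ι F) := Fintype.ofFinite _
  have hcommon : ∀ s : Finset (Matrix ι ι F), (∀ y ∈ s, y ∈ K ∧ IsNilpotent y) →
      ∃ v : ι → F, v ≠ 0 ∧ ∀ y ∈ s, y *ᵥ v = 0 := by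
    intro s
    induction s using Finset.induction with
    | empty => exact fun _ => ⟨Pi.single (Classical.arbitrary ι) 1, by simp, fun y hy => absurd hy (by simp)⟩
    | @insert y s _ ih =>
      intro hs
      obtain ⟨v, hv0, hv⟩ := ih fun z hz => hs z (Finset.mem_insert_of_mem hz)
      obtain ⟨hyK, k, hk⟩ := hs y (Finset.mem_insert_self y s)
      have hex : ∃ j, y ^ j *ᵥ v = 0 := ⟨k, by rw [hk, zero_mulVec]⟩
      obtain ⟨j, hj⟩ : ∃ j, Nat.find hex = j + 1 := Nat.exists_eq_succ_of_ne_zero fun h0 => hv0 (by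
        have := Nat.find_spec hex
        rwa [h0, pow_zero, one_mulVec] at this)
      refine ⟨y ^ j *ᵥ v, Nat.find_min hex (by omega), fun z hz => ?_⟩
      rcases Finset.mem_insert.mp hz with rfl | hz
      · rw [mulVec_mulVec, ← pow_succ', ← hj]
        exact Nat.find_spec hex
      · rw [mulVec_mulVec, hcomm z (hs z (Finset.mem_insert_of_mem hz)).1 _ (K.pow_mem hyK j), ← mulVec_mulVec, hv z hz,
          mulVec_zero]
  obtain ⟨v, hv0, hv⟩ := hcommon (Finset.univ.filter fun y => y ∈ K ∧ IsNilpotent y) fun y hy => (Finset.mem_filter.mp hy).2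
  let W : Submodule F (ι → F) :=
    { carrier := {w | ∀ y ∈ K, IsNilpotent y → y *ᵥ w = 0}
      add_mem' := fun {a b} ha hb y hy hy' => by rw [mulVec_add, ha y hy hy', hb y hy hy', add_zero]
      zero_mem' := fun y _ _ => mulVec_zero y
      smul_mem' := fun c w hw y hy hy' => by rw [mulVec_smul, hw y hy hy', smul_zero] }
  rcases (irr_iff H).mp hI W (fun h hh w hw y hy hy' => by
      have h1 := hw _ (hconj h⁻¹ (H.inv_mem hh) y hy) (hy'.map (cnj h⁻¹))
      rw [cnj_apply, inv_inv, ← mulVec_mulVec, ← mulVec_mulVec] at h1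
      exact mulVec_inj h⁻¹ (by rw [h1, mulVec_zero])) with h | h
  · exact absurd (show v ∈ W from fun y hy hy' => hv y (Finset.mem_filter.mpr ⟨Finset.mem_univ _, hy, hy'⟩))
      (by rw [h, Submodule.mem_bot]; exact hv0)
  · refine Matrix.ext_of_mulVec_single fun i => ?_
    rw [zero_mulVec]
    exact (h ▸ Submodule.mem_top : Pi.single i 1 ∈ W) x hx hn

/-- The primitive idempotents of a finite commutative matrix algebra. -/
lemma exists_prim_idem [Finite F] {K : Subalgebra F (Matrix ι ι F)} (hcomm : ∀ x ∈ K, ∀ y ∈ K, x * y = y * x) :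
    ∃ (t : ℕ) (ε : Fin t → Matrix ι ι F), (∀ i, ε i ∈ K ∧ ε i * ε i = ε i ∧ ε i ≠ 0) ∧
      (∀ i j, i ≠ j → ε i * ε j = 0) ∧ ∑ i, ε i = 1 ∧
      ∀ g ∈ K, g * g = g → ∀ i, ε i * g = 0 ∨ ε i * g = ε i := by
  classical
  haveI : Finite (Matrix ι ι F) := Module.finite_of_finite F
  haveI : Fintype (Matrix ι ι F) := Fintype.ofFinite _
  obtain ⟨S, hS⟩ : ∃ S : Finset (Matrix ι ι F), S = Finset.univ.filter fun e => e ∈ K ∧ e * e = e ∧ e ≠ 0 ∧
      ∀ g ∈ K, g * g = g → e * g = 0 ∨ e * g = e := ⟨_, rfl⟩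
  have hmem : ∀ e ∈ S, e ∈ K ∧ e * e = e ∧ e ≠ 0 ∧ ∀ g ∈ K, g * g = g → e * g = 0 ∨ e * g = e := fun e he => by
    rw [hS] at he
    exact (Finset.mem_filter.mp he).2
  have horth : ∀ e ∈ S, ∀ e' ∈ S, e ≠ e' → e * e' = 0 := by
    intro e he e' he' hne
    obtain ⟨h1, h2, -, h4⟩ := hmem e he
    obtain ⟨h1', h2', -, h4'⟩ := hmem e' he'
    rcases h4 e' h1' h2' with h | h
    · exact h
    · rcases h4' e h1 h2 with h' | h'
      · rw [hcomm e h1 e' h1']; exact h'
      · exact absurd (h.symm.trans ((hcomm e h1 e' h1').trans h')) hne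
  have hsumK : ∑ e ∈ S, e ∈ K := K.sum_mem fun e he => (hmem e he).1
  have hsum : ∀ e ∈ S, e * ∑ e' ∈ S, e' = e := fun e he => by
    rw [Finset.mul_sum, Finset.sum_eq_single e (fun e' he' hne => horth e he e' he' hne.symm) (absurd he),
      (hmem e he).2.1]
  have hone : ∑ e ∈ S, e = 1 := by
    by_contra hne
    obtain ⟨g, hg⟩ : ∃ g, g = 1 - ∑ e ∈ S, e := ⟨_, rfl⟩
    have hgK : g ∈ K := hg ▸ K.sub_mem K.one_mem hsumK
    have hss : (∑ e ∈ S, e) * (∑ e ∈ S, e) = ∑ e ∈ S, e := by rw [Finset.sum_mul, Finset.sum_congr rfl hsum]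
    have hgg : g * g = g := by rw [hg, sub_mul, one_mul, mul_sub, mul_one, hss, sub_self, sub_zero]
    -- a minimal idempotent below the complement
    obtain ⟨T, hT⟩ : ∃ T : Set (Matrix ι ι F), T = {e | e ∈ K ∧ e * e = e ∧ e ≠ 0 ∧ e * g = e} := ⟨_, rfl⟩
    let rk : Matrix ι ι F → ℕ := fun e => (Finset.univ.filter fun y => y * e = y ∧ y * y = y ∧ y ∈ K).card
    obtain ⟨e, heT, hmin⟩ := Set.exists_min_image T rk (Set.toFinite T)
      ⟨g, by rw [hT]; exact ⟨hgK, hgg, fun h0 => hne (sub_eq_zero.mp (hg ▸ h0)).symm, hgg⟩⟩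
    rw [hT] at heT
    obtain ⟨heK, hee, he0, heg⟩ := heT
    have heS : e ∈ S := by
      rw [hS]
      refine Finset.mem_filter.mpr ⟨Finset.mem_univ _, heK, hee, he0, fun y hy hyy => ?_⟩
      by_contra hcon
      rw [not_or] at hcon
      have heyK : e * y ∈ K := K.mul_mem heK hy
      have hidem : e * y * (e * y) = e * y := by
        rw [mul_assoc, ← mul_assoc y, hcomm y hy e heK, mul_assoc, hyy, ← mul_assoc, hee]
      have heye : e * y * e = e * y := by rw [mul_assoc, hcomm y hy e heK, ← mul_assoc, hee]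
      have hlt : rk (e * y) < rk e := by
        refine Finset.card_lt_card ⟨fun z hz => ?_, fun hsub => ?_⟩
        · obtain ⟨-, h1, h2, h3⟩ := Finset.mem_filter.mp hz
          refine Finset.mem_filter.mpr ⟨Finset.mem_univ _, ?_, h2, h3⟩
          calc z * e = z * (e * y) * e := by rw [h1]
            _ = z := by rw [mul_assoc, heye, h1]
        · obtain ⟨-, h1, -, -⟩ := Finset.mem_filter.mp (hsub (Finset.mem_filter.mpr ⟨Finset.mem_univ e, hee, hee, heK⟩))
          exact hcon.2 (by rwa [← mul_assoc, hee] at h1)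
      exact absurd (hmin (e * y) (by
        rw [hT]
        exact ⟨heyK, hidem, hcon.1, by rw [mul_assoc, hcomm y hy g hgK, ← mul_assoc, heg]⟩)) (not_le.mpr hlt)
    apply he0
    rw [← heg, hg, mul_sub, mul_one, hsum e heS, sub_self]
  refine ⟨Fintype.card S, fun i => ((Fintype.equivFin S).symm i : Matrix ι ι F), fun i => ?_, fun i j hij => ?_, ?_,
    fun g hg hgg i => (hmem _ ((Fintype.equivFin S).symm i).2).2.2.2 g hg hgg⟩
  · obtain ⟨h1, h2, h3, -⟩ := hmem _ ((Fintype.equivFin S).symm i).2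
    exact ⟨h1, h2, h3⟩
  · exact horth _ ((Fintype.equivFin S).symm i).2 _ ((Fintype.equivFin S).symm j).2 fun h =>
      hij ((Fintype.equivFin S).symm.injective (Subtype.ext h))
  · rw [Equiv.sum_comp (Fintype.equivFin S).symm (fun e : S => (e : Matrix ι ι F)), Finset.sum_coe_sort S (fun e => e),
      hone]

variable {m : ℕ} [Fintype F] {H : Subgroup (GL (Fin m ⊕ Fin m) F)} (hH : H ≤ spGL m F) (hI : Irr H)

local notation "M₂" => Matrix (Fin m ⊕ Fin m) (Fin m ⊕ Fin m) F

include hH hI in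
/-- A self-adjoint commutative algebra: an orthogonal decomposition or an extension field. -/
theorem sp_selfadjoint_member {K : Subalgebra F M₂} (hm : 0 < m) (hcomm : ∀ x ∈ K, ∀ y ∈ K, x * y = y * x)
    (hconj : ∀ h ∈ H, ∀ x ∈ K, cnj h x ∈ K) (hsa : ∀ x ∈ K, AdjPair (sympForm m F) x x)
    (hns : ∃ x ∈ K, ∀ c : F, x ≠ c • 1) : SpMember H := by
  classical
  haveI : Nonempty (Fin m ⊕ Fin m) := ⟨Sum.inl ⟨0, hm⟩⟩
  haveI : Finite M₂ := Module.finite_of_finite F
  have hf := isSymplecticForm_sympForm (F := F) m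
  obtain ⟨t, ε, hε, horth, hsum, hprim⟩ := exists_prim_idem hcomm
  rcases t with _ | _ | t
  · simp at hsum
  · -- a field
    have hε1 : ε 0 = 1 := by simpa using hsum
    have hid : ∀ g ∈ K, g * g = g → g = 0 ∨ g = 1 := fun g hg hgg => by simpa [hε1] using hprim g hg hgg 0
    obtain ⟨x₀, hx₀, hx₀s⟩ := hns
    have hK : IsFieldSubalgebra (Module.finrank F K) K := by
      refine ⟨hcomm, fun x hx hx0 => ?_, rfl⟩
      obtain ⟨k, hk, hkk⟩ := exists_idem_pow x
      rcases hid _ (K.pow_mem hx k) hkk with h | h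
      · exact absurd (eq_zero_of_nilpotent hI hcomm hconj hx ⟨k, h⟩) hx0
      · obtain ⟨j, rfl⟩ := Nat.exists_eq_succ_of_ne_zero hk.ne'
        exact ⟨x ^ j, K.pow_mem hx j, by rw [← pow_succ']; exact h⟩
    have hf1 : 1 < Module.finrank F K := by
      by_contra hle
      obtain ⟨c, hc⟩ := (finrank_le_one_iff (K := F) (V := K)).mp (not_lt.mp hle)
      obtain ⟨a, ha⟩ := hc ⟨x₀, hx₀⟩
      obtain ⟨b, hb⟩ := hc 1
      have hb0 : b ≠ 0 := by rintro rfl; rw [zero_smul] at hb; exact one_ne_zero hb.symm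
      refine hx₀s (a / b) ?_
      have h1 := congrArg Subtype.val ha
      have h2 := congrArg Subtype.val hb
      simp only [SetLike.val_smul, OneMemClass.coe_one] at h1 h2
      rw [← h1, ← h2, smul_smul, div_mul_cancel₀ a hb0]
    obtain ⟨r, K', hr, hK', hle, hsub⟩ := exists_field_prime_sub (N := H) hf1 hK hconj
    refine ⟨_, Or.inr (Or.inl ⟨r, K', hr, hK', fun k hk u v => hsa k (hsub k hk) u v, fun k hk v => ?_, rfl⟩),
      le_inf hle hH⟩
    by_cases h2 : (2 : F) = 0
    · -- every element is a square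
      haveI hp2 : CharP F 2 := by
        haveI := ringChar.charP F
        rwa [CharP.ringChar_of_prime_eq_zero Nat.prime_two (by exact_mod_cast h2)] at this
      obtain ⟨j, hj, hjk⟩ : ∃ j ∈ K', j * j = k := by
        have hinj : Function.Injective fun j : K' => j * j := fun a b hab => by
          have hab' : (a : M₂) * a = (b : M₂) * b := congrArg Subtype.val hab
          have hs : ((a : M₂) - b) * ((a : M₂) - b) = 0 := by
            have h2' : (a : M₂) * b + (a : M₂) * b = 0 := by
              rw [← two_smul F, h2, zero_smul]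
            have h2'' : (b : M₂) * b + (b : M₂) * b = 0 := by rw [← two_smul F, h2, zero_smul]
            rw [sub_mul, mul_sub, mul_sub, hK'.comm _ b.2 _ a.2, hab']
            calc (b : M₂) * b - (a : M₂) * b - ((a : M₂) * b - (b : M₂) * b)
                = ((b : M₂) * b + (b : M₂) * b) - ((a : M₂) * b + (a : M₂) * b) := by abel
              _ = 0 := by rw [h2', h2'', sub_zero]
          by_contra hne
          obtain ⟨y, hy, hxy⟩ := hK'.inv _ (K'.sub_mem a.2 b.2) (sub_ne_zero.mpr fun h => hne (Subtype.ext h))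
          apply sub_ne_zero.mpr fun h => hne (Subtype.ext h)
          rw [← mul_one ((a : M₂) - b), ← hxy, ← mul_assoc, hs, zero_mul]
        obtain ⟨j, hj⟩ := (Finite.injective_iff_surjective.mp hinj) ⟨k, hk⟩
        exact ⟨j, j.2, congrArg Subtype.val hj⟩
      rw [← hjk, ← mulVec_mulVec, hsa j (hsub j hj)]
      exact hf.alternating _
    · have h1 := hf.skew (k *ᵥ v) v
      rw [← hsa k (hsub k hk) v v] at h1
      exact (mul_eq_zero.mp (show (2 : F) * sympForm m F (k *ᵥ v) v = 0 by linear_combination h1)).resolve_left h2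
  · -- an orthogonal decomposition
    obtain ⟨T, hT⟩ : ∃ T, T = t + 1 + 1 := ⟨_, rfl⟩
    let V : Fin (t + 1 + 1) → Submodule F (Fin m ⊕ Fin m → F) := fun i => LinearMap.range (Matrix.toLin' (ε i))
    have hmemV : ∀ i v, v ∈ V i ↔ ε i *ᵥ v = v := fun i v => by
      constructor
      · rintro ⟨u, rfl⟩; rw [Matrix.toLin'_apply, mulVec_mulVec, (hε i).2.1]
      · intro hv; exact ⟨v, by rw [Matrix.toLin'_apply, hv]⟩
    have hVtop : iSup V = ⊤ := by
      rw [eq_top_iff]
      intro v _
      rw [← one_mulVec v, ← hsum, Matrix.sum_mulVec]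
      exact Submodule.sum_mem _ fun i _ => Submodule.mem_iSup_of_mem i ⟨v, Matrix.toLin'_apply _ _⟩
    have hVind : iSupIndep V := by
      rw [iSupIndep_iff_finsetSum_eq_zero_imp_eq_zero]
      intro s v hv hs i hi
      have h1 := congrArg (ε i *ᵥ ·) hs
      simp only [Matrix.mulVec_sum, mulVec_zero] at h1
      rw [Finset.sum_eq_single i (fun j hj hji => by
        rw [← (hmemV j (v j)).mp (hv j hj), mulVec_mulVec, horth i j hji.symm, zero_mulVec])
        (fun h => absurd hi h), (hmemV i _).mp (hv i hi)] at h1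
      exact h1
    have hperm : ∀ h ∈ H, ∀ i, ∃ j, cnj h (ε i) = ε j := by
      intro h hh i
      have hgK := hconj h hh _ (hε i).1
      have hgg : cnj h (ε i) * cnj h (ε i) = cnj h (ε i) := by rw [← map_mul, (hε i).2.1]
      obtain ⟨j, hj⟩ : ∃ j, ε j * cnj h (ε i) ≠ 0 := by
        by_contra hno
        push Not at hno
        apply (hε i).2.2
        apply (cnj h).injective
        rw [map_zero, ← one_mul (cnj h (ε i)), ← hsum, Finset.sum_mul, Finset.sum_eq_zero fun j _ => hno j]
      refine ⟨j, ?_⟩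
      have e1 : ε j * cnj h (ε i) = ε j := (hprim _ hgK hgg j).resolve_left hj
      -- and backwards
      have hyK := hconj h⁻¹ (H.inv_mem hh) _ (hε j).1
      have hyy : cnj h⁻¹ (ε j) * cnj h⁻¹ (ε j) = cnj h⁻¹ (ε j) := by rw [← map_mul, (hε j).2.1]
      have hback : cnj h (cnj h⁻¹ (ε j)) = ε j := by rw [← cnj_symm, AlgEquiv.apply_symm_apply]
      rcases hprim _ hyK hyy i with h0 | h0
      · have h1 := congrArg (cnj h) h0
        rw [map_mul, map_zero, hback] at h1
        exact absurd (by rw [hcomm _ (hε j).1 _ hgK]; exact h1) hj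
      · have h1 := congrArg (cnj h) h0
        rw [map_mul, hback] at h1
        rw [← h1, hcomm _ hgK _ (hε j).1, e1]
    have hVmap : ∀ h ∈ H, ∀ i j, cnj h (ε i) = ε j →
        (V i).map (Matrix.toLin' (h : M₂)) = V j := by
      intro h hh i j hij
      refine le_antisymm ?_ ?_
      · rintro _ ⟨v, hv, rfl⟩
        rw [hmemV, ← hij, Matrix.toLin'_apply, cnj_apply, mulVec_mulVec, Units.inv_mul_cancel_right,
          ← mulVec_mulVec, (hmemV i v).mp hv]
      · intro v hv
        refine ⟨((h⁻¹ : GL (Fin m ⊕ Fin m) F) : M₂) *ᵥ v, (hmemV i _).mpr ?_, ?_⟩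
        · have h1 := congrArg (((h⁻¹ : GL (Fin m ⊕ Fin m) F) : M₂) *ᵥ ·) ((hmemV j v).mp hv)
          simp only [← hij, cnj_apply, mulVec_mulVec, ← mul_assoc, Units.inv_mul, one_mul] at h1
          rw [mulVec_mulVec]; exact h1
        · rw [Matrix.toLin'_apply, mulVec_mulVec, Units.mul_inv, one_mulVec]
    have hsame : ∀ a b, Module.finrank F (V a) = Module.finrank F (V b) := by
      intro a b
      by_contra hne
      let U : Submodule F (Fin m ⊕ Fin m → F) := ⨆ i, ⨆ (_ : Module.finrank F (V i) = Module.finrank F (V a)), V i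
      have hle : ∀ h ∈ H, U.map (Matrix.toLin' (h : M₂)) ≤ U := by
        intro h hh
        simp only [U, Submodule.map_iSup]
        refine iSup₂_le fun i hi => ?_
        obtain ⟨j, hj⟩ := hperm h hh i
        rw [hVmap h hh i j hj]
        exact le_iSup₂_of_le j (by rw [← hVmap h hh i j hj, Techniques.AschPrime.finrank_map_gl, hi]) le_rfl
      rcases (irr_iff H).mp hI U (fun h hh v hv => by
        have := hle h hh (Submodule.mem_map_of_mem hv)
        rwa [Matrix.toLin'_apply] at this) with h | h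
      · refine (hε a).2.2 (Matrix.toLin'.injective ?_)
        rw [map_zero]
        refine LinearMap.range_eq_bot.mp (eq_bot_iff.mpr ?_)
        rw [← h]
        exact le_iSup₂_of_le a rfl le_rfl
      · have hb : V b = ⊥ := by
          refine (hVind b).eq_bot_of_le (le_trans le_top ?_)
          rw [← h]
          exact iSup₂_le fun i hi => le_iSup₂_of_le i (fun e => hne (by rw [← hi, e])) le_rfl
        exact (hε b).2.2 (Matrix.toLin'.injective (by rw [map_zero]; exact LinearMap.range_eq_bot.mp hb))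
    have hpos : ∀ i, 0 < Module.finrank F (V i) := fun i => Nat.pos_of_ne_zero fun h0 => (hε i).2.2
      (Matrix.toLin'.injective (by rw [map_zero]; exact LinearMap.range_eq_bot.mp (Submodule.finrank_eq_zero.mp h0)))
    refine ⟨_, Or.inl (Or.inr (Or.inr (Or.inl ⟨t + 1 + 1, Module.finrank F (V 0), V,
      ⟨⟨by omega, hpos 0, fun i => hsame i 0, hVind, hVtop⟩, fun i w hw hw0 => ?_, fun i j hij u hu v hv => ?_⟩, rfl⟩))),
      fun h hh => ⟨?_, hH hh⟩⟩
    · obtain ⟨⟨x, hx⟩, ⟨y, hy⟩⟩ := hf.nondegenerate w hw0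
      refine ⟨⟨ε i *ᵥ x, ⟨x, Matrix.toLin'_apply _ _⟩, ?_⟩, ε i *ᵥ y, ⟨y, Matrix.toLin'_apply _ _⟩, ?_⟩
      · rw [hsa _ (hε i).1, (hmemV i w).mp hw]; exact hx
      · rw [← hsa _ (hε i).1, (hmemV i w).mp hw]; exact hy
    · rw [← (hmemV i u).mp hu, hsa _ (hε i).1, ← (hmemV j v).mp hv, mulVec_mulVec, horth i j hij, zero_mulVec]
      have := hf.bilinear.smul_right 0 u 0
      simpa using this
    · choose σ hσ using hperm h hh
      have hinj : Function.Injective σ := fun i j hij => by
        have h2 : ε i = ε j := (cnj h).injective (by rw [hσ, hσ, hij])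
        by_contra hne
        exact (hε i).2.2 (by rw [← (hε i).2.1]; nth_rewrite 2 [h2]; exact horth i j hne)
      exact ⟨Equiv.ofBijective σ (Finite.injective_iff_bijective.mp hinj), fun i => hVmap h hh i _ (hσ i)⟩

include hH hI in
/-- A commutative algebra closed under adjoints: a member. -/
theorem sp_toral_member {K : Subalgebra F M₂} (hm : 0 < m) (hcomm : ∀ x ∈ K, ∀ y ∈ K, x * y = y * x)
    (hconj : ∀ h ∈ H, ∀ x ∈ K, cnj h x ∈ K) (hadj : ∀ x ∈ K, ∃ x' ∈ K, AdjPair (sympForm m F) x x')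
    (hns : ∃ x ∈ K, ∀ c : F, x ≠ c • 1) : SpMember H := by
  classical
  haveI : Nonempty (Fin m ⊕ Fin m) := ⟨Sum.inl ⟨0, hm⟩⟩
  have hf := isSymplecticForm_sympForm (F := F) m
  let K₀ : Subalgebra F M₂ :=
    { carrier := {x | x ∈ K ∧ AdjPair (sympForm m F) x x}
      mul_mem' := fun {x y} hx hy => ⟨K.mul_mem hx.1 hy.1, by
        have := hx.2.mul hy.2
        rwa [hcomm y hy.1 x hx.1] at this⟩
      one_mem' := ⟨K.one_mem, adj_one⟩
      add_mem' := fun {x y} hx hy => ⟨K.add_mem hx.1 hy.1, hx.2.add hf.bilinear hy.2⟩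
      zero_mem' := ⟨K.zero_mem, fun u v => by
        have h1 := hf.bilinear.smul_left 0 u v
        have h2 := hf.bilinear.smul_right 0 u v
        simp only [zero_smul, zero_mul] at h1 h2
        rw [zero_mulVec, zero_mulVec, h1, h2]⟩
      algebraMap_mem' := fun c => ⟨K.algebraMap_mem c, by
        rw [Algebra.algebraMap_eq_smul_one]
        exact adj_one.smul hf.bilinear c⟩ }
  by_cases h0 : ∃ x ∈ K₀, ∀ c : F, x ≠ c • 1
  · exact sp_selfadjoint_member hH hI (K := K₀) hm (fun x hx y hy => hcomm x hx.1 y hy.1)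
      (fun h hh x hx => ⟨hconj h hh x hx.1, hx.2.cnj (hH hh)⟩) (fun x hx => hx.2) h0
  push Not at h0
  have hsa : ∀ x ∈ K, AdjPair (sympForm m F) x x → ∃ c : F, x = c • 1 := fun x hx hxx => h0 x ⟨hx, hxx⟩
  have hsym : ∀ {x x' : M₂}, AdjPair (sympForm m F) x x' → AdjPair (sympForm m F) (x + x') (x + x') := fun {x x'} h => by
    have := h.add hf.bilinear (h.symm hf.skew)
    rwa [add_comm x' x] at this
  obtain ⟨x₀, hx₀, hx₀s⟩ := hns
  obtain ⟨x₀', hx₀', hxx'⟩ := hadj x₀ hx₀
  by_cases h2 : (2 : F) = 0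
  · -- characteristic two: a quadratic form
    have hneg : ∀ A : M₂, -A = A := fun A => by
      rw [neg_eq_iff_add_eq_zero, ← two_smul F, h2, zero_smul]
    obtain ⟨c, hc⟩ := hsa _ (K.add_mem hx₀ hx₀') (hsym hxx')
    have hc0 : c ≠ 0 := by
      rintro rfl
      rw [zero_smul, add_eq_zero_iff_eq_neg, hneg] at hc
      obtain ⟨a, ha⟩ := hsa x₀ hx₀ (by rwa [← hc] at hxx')
      exact hx₀s a ha
    obtain ⟨l, hl⟩ : ∃ l, l = c⁻¹ • x₀ := ⟨_, rfl⟩
    obtain ⟨l', hl'⟩ : ∃ l', l' = c⁻¹ • x₀' := ⟨_, rfl⟩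
    have hll : AdjPair (sympForm m F) l l' := by rw [hl, hl']; exact hxx'.smul hf.bilinear _
    have hlK : l ∈ K := hl ▸ K.smul_mem hx₀ _
    have hlK' : l' ∈ K := hl' ▸ K.smul_mem hx₀' _
    have hone : l + l' = 1 := by rw [hl, hl', ← smul_add, hc, smul_smul, inv_mul_cancel₀ hc0, one_smul]
    refine sp_quad_member hH h2 (Q := fun v => sympForm m F (l *ᵥ v) v) (fun a v => ?_) (fun u v => ?_)
      fun h hh v => ?_
    · rw [mulVec_smul, hf.bilinear.smul_left, hf.bilinear.smul_right]; ring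
    · have e2 : sympForm m F (l *ᵥ v) u = sympForm m F (l' *ᵥ u) v := by
        rw [hll.symm hf.skew u v, hf.skew]
        linear_combination (sympForm m F u (l *ᵥ v)) * (-h2)
      calc QuadraticMap.polar (fun v => sympForm m F (l *ᵥ v) v) u v
          = sympForm m F (l *ᵥ u) v + sympForm m F (l *ᵥ v) u := by
            simp only [QuadraticMap.polar, mulVec_add, hf.bilinear.add_left, hf.bilinear.add_right]; ring
        _ = sympForm m F u v := by rw [e2, ← hf.bilinear.add_left, ← add_mulVec, hone, one_mulVec]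
    · obtain ⟨μ, hμ⟩ : ∃ μ, μ = cnj h⁻¹ l := ⟨_, rfl⟩
      obtain ⟨μ', hμ'⟩ : ∃ μ', μ' = cnj h⁻¹ l' := ⟨_, rfl⟩
      have hmm : AdjPair (sympForm m F) μ μ' := by rw [hμ, hμ']; exact hll.cnj (hH (H.inv_mem hh))
      have hsum1 : μ + μ' = 1 := by rw [hμ, hμ', ← map_add, hone, map_one]
      have hd : AdjPair (sympForm m F) (μ + l) (μ + l) := by
        have h1 := hmm.add hf.bilinear hll
        have e : μ' + l' = μ + l := by
          have h3 : μ' = 1 - μ := eq_sub_of_add_eq' hsum1
          have h4 : l' = 1 - l := eq_sub_of_add_eq' hone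
          rw [h3, h4]
          have h5 : (1 : M₂) + 1 = 0 := by rw [← two_smul F, h2, zero_smul]
          calc (1 - μ) + (1 - l) = (1 + 1) + (-μ + -l) := by abel
            _ = μ + l := by rw [h5, zero_add, hneg, hneg]
        rwa [e] at h1
      obtain ⟨a, ha⟩ := hsa _ (K.add_mem (hμ ▸ hconj _ (H.inv_mem hh) _ hlK) hlK) hd
      have hμl : μ = l + a • 1 := by
        rw [← ha, ← add_assoc, add_comm l μ, add_assoc, show l + l = 0 by rw [← two_smul F, h2, zero_smul], add_zero]
      change sympForm m F (l *ᵥ ((h : M₂) *ᵥ v)) ((h : M₂) *ᵥ v) = sympForm m F (l *ᵥ v) v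
      have hconjl : l *ᵥ ((h : M₂) *ᵥ v) = (h : M₂) *ᵥ (μ *ᵥ v) := by
        rw [hμ, cnj_apply, inv_inv, mulVec_mulVec, mulVec_mulVec, ← mul_assoc, ← mul_assoc, Units.mul_inv, one_mul]
      rw [hconjl, sp_iso hH hh, hμl, add_mulVec, hf.bilinear.add_left, smul_mulVec, one_mulVec,
        hf.bilinear.smul_left, hf.alternating, mul_zero, add_zero]
  · -- odd characteristic: a skew element
    have hhalf : ∀ x ∈ K, ∀ x' ∈ K, AdjPair (sympForm m F) x x' → ∃ a : F, x + x' = a • 1 := fun x hx x' hx' h =>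
      hsa _ (K.add_mem hx hx') (hsym h)
    obtain ⟨s, hs⟩ : ∃ s, s = x₀ - x₀' := ⟨_, rfl⟩
    have hsK : s ∈ K := hs ▸ K.sub_mem hx₀ hx₀'
    have hskew : AdjPair (sympForm m F) s (-s) := by
      have h1 := hxx'.add hf.bilinear ((hxx'.symm hf.skew).smul hf.bilinear (-1))
      rw [neg_one_smul, neg_one_smul, ← sub_eq_add_neg, ← sub_eq_add_neg] at h1
      rwa [hs, neg_sub]
    have hsns : ∀ c : F, s ≠ c • 1 := fun c hc => by
      obtain ⟨a, ha⟩ := hhalf _ hx₀ _ hx₀' hxx'
      refine hx₀s ((a + c) / 2) ?_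
      have h1 : (2 : F) • x₀ = (a + c) • 1 := by
        rw [add_smul, ← ha, ← hc, hs, two_smul]; abel
      rw [div_eq_inv_mul, ← smul_smul, ← h1, smul_smul, inv_mul_cancel₀ h2, one_smul]
    obtain ⟨δ, hδ⟩ : ∃ δ : F, s * s = δ • 1 := hsa _ (K.mul_mem hsK hsK) (by
      have := hskew.mul hskew
      rwa [neg_mul_neg] at this)
    have hδ0 : δ ≠ 0 := fun h => hsns 0 (by
      rw [zero_smul]
      exact eq_zero_of_nilpotent hI hcomm hconj hsK ⟨2, by rw [sq, hδ, h, zero_smul]⟩)
    have hskewspan : ∀ y ∈ K, AdjPair (sympForm m F) y (-y) → ∃ c : F, y = c • s := fun y hy hyy => by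
      obtain ⟨b, hb⟩ := hsa _ (K.mul_mem hy hsK) (by
        have := hyy.mul hskew
        rwa [neg_mul_neg, hcomm s hsK y hy] at this)
      refine ⟨b / δ, ?_⟩
      have h1 : δ • y = b • s := by rw [← mul_one y, ← Matrix.mul_smul, ← hδ, ← mul_assoc, hb, Matrix.smul_mul, one_mul]
      rw [div_eq_inv_mul, ← smul_smul, ← h1, smul_smul, inv_mul_cancel₀ hδ0, one_smul]
    have hspan : ∀ x ∈ K, ∃ a b : F, x = a • 1 + b • s := by
      intro x hx
      obtain ⟨x', hx', h⟩ := hadj x hx
      obtain ⟨a, ha⟩ := hhalf x hx x' hx' h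
      obtain ⟨b, hb⟩ := hskewspan (x - x') (K.sub_mem hx hx') (by
        have h1 := h.add hf.bilinear ((h.symm hf.skew).smul hf.bilinear (-1))
        rw [neg_one_smul, neg_one_smul, ← sub_eq_add_neg, ← sub_eq_add_neg] at h1
        rwa [neg_sub])
      refine ⟨a / 2, b / 2, ?_⟩
      rw [div_eq_inv_mul, div_eq_inv_mul, ← smul_smul, ← smul_smul, ← ha, ← hb, ← smul_add,
        show x + x' + (x - x') = (2 : F) • x by rw [two_smul]; abel, smul_smul, inv_mul_cancel₀ h2, one_smul]
    have hodd : Odd (Fintype.card F) := by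
      rw [Nat.odd_iff]
      exact FiniteField.odd_card_of_char_ne_two fun h => h2 (by
        haveI := ringChar.charP F
        rw [h] at this
        exact CharP.cast_eq_zero F 2)
    by_cases hsq : ∃ a : F, a * a = δ
    · -- two totally singular halves
      obtain ⟨a, ha⟩ := hsq
      have ha0 : a ≠ 0 := by rintro rfl; exact hδ0 (by rw [← ha, zero_mul])
      obtain ⟨D, hD⟩ : ∃ D : Fin 2 → Submodule F (Fin m ⊕ Fin m → F),
          D = ![LinearMap.ker (Matrix.toLin' (s - a • 1)), LinearMap.ker (Matrix.toLin' (s - (-a) • 1))] := ⟨_, rfl⟩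
      obtain ⟨χ, hχ⟩ : ∃ χ : Fin 2 → F, χ = ![a, -a] := ⟨_, rfl⟩
      have hmem : ∀ i v, v ∈ D i ↔ s *ᵥ v = χ i • v := fun i v => by
        fin_cases i <;>
          simp [hD, hχ, LinearMap.mem_ker, sub_mulVec, Matrix.smul_mulVec, one_mulVec, sub_eq_zero, eq_neg_iff_add_eq_zero]
      have hsing : ∀ i, IsTotallySingularFor (sympForm m F) (D i) := fun i u hu v hv => by
        have h1 := hskew u v
        rw [(hmem i u).mp hu, neg_mulVec, (hmem i v).mp hv, hf.bilinear.smul_left, ← neg_smul,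
          hf.bilinear.smul_right] at h1
        have h3 : (2 * χ i) * sympForm m F u v = 0 := by linear_combination h1
        refine (mul_eq_zero.mp h3).resolve_left (mul_ne_zero h2 ?_)
        fin_cases i <;> simp [hχ, ha0]
      have hdec : ∀ v : Fin m ⊕ Fin m → F, ∃ u ∈ D 0, ∃ w ∈ D 1, u + w = v := fun v => by
        have hss : s *ᵥ (s *ᵥ v) = (a * a) • v := by rw [mulVec_mulVec, hδ, Matrix.smul_mulVec, one_mulVec, ha]
        refine ⟨(2 * a)⁻¹ • (a • v + s *ᵥ v), (hmem 0 _).mpr ?_, (2 * a)⁻¹ • (a • v - s *ᵥ v), (hmem 1 _).mpr ?_, ?_⟩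
        · simp only [hχ, Matrix.cons_val_zero, mulVec_smul, mulVec_add, hss, smul_add, smul_smul]
          module
        · simp only [hχ, Matrix.cons_val_one, Matrix.cons_val_fin_one, mulVec_smul, mulVec_sub, hss, smul_sub, smul_smul]
          module
        · rw [← smul_add, add_add_sub_cancel, ← two_smul F (a • v), smul_smul, smul_smul]
          rw [show (2 * a)⁻¹ * 2 * a = 1 by field_simp, one_smul]
      have hdisj : D 0 ⊓ D 1 = ⊥ := by
        rw [eq_bot_iff]
        rintro v ⟨h0', h1'⟩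
        have h3 := ((hmem 0 v).mp h0').symm.trans ((hmem 1 v).mp h1')
        simp only [hχ, Matrix.cons_val_zero, Matrix.cons_val_one, Matrix.cons_val_fin_one] at h3
        have h4 : (2 * a) • v = 0 := by rw [two_mul, add_smul]; nth_rewrite 2 [h3]; rw [← add_smul, add_neg_cancel, zero_smul]
        simpa [mul_ne_zero h2 ha0] using h4
      have htop : D 0 ⊔ D 1 = ⊤ := by
        rw [eq_top_iff]
        intro v _
        obtain ⟨u, hu, w, hw, rfl⟩ := hdec v
        exact Submodule.add_mem_sup hu hw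
      have hdim : ∀ i, Module.finrank F (D i) = m := by
        have h := Submodule.finrank_sup_add_finrank_inf_eq (D 0) (D 1)
        rw [hdisj, htop, finrank_bot, finrank_top, Module.finrank_fintype_fun_eq_card, natCard_index] at h
        have b0 := finrank_le_of_singular (hsing 0)
        have b1 := finrank_le_of_singular (hsing 1)
        intro i
        fin_cases i <;> simp only [Fin.zero_eta, Fin.mk_one] <;> omega
      refine ⟨_, Or.inl (Or.inr (Or.inr (Or.inr (Or.inl ⟨D, hodd, ⟨le_rfl, hm, hdim,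
        iSupIndep_pair (i := 0) (j := 1) (by decide) (fun k => by fin_cases k <;> simp) |>.mpr
          (disjoint_iff.mpr hdisj), ?_⟩, hsing, rfl⟩)))), fun h hh => ⟨?_, hH hh⟩⟩
      · rw [eq_top_iff, ← htop]
        exact sup_le (le_iSup D 0) (le_iSup D 1)
      · have hconjskew : AdjPair (sympForm m F) (cnj h⁻¹ s) (-cnj h⁻¹ s) := by
          rw [← map_neg]; exact hskew.cnj (hH (H.inv_mem hh))
        obtain ⟨c, hc⟩ := hskewspan _ (hconj _ (H.inv_mem hh) _ hsK) hconjskew
        have hcc : c * c = 1 := by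
          have h1 : cnj h⁻¹ (s * s) = (c * c) • (s * s) := by
            rw [map_mul, hc, Matrix.smul_mul, Matrix.mul_smul, smul_smul]
          rw [hδ, map_smul, map_one, smul_smul] at h1
          have h2' := congrFun (congrFun h1 (Classical.arbitrary _)) (Classical.arbitrary _)
          simp only [Matrix.smul_apply, Matrix.one_apply_eq, smul_eq_mul, mul_one] at h2'
          exact (mul_eq_right₀ hδ0).mp h2'.symm
        obtain ⟨π, hπ⟩ : ∃ π : Equiv.Perm (Fin 2), ∀ i, c * χ i = χ (π i) := by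
          rcases mul_self_eq_one_iff.mp hcc with rfl | rfl
          · exact ⟨1, fun i => by simp⟩
          · exact ⟨Equiv.swap 0 1, fun i => by fin_cases i <;> simp [hχ]⟩
        refine ⟨π, fun i => Submodule.eq_of_le_of_finrank_eq ?_ (by rw [Techniques.AschPrime.finrank_map_gl, hdim, hdim])⟩
        rintro _ ⟨v, hv, rfl⟩
        rw [Matrix.toLin'_apply, hmem, ← hπ]
        have h1 : s *ᵥ ((h : M₂) *ᵥ v) = (h : M₂) *ᵥ (cnj h⁻¹ s *ᵥ v) := by
          rw [cnj_apply, inv_inv, mulVec_mulVec, mulVec_mulVec, ← mul_assoc, ← mul_assoc, Units.mul_inv, one_mul]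
        rw [h1, hc, Matrix.smul_mulVec, (hmem i v).mp hv, smul_smul, mulVec_smul]
    · -- a quadratic extension
      have hK : IsFieldSubalgebra 2 K := by
        refine ⟨hcomm, fun x hx hx0 => ?_, ?_⟩
        · obtain ⟨a, b, rfl⟩ := hspan x hx
          have hne : a * a - b * b * δ ≠ 0 := fun h0' => by
            by_cases hb : b = 0
            · subst hb
              have : a = 0 := by simpa using h0'
              exact hx0 (by rw [this, zero_smul, zero_smul, add_zero])
            · exact hsq ⟨a / b, by field_simp; linear_combination h0'⟩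
          refine ⟨(a * a - b * b * δ)⁻¹ • (a • 1 - b • s),
            K.smul_mem (K.sub_mem (K.smul_mem K.one_mem _) (K.smul_mem hsK _)) _, ?_⟩
          rw [Matrix.mul_smul]
          have e : (a • (1 : M₂) + b • s) * (a • 1 - b • s) = (a * a - b * b * δ) • 1 := by
            simp only [add_mul, mul_sub, Matrix.smul_mul, Matrix.mul_smul, one_mul, mul_one, hδ, smul_smul]
            module
          rw [e, smul_smul, inv_mul_cancel₀ hne, one_smul]
        · refine le_antisymm ?_ ?_
          · have : Subalgebra.toSubmodule K ≤ Submodule.span F (Set.range ![(1 : M₂), s]) := fun x hx => by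
              obtain ⟨a, b, rfl⟩ := hspan x hx
              exact Submodule.add_mem _ (Submodule.smul_mem _ _ (Submodule.subset_span ⟨0, rfl⟩))
                (Submodule.smul_mem _ _ (Submodule.subset_span ⟨1, rfl⟩))
            refine ((Submodule.finrank_mono this).trans ?_)
            exact finrank_range_le_card ![(1 : M₂), s]
          · have hli : LinearIndependent F ![(⟨1, K.one_mem⟩ : K), ⟨s, hsK⟩] := by
              refine LinearIndependent.pair_iff.mpr fun a b hab => ?_
              have h1 := congrArg Subtype.val hab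
              simp only [AddMemClass.coe_add, SetLike.val_smul, ZeroMemClass.coe_zero] at h1
              by_cases hb : b = 0
              · subst hb
                rw [zero_smul, add_zero, smul_eq_zero] at h1
                exact ⟨h1.resolve_right one_ne_zero, rfl⟩
              · refine absurd ?_ (hsns (-(b⁻¹ * a)))
                rw [neg_smul, ← smul_smul, eq_neg_iff_add_eq_zero]
                have h2' := congrArg (fun z => b⁻¹ • z) h1
                simp only [smul_add, smul_smul, smul_zero, inv_mul_cancel₀ hb, one_smul] at h2'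
                rw [smul_smul, add_comm]; exact h2'
            simpa using hli.fintype_card_le_finrank
      refine ⟨_, Or.inr (Or.inr (Or.inl ⟨K, hodd, hK, fun k hk => hadj k hk, fun hsa' => ?_, rfl⟩)), le_inf ?_ hH⟩
      · obtain ⟨c, hc⟩ := hsa s hsK (hsa' s hsK)
        exact hsns c hc
      · intro h hh k
        refine ⟨hconj h hh k, fun hk => ?_⟩
        have := hconj h⁻¹ (H.inv_mem hh) _ hk
        rwa [cnj_apply, inv_inv, show ((h⁻¹ : GL (Fin m ⊕ Fin m) F) : M₂) * ((h : M₂) * k *
          ((h⁻¹ : GL (Fin m ⊕ Fin m) F) : M₂)) * (h : M₂) = k by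
          simp only [mul_assoc, Units.inv_mul_cancel_left, Units.inv_mul, mul_one]] at this

end CfsgLib.Classical22.Asch
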