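/-
Subgroups of the symplectic group preserving a tensor decomposition with two factors.
-/
import Cfsg.Agent.Lib.Classical22.Asch.SpCoord
import Cfsg.Agent.Lib.Classical22.Asch.SpToral
import Cfsg.Agent.Lib.Classical22.Asch.FormFactors

set_option autoImplicit false

set_option maxHeartbeats 800000

namespace CfsgLib.Classical22.Asch

open Matrix Cfsg Cfsg.Geo CfsgLib.Techniques.AschPrime CfsgLib.Techniques.AschGen CfsgLib.Transvec
open scoped Kronecker MatrixGroups

variable {m : ℕ} {F : Type*} [Field F] [Fintype F] {H : Subgroup (GL (Fin m ⊕ Fin m) F)} (hH : H ≤ spGL m F)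
  (hI : Irr H)

local notation "M₂" => Matrix (Fin m ⊕ Fin m) (Fin m ⊕ Fin m) F

omit [Fintype F] in
lemma kronecker_mulVec_pure {a b : ℕ} (X : Matrix (Fin a) (Fin a) F) (Y : Matrix (Fin b) (Fin b) F) (y : Fin a → F)
    (z : Fin b → F) :
    (X ⊗ₖ Y) *ᵥ (fun x => y x.1 * z x.2) = fun x => (X *ᵥ y) x.1 * (Y *ᵥ z) x.2 := by
  funext x
  simp only [mulVec, dotProduct]
  rw [Fintype.sum_prod_type, Finset.sum_mul_sum]
  exact Finset.sum_congr rfl fun i _ => Finset.sum_congr rfl fun j _ => by rw [kronecker_apply]; ring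

omit [Fintype F] in
lemma pure_dotProduct {a b : ℕ} (y y' : Fin a → F) (z z' : Fin b → F) :
    (fun x : Fin a × Fin b => y x.1 * z x.2) ⬝ᵥ (fun x => y' x.1 * z' x.2) = (y ⬝ᵥ y') * (z ⬝ᵥ z') := by
  simp only [dotProduct]
  rw [Fintype.sum_prod_type, Finset.sum_mul_sum]
  exact Finset.sum_congr rfl fun i _ => Finset.sum_congr rfl fun j _ => by ring

lemma char_two_of_not_odd (h : ¬ Odd (Fintype.card F)) : (2 : F) = 0 := by
  have h1 := FiniteField.even_card_iff_char_two.mpr (Nat.even_iff.mp (Nat.not_odd_iff_even.mp h))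
  haveI : CharP F 2 := ringChar.of_eq h1
  exact_mod_cast CharP.cast_eq_zero F 2

lemma odd_card_of_two_ne (h2 : (2 : F) ≠ 0) : Odd (Fintype.card F) := by
  rw [Nat.odd_iff]
  exact FiniteField.odd_card_of_char_ne_two fun h => h2 (by
    haveI := ringChar.charP F
    rw [h] at this
    exact CharP.cast_eq_zero F 2)

include hH in
omit [Fintype F] in
/-- The matrix identity of an isometry in coordinates. -/
lemma sp_coord_iso {κ : Type} [Fintype κ] [DecidableEq κ] (e : (Fin m ⊕ Fin m) ≃ κ) (P : GL (Fin m ⊕ Fin m) F)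
    {h : GL (Fin m ⊕ Fin m) F} (hh : h ∈ H) :
    (toCoord e P (h : M₂))ᵀ * fGram e P (sympForm m F) * toCoord e P (h : M₂) = fGram e P (sympForm m F) := by
  have h1 := fGram_similarity (e := e) (P := P) (IsSesq.of_bilinear (isSymplecticForm_sympForm (F := F) m).bilinear)
    (g := (h : M₂)) (c := 1) fun u v => by rw [one_mul]; exact sp_iso hH hh u v
  rw [one_smul] at h1
  simpa [Matrix.map_id] using h1

include hH in
omit [Fintype F] in
/-- The factors of an isometry are similitudes of the factor forms. -/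
lemma sp_tensor_sim {a b : ℕ} {e : (Fin m ⊕ Fin m) ≃ Fin a × Fin b} {P : GL (Fin m ⊕ Fin m) F}
    {G₁ : Matrix (Fin a) (Fin a) F} {G₂ : Matrix (Fin b) (Fin b) F} (h1 : G₁ ≠ 0) (h2 : G₂ ≠ 0)
    (hG : fGram e P (sympForm m F) = G₁ ⊗ₖ G₂) (hle : H ≤ tensorProductSubgroup a b e P)
    {h : GL (Fin m ⊕ Fin m) F} (hh : h ∈ H) :
    ∃ (A : GL (Fin a) F) (B : GL (Fin b) F) (c : F), c ≠ 0 ∧
      toCoord e P (h : M₂) = (A : Matrix (Fin a) (Fin a) F) ⊗ₖ (B : Matrix (Fin b) (Fin b) F) ∧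
      (A : Matrix (Fin a) (Fin a) F)ᵀ * G₁ * (A : Matrix (Fin a) (Fin a) F) = c⁻¹ • G₁ ∧
      (B : Matrix (Fin b) (Fin b) F)ᵀ * G₂ * (B : Matrix (Fin b) (Fin b) F) = c • G₂ := by
  obtain ⟨z, ⟨A, B, hz⟩, hgz⟩ := exists_toCoord_of_mem (hle hh)
  have h3 := sp_coord_iso hH e P hh
  rw [hgz, hz, hG, ← Matrix.kroneckerMap_transpose, ← mul_kronecker_mul, ← mul_kronecker_mul] at h3
  obtain ⟨c, hc, hA, hB⟩ := kronecker_eq_imp h1 h2 h3
  exact ⟨A, B, c, hc, hgz.trans hz, hA, hB⟩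

include hH hI in
/-- Odd characteristic, the symplectic factor first. -/
theorem sp_tensor_odd (hm : 0 < m) (h2 : (2 : F) ≠ 0) {a b : ℕ} (ha : 1 ≤ a) (hb : 2 ≤ b)
    {e : (Fin m ⊕ Fin m) ≃ Fin a × Fin b} {P : GL (Fin m ⊕ Fin m) F}
    {G₁ : Matrix (Fin a) (Fin a) F} {G₂ : Matrix (Fin b) (Fin b) F} (hd1 : G₁.det ≠ 0) (hd2 : G₂.det ≠ 0)
    (hs1 : G₁ᵀ = -G₁) (hs2 : G₂ᵀ = G₂) (hG : fGram e P (sympForm m F) = G₁ ⊗ₖ G₂)
    (hle : H ≤ tensorProductSubgroup a b e P) : SpMember H := by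
  classical
  have hf := isSymplecticForm_sympForm (F := F) m
  haveI : Nonempty (Fin a) := ⟨⟨0, ha⟩⟩
  have hG1 : G₁ ≠ 0 := fun h0 => hd1 (by rw [h0]; exact det_zero)
  haveI : Nonempty (Fin b) := ⟨⟨0, by omega⟩⟩
  have hG2 : G₂ ≠ 0 := fun h0 => hd2 (by rw [h0]; exact det_zero)
  by_cases hb3 : 3 ≤ b
  · refine ⟨_, Or.inr (Or.inr (Or.inr (Or.inl ⟨a, b, e, P, formOfGram id G₁, formOfGram id G₂,
      odd_card_of_two_ne h2, hb3, formOfGram_symplectic hd1 hs1 h2, formOfGram_symmetric hd2 hs2, ?_, rfl⟩))),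
      le_inf hle hH⟩
    exact isTensorFormStructure (IsSesq.of_bilinear hf.bilinear) one_ne_zero (by rw [one_smul]; exact hG)
  obtain rfl : b = 2 := by omega
  obtain ⟨J, hJ⟩ : ∃ J : Matrix (Fin 2) (Fin 2) F, J = !![(0 : F), 1; -1, 0] := ⟨_, rfl⟩
  obtain ⟨T, hT⟩ : ∃ T, T = G₂⁻¹ * J := ⟨_, rfl⟩
  have hu2 : IsUnit G₂.det := isUnit_iff_ne_zero.mpr hd2
  have hGT : G₂ * T = J := by rw [hT, ← mul_assoc, mul_nonsing_inv _ hu2, one_mul]
  have hJT : Jᵀ = -J := by
    rw [hJ]; ext i j; fin_cases i <;> fin_cases j <;> simp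
  have hTG : Tᵀ * G₂ = -J := by rw [← hJT, ← hGT, transpose_mul, hs2]
  have hAJ : ∀ X : Matrix (Fin 2) (Fin 2) F, Xᵀ * J * X = X.det • J := fun X => by
    rw [hJ, Matrix.det_fin_two]
    ext i j
    fin_cases i <;> fin_cases j <;>
      simp [Matrix.mul_apply, Fin.sum_univ_two, Matrix.transpose_apply] <;> ring
  obtain ⟨x, hx⟩ := exists_of_toCoord e P ((1 : Matrix (Fin a) (Fin a) F) ⊗ₖ T)
  have hneg : toCoord e P (-x) = (1 : Matrix (Fin a) (Fin a) F) ⊗ₖ (-T) := by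
    rw [show toCoord e P (-x) = -toCoord e P x by simp [toCoord, Matrix.submatrix_neg], hx]
    ext i j; simp
  have hskew : AdjPair (sympForm m F) x (-x) := adjPair_of_coord hf.bilinear (by
    rw [hx, hneg, hG, ← Matrix.kroneckerMap_transpose, ← mul_kronecker_mul, ← mul_kronecker_mul, transpose_one,
      Matrix.one_mul, Matrix.mul_one, hTG, Matrix.mul_neg, hGT])
  have hxns : ∀ c : F, x ≠ c • 1 := fun c hc => by
    have hTc : ∀ i j, T i j = c * (1 : Matrix (Fin 2) (Fin 2) F) i j := fun i j => by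
      have h1 := congrFun (congrFun hx (Classical.arbitrary (Fin a), i)) (Classical.arbitrary (Fin a), j)
      rw [hc] at h1
      simp only [toCoord, Matrix.mul_smul, Matrix.smul_mul, Matrix.mul_one, Units.inv_mul] at h1
      simp only [Matrix.submatrix_apply, Matrix.smul_apply, smul_eq_mul, kronecker_apply, Matrix.one_apply_eq, one_mul,
        Matrix.one_apply, Equiv.apply_eq_iff_eq, Prod.ext_iff, true_and] at h1 ⊢
      exact h1.symm
    have hT' : T = c • 1 := Matrix.ext fun i j => by rw [hTc, Matrix.smul_apply, smul_eq_mul]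
    rw [hT', Matrix.mul_smul, Matrix.mul_one] at hGT
    have h1 := congrArg Matrix.transpose hGT
    rw [transpose_smul, hs2, hGT, hJT] at h1
    have h3 := congrFun (congrFun h1 0) 1
    simp [hJ] at h3
    exact h2 (by linear_combination h3)
  have hconjx : ∀ h ∈ H, ∃ s : F, cnj h x = s • x := fun h hh => by
    obtain ⟨A, B, c, hc, hz, -, hB⟩ := sp_tensor_sim hH hG1 hG2 hG hle hh
    obtain ⟨Bm, hBm⟩ : ∃ Bm, Bm = (B : Matrix (Fin 2) (Fin 2) F) := ⟨_, rfl⟩
    rw [← hBm] at hB hz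
    have hdet : Bm.det ≠ 0 := hBm ▸ (Matrix.GeneralLinearGroup.det B).ne_zero
    have hBT : Bm * T = (c / Bm.det) • (T * Bm) := by
      have e1 : Bmᵀ * G₂ * (Bm * T) = c • J := by rw [← mul_assoc, hB, Matrix.smul_mul, hGT]
      have e2 : Bmᵀ * G₂ * (T * Bm) = Bm.det • J := by
        rw [← mul_assoc, mul_assoc Bmᵀ G₂, hGT, hAJ]
      have hu : IsUnit (Bmᵀ * G₂).det := by
        rw [det_mul, det_transpose]; exact (isUnit_iff_ne_zero.mpr hdet).mul hu2
      have e3 : Bmᵀ * G₂ * (Bm * T) = Bmᵀ * G₂ * ((c / Bm.det) • (T * Bm)) := by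
        rw [e1, Matrix.mul_smul, e2, smul_smul, div_mul_cancel₀ _ hdet]
      calc Bm * T = (Bmᵀ * G₂)⁻¹ * (Bmᵀ * G₂ * (Bm * T)) := by rw [← mul_assoc _ _ (Bm * T), nonsing_inv_mul _ hu, one_mul]
        _ = _ := by rw [e3, ← mul_assoc _ _ ((c / Bm.det) • (T * Bm)), nonsing_inv_mul _ hu, one_mul]
    refine ⟨c / Bm.det, ?_⟩
    have key : (h : M₂) * x = (c / Bm.det) • (x * (h : M₂)) := toCoord_injective e P (by
      rw [show toCoord e P ((c / Bm.det) • (x * (h : M₂))) = (c / Bm.det) • toCoord e P (x * (h : M₂)) by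
        simp [toCoord, Matrix.submatrix_smul], toCoord_mul, toCoord_mul, hx, hz, ← mul_kronecker_mul,
        ← mul_kronecker_mul, Matrix.mul_one, Matrix.one_mul, hBT, Matrix.kronecker_smul])
    rw [cnj_apply, key, Matrix.smul_mul, mul_assoc, Units.mul_inv, mul_one]
  refine sp_toral_member hH hI hm (K := Algebra.adjoin F {x}) (fun y hy z hz => ?_) (fun h hh y hy => ?_)
    (fun y hy => ?_) ⟨x, Algebra.subset_adjoin (Set.mem_singleton x), hxns⟩
  · letI := Algebra.adjoinCommRingOfComm F (s := ({x} : Set M₂)) (by rintro a rfl b rfl; rfl)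
    exact congrArg Subtype.val (mul_comm (⟨y, hy⟩ : Algebra.adjoin F ({x} : Set M₂)) ⟨z, hz⟩)
  · obtain ⟨s, hs⟩ := hconjx h hh
    refine Algebra.adjoin_induction (p := fun y _ => cnj h y ∈ Algebra.adjoin F ({x} : Set M₂)) ?_ ?_ ?_ ?_ hy
    · intro z hz
      rw [Set.mem_singleton_iff] at hz
      rw [hz, hs]
      exact (Algebra.adjoin F ({x} : Set M₂)).smul_mem (Algebra.subset_adjoin (Set.mem_singleton x)) s
    · intro c
      rw [AlgEquiv.commutes]
      exact Subalgebra.algebraMap_mem _ c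
    · intro p q _ _ hp hq
      rw [map_add]
      exact add_mem hp hq
    · intro p q _ _ hp hq
      rw [map_mul]
      exact mul_mem hp hq
  · refine Algebra.adjoin_induction (p := fun y _ => ∃ y' ∈ Algebra.adjoin F ({x} : Set M₂), AdjPair (sympForm m F) y y')
      ?_ ?_ ?_ ?_ hy
    · rintro y rfl
      exact ⟨-y, neg_mem (Algebra.subset_adjoin (Set.mem_singleton y)), hskew⟩
    · intro c
      refine ⟨algebraMap F M₂ c, Subalgebra.algebraMap_mem _ c, ?_⟩
      rw [Algebra.algebraMap_eq_smul_one]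
      exact adj_one.smul hf.bilinear c
    · rintro p q - - ⟨p', hp', hp⟩ ⟨q', hq', hq⟩
      exact ⟨p' + q', add_mem hp' hq', hp.add hf.bilinear hq⟩
    · rintro p q - - ⟨p', hp', hp⟩ ⟨q', hq', hq⟩
      exact ⟨q' * p', mul_mem hq' hp', hp.mul hq⟩

include hH hI in
/-- Characteristic two: a quadratic form vanishing on pure tensors. -/
theorem sp_tensor_even (h2 : (2 : F) = 0) {d k : ℕ} (hd : 2 ≤ d) (hk : 2 ≤ k)
    {e : (Fin m ⊕ Fin m) ≃ Fin d × Fin k} {P : GL (Fin m ⊕ Fin m) F}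
    {G₁ : Matrix (Fin d) (Fin d) F} {G₂ : Matrix (Fin k) (Fin k) F} (hd1 : G₁.det ≠ 0) (hd2 : G₂.det ≠ 0)
    (hs1 : G₁ᵀ = G₁) (hs2 : G₂ᵀ = G₂) (hG : fGram e P (sympForm m F) = G₁ ⊗ₖ G₂)
    (hle : H ≤ tensorProductSubgroup d k e P) {S : Set (Matrix (Fin d) (Fin d) F)} (hS : ActsIrreducibly S)
    (hfix : ∀ s ∈ S, ∃ c : F, sᵀ * G₁ * s = c • G₁) : SpMember H := by
  classical
  haveI : Nonempty (Fin d) := ⟨⟨0, by omega⟩⟩
  haveI : Nonempty (Fin k) := ⟨⟨0, by omega⟩⟩
  have hG1 : G₁ ≠ 0 := fun h0 => hd1 (by rw [h0]; exact det_zero)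
  have hG2 : G₂ ≠ 0 := fun h0 => hd2 (by rw [h0]; exact det_zero)
  have hz1 := diag_zero_of_irr h2 (by rw [Fintype.card_fin]; exact hd) hs1 hS hfix
  obtain ⟨SB, hSB⟩ : ∃ SB : Set (Matrix (Fin k) (Fin k) F), SB = {B | (∃ c : F, Bᵀ * G₂ * B = c • G₂) ∧
      ∃ h ∈ H, ∃ A : Matrix (Fin d) (Fin d) F, toCoord e P (h : M₂) = A ⊗ₖ B} := ⟨_, rfl⟩
  have hSBirr : ActsIrreducibly SB := by
    intro W hW
    let U : Submodule F (Fin m ⊕ Fin m → F) :=
      ⨅ a, W.comap ((LinearMap.funLeft F F fun b => (a, b)).comp (coordVec e P))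
    have hU : ∀ v, v ∈ U ↔ ∀ a, (fun b => coordVec e P v (a, b)) ∈ W := fun v => by
      simp [U, Submodule.mem_iInf, LinearMap.funLeft, Function.comp_def]
    rcases (irr_iff H).mp hI U (fun h hh v hv => by
      rw [hU] at hv ⊢
      intro a
      obtain ⟨A, B, c, -, hz, -, hB⟩ := sp_tensor_sim hH hG1 hG2 hG hle hh
      have e1 : (fun b => coordVec e P ((h : M₂) *ᵥ v) (a, b)) =
          ∑ a', (A : Matrix (Fin d) (Fin d) F) a a' • ((B : Matrix (Fin k) (Fin k) F) *ᵥ fun b => coordVec e P v (a', b)) := by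
        funext b
        rw [coordVec_mulVec, hz]
        simp [mulVec, dotProduct, Fintype.sum_prod_type, Finset.mul_sum, mul_assoc]
      rw [e1]
      refine Submodule.sum_mem _ fun a' _ => Submodule.smul_mem _ _ ?_
      have := hW _ (hSB ▸ ⟨⟨c, hB⟩, h, hh, A, hz⟩ : (B : Matrix (Fin k) (Fin k) F) ∈ SB)
        (Submodule.mem_map_of_mem (hv a'))
      rwa [Matrix.toLin'_apply] at this) with h | h
    · left
      rw [eq_bot_iff]
      intro w hw
      obtain ⟨v, hv⟩ := (coordVec_bijective e P).2 fun x => if x.1 = (⟨0, by omega⟩ : Fin d) then w x.2 else 0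
      have hvU : v ∈ U := (hU v).mpr fun a => by
        by_cases ha : a = (⟨0, by omega⟩ : Fin d)
        · simp only [hv, ha, if_true]; exact hw
        · simp only [hv, ha, if_false]; exact W.zero_mem
      rw [h, Submodule.mem_bot] at hvU
      rw [Submodule.mem_bot]
      funext b
      have := congrFun hv (⟨0, by omega⟩, b)
      rw [hvU, map_zero] at this
      simpa using this.symm
    · right
      rw [eq_top_iff]
      intro w _
      obtain ⟨v, hv⟩ := (coordVec_bijective e P).2 fun x => if x.1 = (⟨0, by omega⟩ : Fin d) then w x.2 else 0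
      have := (hU v).mp (h ▸ Submodule.mem_top) ⟨0, by omega⟩
      simpa [hv] using this
  have hz2 := diag_zero_of_irr h2 (by rw [Fintype.card_fin]; exact hk) hs2 hSBirr fun B hB => by
    rw [hSB] at hB; exact hB.1
  obtain ⟨U, hUdef⟩ : ∃ U : Matrix (Fin d) (Fin d) F, U = Matrix.of fun i j => if i < j then G₁ i j else 0 := ⟨_, rfl⟩
  have hUU : U + Uᵀ = G₁ := by
    ext i j
    rcases lt_trichotomy i j with hlt | heq | hgt
    · simp [hUdef, hlt, lt_asymm hlt]
    · subst heq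
      have := hz1 (Pi.single i 1)
      simp at this
      simp [hUdef, this]
    · have := congrFun (congrFun hs1 i) j
      simp only [transpose_apply] at this
      simp [hUdef, hgt, lt_asymm hgt, this]
  refine sp_quad_member_coord hH h2 (e := e) (P := P) (W := U ⊗ₖ G₂) ?_ (span_pure_pair d k) ?_ ?_
  · rw [hG, ← Matrix.kroneckerMap_transpose, hs2, ← hUU]
    exact (Matrix.add_kronecker U Uᵀ G₂).symm
  · rintro _ ⟨⟨y, z⟩, rfl⟩
    have hz0 : z ⬝ᵥ (G₂ *ᵥ z) = 0 := hz2 z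
    rw [kronecker_mulVec_pure, pure_dotProduct, hz0, mul_zero]
  · rintro h hh _ ⟨⟨y, z⟩, rfl⟩
    obtain ⟨A, B, c, -, hz, -, -⟩ := sp_tensor_sim hH hG1 hG2 hG hle hh
    exact ⟨((A : Matrix (Fin d) (Fin d) F) *ᵥ y, (B : Matrix (Fin k) (Fin k) F) *ᵥ z), by
      rw [hz, kronecker_mulVec_pure]⟩

include hH hI in
/-- A normal subgroup acting on one tensor factor. -/
theorem sp_tensor_member (hm : 0 < m) {N : Subgroup (GL (Fin m ⊕ Fin m) F)} (hNH : N ≤ H) {d k : ℕ} (hd : 2 ≤ d)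
    (hk : 2 ≤ k) {e : (Fin m ⊕ Fin m) ≃ Fin d × Fin k} {P : GL (Fin m ⊕ Fin m) F}
    {ρ : matrixSet N → Matrix (Fin d) (Fin d) F} (hρ : ActsAbsolutelyIrreducibly (Set.range ρ))
    (hP : ∀ x : matrixSet N, toCoord e P (x : M₂) = ρ x ⊗ₖ (1 : Matrix (Fin k) (Fin k) F))
    (hle : H ≤ tensorProductSubgroup d k e P) : SpMember H := by
  classical
  have hf := isSymplecticForm_sympForm (F := F) m
  haveI : Nonempty (Fin d) := ⟨⟨0, by omega⟩⟩
  haveI : Nonempty (Fin k) := ⟨⟨0, by omega⟩⟩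
  have hfix : FixesForm (matrixSet N) (sympForm m F) := by
    rintro _ ⟨x, hx, rfl⟩ u v
    exact sp_iso hH (hNH hx) u v
  obtain ⟨G₁, G₂, hd1, hd2, hG⟩ := exists_tensor_gram (σ := RingEquiv.refl F) (by omega) (by omega)
    (IsSesq.of_bilinear hf.bilinear) hf.nondegenerate hfix hρ hP
  have hG1 : G₁ ≠ 0 := fun h0 => hd1 (by rw [h0]; exact det_zero)
  have hG2 : G₂ ≠ 0 := fun h0 => hd2 (by rw [h0]; exact det_zero)
  have hskew : (fGram e P (sympForm m F))ᵀ.map (RingEquiv.refl F) = (-1 : F) • fGram e P (sympForm m F) :=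
    fGram_transpose fun u v => by rw [RingEquiv.refl_apply, hf.skew, neg_one_mul]
  rw [hG] at hskew
  obtain ⟨l, mu, hlm, ht1, ht2, hll⟩ := split_symmetry hG1 hG2 (neg_ne_zero.mpr one_ne_zero) (fun x => rfl) hskew
  simp only [RingEquiv.coe_refl, Matrix.map_id, id_eq] at ht1 ht2 hll
  by_cases h2 : (2 : F) = 0
  · have hl1 : l = 1 := by
      rcases mul_self_eq_one_iff.mp hll with h | h
      · exact h
      · rw [h]; linear_combination -h2
    subst hl1
    rw [one_smul] at ht1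
    rw [one_mul] at hlm
    subst hlm
    rw [show (-1 : F) = 1 by linear_combination -h2, one_smul] at ht2
    refine sp_tensor_even hH hI h2 hd hk hd1 hd2 ht1 ht2 hG hle hρ.1 ?_
    rintro _ ⟨x, rfl⟩
    obtain ⟨y, hy, hyx⟩ := x.2
    have h3 := sp_coord_iso hH e P (hNH hy)
    rw [show (y : M₂) = (x : M₂) from hyx, hP, hG, ← Matrix.kroneckerMap_transpose, ← mul_kronecker_mul,
      ← mul_kronecker_mul, transpose_one, Matrix.one_mul, Matrix.mul_one] at h3
    obtain ⟨c, -, hA, -⟩ := kronecker_eq_imp hG1 hG2 h3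
    exact ⟨c⁻¹, hA⟩
  · rcases mul_self_eq_one_iff.mp hll with h | h
    · -- the symplectic factor is the second
      subst h
      rw [one_mul] at hlm
      subst hlm
      rw [one_smul] at ht1
      rw [neg_one_smul] at ht2
      have hsw := fGram_swap (c := 1) (show fGram e P (sympForm m F) = (1 : F) • (G₁ ⊗ₖ G₂) by rw [one_smul]; exact hG)
      rw [one_smul] at hsw
      exact sp_tensor_odd hH hI hm h2 (by omega) hd hd2 hd1 ht2 ht1 hsw (hle.trans (tensorProduct_le_swap e P))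
    · subst h
      rw [neg_one_mul, neg_inj] at hlm
      subst hlm
      rw [neg_one_smul] at ht1
      rw [one_smul] at ht2
      exact sp_tensor_odd hH hI hm h2 (by omega) hk hd1 hd2 ht1 ht2 hG hle

end CfsgLib.Classical22.Asch
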