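/-
Subgroups of the symplectic group with an absolutely irreducible normal subgroup over a subfield or fixing a second form.
-/
import Cfsg.Agent.Lib.Classical22.Asch.SpTensor
import Cfsg.Agent.Lib.Techniques.AschPrime.Cases
import Cfsg.Agent.Lib.Techniques.AschPrime.Subfield
import Cfsg.Agent.Lib.Transvec.Unitary

set_option autoImplicit false

namespace CfsgLib.Classical22.Asch

open Matrix Cfsg Cfsg.Geo CfsgLib.Techniques.AschPrime CfsgLib.Transvec
open scoped MatrixGroups

/-- Invariant Gram matrices of an absolutely irreducible group are proportional. -/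
lemma gram_unique {ι : Type} [Fintype ι] [DecidableEq ι] {F : Type*} [Field F] {S : Subgroup (GL ι F)} (hS : AbsIrr S)
    {J X : Matrix ι ι F} (hJ : IsUnit J.det) (hfJ : ∀ s ∈ S, (s : Matrix ι ι F)ᵀ * J * (s : Matrix ι ι F) = J)
    (hfX : ∀ s ∈ S, (s : Matrix ι ι F)ᵀ * X * (s : Matrix ι ι F) = X) : ∃ c : F, X = c • J := by
  obtain ⟨c, hc⟩ := hS.scalar (M := J⁻¹ * X) fun s hs => by
    have hu : IsUnit ((s : Matrix ι ι F)ᵀ * J).det := by
      rw [det_mul, det_transpose]; exact ((Matrix.isUnit_iff_isUnit_det _).mp s.isUnit).mul hJ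
    have e1 : (s : Matrix ι ι F)ᵀ * J * ((s : Matrix ι ι F) * (J⁻¹ * X)) = X := by
      rw [← mul_assoc _ _ (J⁻¹ * X), hfJ s hs, ← mul_assoc, mul_nonsing_inv _ hJ, one_mul]
    have e2 : (s : Matrix ι ι F)ᵀ * J * (J⁻¹ * X * (s : Matrix ι ι F)) = X := by
      rw [mul_assoc _ J, ← mul_assoc J, ← mul_assoc J, mul_nonsing_inv _ hJ, one_mul, ← mul_assoc, hfX s hs]
    exact ((Matrix.isUnit_iff_isUnit_det _).mpr hu).mul_left_cancel (e2.trans e1.symm)
  refine ⟨c, ?_⟩
  have h := congrArg (J * ·) hc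
  simpa [← mul_assoc, mul_nonsing_inv J hJ] using h

/-- A group conjugate to its image under an involutory field automorphism is realisable over the fixed field. -/
theorem realisable_of_twist {ι : Type} [Fintype ι] [DecidableEq ι] [Nonempty ι] {F : Type*} [Field F] [Finite F]
    {S : Subgroup (GL ι F)} (hS : AbsIrr S) {σ : F ≃+* F} (hne : σ ≠ RingEquiv.refl F) (hinv : ∀ a, σ (σ a) = a)
    {C : Matrix ι ι F} (hCdet : C.det ≠ 0)
    (hcomm : ∀ s ∈ S, C * (s : Matrix ι ι F).map σ = (s : Matrix ι ι F) * C) :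
    ∃ F₀ : Subfield F, F₀ ≠ ⊤ ∧ Cfsg.Geo.RealisableOver F₀ (Cfsg.Geo.matrixSet S) := by
  classical
  have hmap_mul : ∀ X Y : Matrix ι ι F, (X * Y).map σ = X.map σ * Y.map σ := fun X Y => Matrix.map_mul
  have hmap_inv : ∀ X : Matrix ι ι F, (X.map σ).map σ = X := fun X => Matrix.ext fun i j => hinv _
  obtain ⟨l, hl⟩ := hS.scalar (M := C * C.map σ) fun s hs => by
    have h1 := congrArg (fun X : Matrix ι ι F => C * X.map σ) (hcomm s hs)
    simp only [hmap_mul, hmap_inv] at h1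
    rw [mul_assoc, h1, ← mul_assoc, hcomm s hs, mul_assoc]
  have hl0 : l ≠ 0 := by
    rintro rfl
    have h := congrArg Matrix.det hl
    rw [zero_smul, det_zero, det_mul, show (C.map σ).det = σ C.det from (σ.toRingHom.map_det _).symm,
      mul_eq_zero, RingEquiv.map_eq_zero_iff, or_self] at h
    exact hCdet h
  have hlfix : σ l = l := by
    have h2 : C.map σ * C = l • (1 : Matrix ι ι F) := by
      have hu : IsUnit C.det := isUnit_iff_ne_zero.mpr hCdet
      calc C.map σ * C = C⁻¹ * (C * C.map σ) * C := by rw [← mul_assoc C⁻¹, nonsing_inv_mul C hu, one_mul]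
        _ = _ := by rw [hl, Matrix.mul_smul, mul_one, Matrix.smul_mul, nonsing_inv_mul C hu]
    have h3 := congrArg (fun X : Matrix ι ι F => X.map σ) h2
    simp only [hmap_mul, hmap_inv, hl] at h3
    obtain ⟨i⟩ := ‹Nonempty ι›
    have h4 := congrFun (congrFun h3 i) i
    simpa using h4.symm
  obtain ⟨μ, hμ⟩ := Transvec.Unitary.exists_norm_eq hne hinv (b := l⁻¹) (by rw [map_inv₀, hlfix])
  have hμl : μ * σ μ * l = 1 := by rw [hμ, inv_mul_cancel₀ hl0]
  obtain ⟨T, hT⟩ : ∃ T : (ι → F) → ι → F, T = fun v => μ • (C *ᵥ (σ ∘ v)) := ⟨_, rfl⟩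
  have hσvec : ∀ (X : Matrix ι ι F) (v : ι → F), σ ∘ (X *ᵥ v) = X.map σ *ᵥ (σ ∘ v) := fun X v => by
    funext i
    simp [mulVec, dotProduct, map_sum]
  have hσsmul : ∀ (a : F) (v : ι → F), σ ∘ (a • v) = σ a • (σ ∘ v) := fun a v => by funext i; simp
  have hTT : ∀ v, T (T v) = v := fun v => by
    have hv : σ ∘ σ ∘ v = v := funext fun i => hinv _
    simp only [hT, hσsmul, hσvec, hv, mulVec_smul, mulVec_mulVec, hl, Matrix.smul_mulVec, one_mulVec, smul_smul,
      ← mul_assoc, hμl, one_smul]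
  have hTadd : ∀ v w, T (v + w) = T v + T w := fun v w => by
    simp only [hT, show σ ∘ (v + w) = σ ∘ v + σ ∘ w by funext i; simp, mulVec_add, smul_add]
  have hTsmul : ∀ (a : F) (v : ι → F), T (a • v) = σ a • T v := fun a v => by
    simp only [hT, hσsmul, mulVec_smul, smul_comm μ (σ a)]
  obtain ⟨α, hα⟩ : ∃ α : F, σ α ≠ α := by
    by_contra h
    push Not at h
    exact hne (RingEquiv.ext h)
  have hspan : Submodule.span F {w : ι → F | T w = w} = ⊤ := by
    rw [eq_top_iff]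
    intro v _
    have h1 : v + T v ∈ {w : ι → F | T w = w} := by
      change T (v + T v) = v + T v
      rw [hTadd, hTT, add_comm]
    have h2 : α • v + σ α • T v ∈ {w : ι → F | T w = w} := by
      change T (α • v + σ α • T v) = _
      rw [hTadd, hTsmul, hTsmul, hTT, hinv, add_comm]
    have h3 : α • v + σ α • T v - σ α • (v + T v) = (α - σ α) • v := by module
    have h4 := Submodule.sub_mem (Submodule.span F {w : ι → F | T w = w}) (Submodule.subset_span h2)
      (Submodule.smul_mem _ (σ α) (Submodule.subset_span h1))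
    rw [h3] at h4
    exact (Submodule.smul_mem_iff _ (sub_ne_zero.2 (Ne.symm hα))).1 h4
  obtain ⟨b, hbT, hbspan, hbli⟩ := exists_linearIndependent F {w : ι → F | T w = w}
  have hbtop : ⊤ ≤ Submodule.span F (Set.range ((↑) : b → ι → F)) := by
    rw [Subtype.range_coe, hbspan, hspan]
  let β := Module.Basis.mk hbli hbtop
  let e : b ≃ ι := β.indexEquiv (Pi.basisFun F ι)
  let X : Matrix ι ι F := Matrix.of fun i j => (e.symm j : ι → F) i
  have hXdet : IsUnit X.det := by
    rw [← Matrix.isUnit_iff_isUnit_det, ← Matrix.linearIndependent_cols_iff_isUnit]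
    exact hbli.comp _ e.symm.injective
  have hXfix : μ • (C * X.map σ) = X := by
    refine Matrix.ext fun i j => ?_
    have h := congrFun (show T (e.symm j : ι → F) = _ from hbT (e.symm j).2) i
    rw [hT] at h
    simpa [Matrix.mul_apply, mulVec, dotProduct, X] using h
  let B : GL ι F := Matrix.GeneralLinearGroup.mk'' X hXdet
  refine ⟨(σ.toRingHom.eqLocusField (RingHom.id F)), ?_, B⁻¹, ?_⟩
  · intro h
    apply hα
    have : α ∈ σ.toRingHom.eqLocusField (RingHom.id F) := by rw [h]; trivial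
    exact this
  rintro _ ⟨s, hs, rfl⟩ i j
  obtain ⟨Y, hY⟩ : ∃ Y, Y = ((B⁻¹ : GL ι F) : Matrix ι ι F) * (s : Matrix ι ι F) * X := ⟨_, rfl⟩
  have hXY : X * Y = (s : Matrix ι ι F) * X := by
    rw [hY, ← mul_assoc, ← mul_assoc, show X * ((B⁻¹ : GL ι F) : Matrix ι ι F) = 1 from B.mul_inv, one_mul]
  have hYfix : Y.map σ = Y := by
    have h1 : μ • (C * (X * Y).map σ) = X * Y.map σ := by
      rw [hmap_mul, ← mul_assoc, ← Matrix.smul_mul, hXfix]
    rw [hXY, hmap_mul, ← mul_assoc, hcomm s hs, mul_assoc, ← Matrix.mul_smul, hXfix, ← hXY] at h1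
    calc Y.map σ = X⁻¹ * (X * Y.map σ) := by rw [← mul_assoc, nonsing_inv_mul X hXdet, one_mul]
      _ = Y := by rw [← h1, ← mul_assoc, nonsing_inv_mul X hXdet, one_mul]
  change σ ((((B⁻¹ : GL ι F) : Matrix ι ι F) * (s : Matrix ι ι F) * (((B⁻¹)⁻¹ : GL ι F) : Matrix ι ι F)) i j) = _
  rw [inv_inv, show ((B : GL ι F) : Matrix ι ι F) = X from rfl, ← hY]
  exact congrFun (congrFun hYfix i) j

variable {m : ℕ} {F : Type*} [Field F] [Fintype F] {H S : Subgroup (GL (Fin m ⊕ Fin m) F)} (hH : H ≤ spGL m F)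
  (hSH : S ≤ H) (hS : AbsIrr S) (hSn : NormalisedBy H S)

local notation "M₂" => Matrix (Fin m ⊕ Fin m) (Fin m ⊕ Fin m) F

include hH hSH in
omit [Fintype F] in
lemma sp_gram_fixed {s : GL (Fin m ⊕ Fin m) F} (hs : s ∈ S) :
    (s : M₂)ᵀ * gramMatrix (sympForm m F) * (s : M₂) = gramMatrix (sympForm m F) := by
  have hf := isSymplecticForm_sympForm (F := F) m
  have h1 := (IsSesq.of_bilinear hf.bilinear).gram_comp (s : M₂)
  simp only [RingEquiv.coe_refl, Matrix.map_id] at h1
  rw [← h1]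
  exact congrArg gramMatrix (funext fun u => funext fun v => sp_iso hH (hSH hs) u v)

omit [Fintype F] in
lemma sp_gram_unit : IsUnit (gramMatrix (sympForm m F)).det := by
  have hf := isSymplecticForm_sympForm (F := F) m
  exact isUnit_iff_ne_zero.mpr ((IsSesq.of_bilinear hf.bilinear).gram_det_ne_zero hf.nondegenerate)

include hH hSH hS hSn in
/-- A realisation over a proper subfield gives a subfield member whose structure carries the form. -/
theorem sp_subfield_member (hm : 0 < m) {F₀ : Subfield F} (hF₀ : F₀ ≠ ⊤) (hreal : RealisableOver F₀ (matrixSet S)) :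
    SpMember H := by
  classical
  haveI : Nonempty (Fin m ⊕ Fin m) := ⟨Sum.inl ⟨0, hm⟩⟩
  have hf := isSymplecticForm_sympForm (F := F) m
  obtain ⟨B, hB⟩ := hreal
  obtain ⟨F₁, r, hr, hcard, hle⟩ := exists_prime_index F₀ hF₀
  have hB₁ : ∀ s ∈ S, ∀ i j, ((B : M₂) * (s : M₂) * ((B⁻¹ : GL (Fin m ⊕ Fin m) F) : M₂)) i j ∈ F₁ := fun s hs i j =>
    hle (hB _ ⟨s, hs, rfl⟩ i j)
  obtain ⟨J, hJ⟩ : ∃ J, J = gramMatrix (sympForm m F) := ⟨_, rfl⟩
  have hJu : IsUnit J.det := hJ ▸ sp_gram_unit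
  obtain ⟨C, hC⟩ : ∃ C : M₂, C = ((B⁻¹ : GL (Fin m ⊕ Fin m) F) : M₂) := ⟨_, rfl⟩
  have hBC : (B : M₂) * C = 1 := by rw [hC, Units.mul_inv]
  have hCB : C * (B : M₂) = 1 := by rw [hC, Units.inv_mul]
  let A : S → M₂ := fun s => (B : M₂) * ((s : GL (Fin m ⊕ Fin m) F) : M₂) * C
  let A' : S → M₂ := fun s => ((B : M₂) * (((s : GL (Fin m ⊕ Fin m) F)⁻¹ : GL (Fin m ⊕ Fin m) F) : M₂) * C)ᵀ
  have hint : ∀ s, Cᵀ * J * C * A s = A' s * (Cᵀ * J * C) := fun s => by
    have h1 : J * ((s : GL (Fin m ⊕ Fin m) F) : M₂) =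
        (((s : GL (Fin m ⊕ Fin m) F)⁻¹ : GL (Fin m ⊕ Fin m) F) : M₂)ᵀ * J := by
      conv_rhs => rw [hJ, ← sp_gram_fixed hH hSH s.2]
      simp only [← mul_assoc, ← transpose_mul, Units.mul_inv, transpose_one, one_mul, hJ]
    simp only [A, A', transpose_mul, mul_assoc]
    rw [← mul_assoc C (B : M₂), hCB, one_mul, ← mul_assoc J, h1, ← mul_assoc ((B : M₂)ᵀ) Cᵀ, ← transpose_mul, hCB,
      transpose_one, one_mul, mul_assoc]
  have hC0 : Cᵀ * J * C ≠ 0 := fun h => by
    have hd := congrArg Matrix.det h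
    rw [det_mul, det_mul, det_transpose, det_zero] at hd
    have hCd : C.det ≠ 0 := hC ▸ (Matrix.GeneralLinearGroup.det B⁻¹).ne_zero
    exact mul_ne_zero (mul_ne_zero hCd hJu.ne_zero) hCd hd
  obtain ⟨c, D, hc, hDrat, hD⟩ := exists_rat_intertwiner (A := A) (A' := A') (F₀ := F₁)
    (fun s i j => by simp only [A, hC]; exact hB₁ s s.2 i j)
    (fun s i j => by simp only [A', hC, transpose_apply]; exact hB₁ _ (S.inv_mem s.2) j i) hC0 hint
    fun D hD => by
      obtain ⟨c, hc⟩ := gram_unique hS hJu (X := (B : M₂)ᵀ * D * (B : M₂)) (fun s hs => hJ ▸ sp_gram_fixed hH hSH hs)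
        fun s hs => by
          have h1 := congrArg (fun Z => (s : M₂)ᵀ * (B : M₂)ᵀ * Z * (B : M₂)) (hD ⟨s, hs⟩)
          simp only [A, A', transpose_mul, mul_assoc] at h1 ⊢
          rw [hCB, mul_one] at h1
          rw [h1]
          rw [← mul_assoc ((B : M₂)ᵀ) Cᵀ, ← transpose_mul C, hCB, transpose_one, one_mul,
            ← mul_assoc ((s : M₂)ᵀ), ← transpose_mul, Units.inv_mul, transpose_one, one_mul]
      refine ⟨c, ?_⟩
      have h1 := congrArg (fun Z => Cᵀ * Z * C) hc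
      simp only [mul_assoc, hBC, mul_one, Matrix.smul_mul, Matrix.mul_smul] at h1 ⊢
      rw [← mul_assoc Cᵀ ((B : M₂)ᵀ), ← transpose_mul, hBC, transpose_one, one_mul] at h1
      exact h1
  refine ⟨_, Or.inl (Or.inr (Or.inr (Or.inr (Or.inr (Or.inl ⟨F₁, r, B⁻¹, c⁻¹, hr, hcard, inv_ne_zero hc,
    fun u v hu hv => ?_, rfl⟩))))),
    fun h hh => ⟨mem_subfieldSubgroup_of_normalises hS hB₁ (hSn h hh), hH hh⟩⟩
  rw [(IsSesq.of_bilinear hf.bilinear).eq_gram, ← hJ, ← hC]
  simp only [RingEquiv.coe_refl, Function.id_comp]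
  rw [← vecMul_transpose, ← dotProduct_mulVec, mulVec_mulVec, mulVec_mulVec, hD, smul_mulVec, dotProduct_smul,
    smul_eq_mul, inv_mul_cancel_left₀ hc]
  simp only [dotProduct, mulVec]
  exact sum_mem fun i _ => F₁.mul_mem (hu i) (sum_mem fun j _ => F₁.mul_mem (hDrat i j) (hv j))

include hH hSH hS in
/-- A unitary form fixed as well gives a realisation over a proper subfield. -/
theorem sp_realisable_of_unitary (hm : 0 < m) {σ : F ≃+* F}
    {f : (Fin m ⊕ Fin m → F) → (Fin m ⊕ Fin m → F) → F} (hf : IsUnitaryForm σ f)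
    (hfix : FixesForm (matrixSet S) f) : ∃ F₀ : Subfield F, F₀ ≠ ⊤ ∧ RealisableOver F₀ (matrixSet S) := by
  haveI : Nonempty (Fin m ⊕ Fin m) := ⟨Sum.inl ⟨0, hm⟩⟩
  obtain ⟨J, hJ⟩ : ∃ J, J = gramMatrix (sympForm m F) := ⟨_, rfl⟩
  obtain ⟨U, hU⟩ : ∃ U, U = gramMatrix f := ⟨_, rfl⟩
  have hJu : IsUnit J.det := hJ ▸ sp_gram_unit
  have hUdet : U.det ≠ 0 := hU ▸ (IsSesq.of_unitary hf).gram_det_ne_zero hf.nondegenerate
  refine realisable_of_twist hS hf.ne_refl hf.involutive (C := J⁻¹ * U) ?_ fun s hs => ?_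
  · rw [det_mul]
    exact mul_ne_zero (Matrix.isUnit_nonsing_inv_det J hJu).ne_zero hUdet
  have h1 : (s : M₂)ᵀ * J * (s : M₂) = J := hJ ▸ sp_gram_fixed hH hSH hs
  have h2 : (s : M₂)ᵀ * U * (s : M₂).map σ = U := by
    rw [hU, ← (IsSesq.of_unitary hf).gram_comp]
    exact congrArg gramMatrix (funext fun u => funext fun v => hfix _ ⟨s, hs, rfl⟩ u v)
  have hu : IsUnit ((s : M₂)ᵀ * J).det := by
    rw [det_mul, det_transpose]; exact ((Matrix.isUnit_iff_isUnit_det _).mp s.isUnit).mul hJu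
  refine ((Matrix.isUnit_iff_isUnit_det _).mpr hu).mul_left_cancel ?_
  rw [← mul_assoc _ _ (J⁻¹ * U), h1, ← mul_assoc J J⁻¹, mul_nonsing_inv _ hJu, one_mul, mul_assoc _ J,
    ← mul_assoc J, ← mul_assoc J J⁻¹, mul_nonsing_inv _ hJu, one_mul, ← mul_assoc, h2]

include hH hSH hS hSn in
/-- A fixed quadratic form gives a member in characteristic two and cannot occur otherwise. -/
theorem sp_quad_fixed_member (hm : 0 < m) {Q : (Fin m ⊕ Fin m → F) → F} (hQ : IsNondegenerateQuadraticForm Q)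
    (hfix : FixesQuadForm (matrixSet S) Q) : SpMember H := by
  classical
  haveI : Nonempty (Fin m ⊕ Fin m) := ⟨Sum.inl ⟨0, hm⟩⟩
  have hf := isSymplecticForm_sympForm (F := F) m
  obtain ⟨c, hc⟩ := gram_unique hS (sp_gram_unit (m := m) (F := F))
    (X := gramMatrix (QuadraticMap.polar Q)) (fun s hs => sp_gram_fixed hH hSH hs) fun s hs => by
      have h1 := (IsSesq.of_bilinear hQ.polar_bilinear).gram_comp (s : M₂)
      simp only [RingEquiv.coe_refl, Matrix.map_id] at h1
      rw [← h1]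
      exact congrArg gramMatrix (funext fun u => funext fun v => by
        simp only [QuadraticMap.polar, ← mulVec_add, hfix _ ⟨s, hs, rfl⟩])
  have hpol : ∀ u v, QuadraticMap.polar Q u v = c * sympForm m F u v := fun u v => by
    rw [(IsSesq.of_bilinear hQ.polar_bilinear).eq_gram, (IsSesq.of_bilinear hf.bilinear).eq_gram, hc, smul_mulVec,
      dotProduct_smul, smul_eq_mul]
  have hc0 : c ≠ 0 := by
    rintro rfl
    obtain ⟨x, hx⟩ := (hQ.nondegenerate (Pi.single (Classical.arbitrary _) 1) (by simp)).1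
    exact hx (by rw [hpol, zero_mul])
  by_cases h2 : (2 : F) = 0
  · refine sp_quad_member hH h2 (Q := fun v => c⁻¹ * Q v) (fun a v => by rw [hQ.smul]; ring) (fun u v => ?_)
      fun h hh v => ?_
    · have h1 := hpol u v
      simp only [QuadraticMap.polar] at h1 ⊢
      rw [← mul_sub, ← mul_sub, h1, inv_mul_cancel_left₀ hc0]
    · -- the defect is additive and vanishes on an invariant non-zero subspace
      congr 1
      have hadd : ∀ u w, Q (u + w) = Q u + Q w + c * sympForm m F u w := fun u w => by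
        rw [← hpol, QuadraticMap.polar]; ring
      let W : Submodule F (Fin m ⊕ Fin m → F) :=
        { carrier := {w | Q ((h : M₂) *ᵥ w) = Q w}
          zero_mem' := by simp
          add_mem' := fun {u w} (hu : Q _ = _) (hw : Q _ = _) => by
            change Q ((h : M₂) *ᵥ (u + w)) = Q (u + w)
            rw [mulVec_add, hadd, hadd, hu, hw, sp_iso hH hh]
          smul_mem' := fun a w (hw : Q _ = _) => by
            change Q ((h : M₂) *ᵥ (a • w)) = Q (a • w)
            rw [mulVec_smul, hQ.smul, hQ.smul, hw] }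
      have hinvW : Inv S W := fun s hs w (hw : Q _ = _) => by
        change Q ((h : M₂) *ᵥ ((s : M₂) *ᵥ w)) = Q ((s : M₂) *ᵥ w)
        rw [hfix _ ⟨s, hs, rfl⟩, ← hw, ← hfix _ ⟨h * s * h⁻¹, hSn h hh s hs, rfl⟩ ((h : M₂) *ᵥ w)]
        congr 1
        rw [mulVec_mulVec, mulVec_mulVec, ← Units.val_mul, ← Units.val_mul, inv_mul_cancel_right]
      rcases (irr_iff S).mp hS.1 W hinvW with hb | ht
      · -- two independent vectors give a vector in the subspace
        exfalso
        obtain ⟨i₀⟩ : Nonempty (Fin m) := ⟨⟨0, hm⟩⟩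
        obtain ⟨e₁, he₁⟩ : ∃ e₁ : Fin m ⊕ Fin m → F, e₁ = Pi.single (Sum.inl i₀) 1 := ⟨_, rfl⟩
        obtain ⟨e₂, he₂⟩ : ∃ e₂ : Fin m ⊕ Fin m → F, e₂ = Pi.single (Sum.inr i₀) 1 := ⟨_, rfl⟩
        let D : (Fin m ⊕ Fin m → F) → F := fun w => Q ((h : M₂) *ᵥ w) + Q w
        have hDadd : ∀ u w, D (u + w) = D u + D w := fun u w => by
          simp only [D, mulVec_add, hadd, sp_iso hH hh]
          linear_combination (c * sympForm m F u w) * h2
        have hDs : ∀ (a : F) w, D (a • w) = a ^ 2 * D w := fun a w => by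
          simp only [D, mulVec_smul, hQ.smul]; ring
        have hmemW : ∀ w, D w = 0 → w ∈ W := fun w hw => by
          change Q ((h : M₂) *ᵥ w) = Q w
          simp only [D] at hw
          linear_combination hw - Q w * h2
        have hchar := CharP.ringChar_of_prime_eq_zero Nat.prime_two (show ((2 : ℕ) : F) = 0 by exact_mod_cast h2)
        by_cases h0 : D e₁ = 0
        · have h3 := hmemW e₁ h0
          rw [hb, Submodule.mem_bot, he₁, Pi.single_eq_zero_iff] at h3
          exact one_ne_zero h3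
        · obtain ⟨a, ha⟩ := FiniteField.isSquare_of_char_two hchar (D e₂ / D e₁)
          have h3 := hmemW (e₂ + a • e₁) (by
            rw [hDadd, hDs, sq, ← ha, div_mul_cancel₀ _ h0]
            linear_combination D e₂ * h2)
          rw [hb, Submodule.mem_bot] at h3
          have h4 := congrFun h3 (Sum.inr i₀)
          simp [he₁, he₂] at h4
      · exact (ht ▸ Submodule.mem_top : v ∈ W)
  · exfalso
    obtain ⟨i₀⟩ : Nonempty (Fin m) := ⟨⟨0, hm⟩⟩
    obtain ⟨x, hx⟩ := (hf.nondegenerate (Pi.single (Sum.inl i₀) 1) (by simp)).1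
    refine hx ((mul_eq_zero.mp (show (2 * c) * sympForm m F x (Pi.single (Sum.inl i₀) 1) = 0 from ?_)).resolve_left
      (mul_ne_zero h2 hc0))
    have h1 := hpol x (Pi.single (Sum.inl i₀) 1)
    have h3 := hpol (Pi.single (Sum.inl i₀) 1) x
    rw [QuadraticMap.polar_comm, h1, hf.skew (Pi.single (Sum.inl i₀) 1) x] at h3
    linear_combination h3

include hH in
/-- A simple socle: a member or the residual class. -/
theorem sp_core_member (hm : 0 < m) {P : Subgroup (GL (Fin m ⊕ Fin m) F)} (hP : CoreData H P) :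
    SpMember H ∨ InSymplecticResidualClass H := by
  by_cases hsub : ∃ F₀ : Subfield F, F₀ ≠ ⊤ ∧ RealisableOver F₀ (matrixSet P)
  · obtain ⟨F₀, hF₀, hB⟩ := hsub
    exact Or.inl (sp_subfield_member hH hP.le hP.absIrred hP.normal hm hF₀ hB)
  push Not at hsub
  by_cases hQ : ∃ Q : (Fin m ⊕ Fin m → F) → F, IsNondegenerateQuadraticForm Q ∧ FixesQuadForm (matrixSet P) Q
  · obtain ⟨Q, hQ, hfix⟩ := hQ
    exact Or.inl (sp_quad_fixed_member hH hP.le hP.absIrred hP.normal hm hQ hfix)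
  refine Or.inr ⟨P, ⟨hP.le, hP.normal, hP.perfect, hP.simple, hP.nonabelian, hP.centralizer_scalar, hP.absIrred,
    hsub⟩, hQ, ?_⟩
  rintro ⟨σ, f, hf, hfix⟩
  obtain ⟨F₀, hF₀, hB⟩ := sp_realisable_of_unitary hH hP.le hP.absIrred hm hf hfix
  exact hsub F₀ hF₀ hB

end CfsgLib.Classical22.Asch
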