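/-
A minimal class two normal subgroup puts a symplectic group in the class of subfield or symplectic type members.
-/
import Cfsg.Agent.Lib.Classical22.Asch.SpSubfield
import Cfsg.Agent.Lib.Classical22.Asch.SpCommInvol
import Cfsg.Agent.Lib.Aschbacher.SympType
import Cfsg.Agent.Lib.Aschbacher.Simple

set_option autoImplicit false
set_option maxHeartbeats 800000

namespace CfsgLib.Classical22.Asch

open Matrix Cfsg Cfsg.Geo CfsgLib.Techniques.AschPrime CfsgLib.Transvec
open scoped Kronecker MatrixGroups commutatorElement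

/-- An absolutely irreducible group spans the matrix algebra. -/
theorem full_of_absIrr {ι : Type} [Fintype ι] [DecidableEq ι] [Nonempty ι] {F : Type*} [Field F] [Finite F]
    {N : Subgroup (GL ι F)} (hN : AbsIrr N) : Aschbacher.Full N := by
  classical
  haveI := Fintype.ofFinite F
  obtain ⟨a, ha, ⟨φ⟩⟩ := Aschbacher.exists_matrixEquiv (H := N) (A := Aschbacher.alg N) hN.1
    (Aschbacher.invBy_alg fun h hh x hx => N.mul_mem (N.mul_mem hh hx) (N.inv_mem hh))
    fun X hX => hN.scalar fun s hs => ((Aschbacher.mem_centre.1 hX).2 _ (Aschbacher.coe_mem_alg hs)).symm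
  obtain ⟨b, e, P, hb, hφ⟩ := Aschbacher.exists_split ha ((Aschbacher.alg N).val.comp φ.toAlgHom)
  have hb1 : b = 1 := by
    by_contra hne
    obtain ⟨E, hE⟩ : ∃ E : Matrix (Fin b) (Fin b) F, E = Matrix.single ⟨0, hb⟩ ⟨0, hb⟩ 1 := ⟨_, rfl⟩
    obtain ⟨Z, hZ⟩ : ∃ Z : Matrix ι ι F, Z = Aschbacher.cj P
        (Matrix.reindexAlgEquiv F F e.symm ((1 : Matrix (Fin a) (Fin a) F) ⊗ₖ E)) := ⟨_, rfl⟩
    obtain ⟨c, hc⟩ := hN.scalar (M := Z) fun s hs => by
      have hX : (s : Matrix ι ι F) = Aschbacher.cj P (Aschbacher.kl e (φ.symm ⟨_, Aschbacher.coe_mem_alg hs⟩)) := by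
        rw [← hφ]
        simp
      rw [hX, hZ, Aschbacher.kl, ← map_mul, ← map_mul, ← map_mul, ← map_mul, ← Matrix.mul_kronecker_mul,
        ← Matrix.mul_kronecker_mul, one_mul, mul_one, one_mul, mul_one]
    have h1 : (1 : Matrix (Fin a) (Fin a) F) ⊗ₖ E = c • 1 := (Matrix.reindexAlgEquiv F F e.symm).injective
      ((Aschbacher.cj P).injective (by rw [← hZ, hc, map_smul, map_smul, map_one, map_one]))
    have h00 := congrFun (congrFun h1 (⟨0, ha⟩, ⟨0, hb⟩)) (⟨0, ha⟩, ⟨0, hb⟩)
    have h11 := congrFun (congrFun h1 (⟨0, ha⟩, ⟨1, by omega⟩)) (⟨0, ha⟩, ⟨1, by omega⟩)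
    simp [hE] at h00 h11
    exact one_ne_zero (h00.trans h11.symm)
  subst hb1
  have hdim : Module.finrank F (Aschbacher.alg N) = Module.finrank F (Matrix ι ι F) := by
    rw [← φ.toLinearEquiv.finrank_eq, Module.finrank_matrix, Module.finrank_matrix, Fintype.card_congr e]
    simp
  exact Algebra.toSubmodule_eq_top.mp (Submodule.eq_top_of_finrank_eq hdim)

variable {m : ℕ} {F : Type*} [Field F] [Fintype F] {H N : Subgroup (GL (Fin m ⊕ Fin m) F)} (hH : H ≤ spGL m F)

local notation "M₂" => Matrix (Fin m ⊕ Fin m) (Fin m ⊕ Fin m) F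

omit [Fintype F] in
/-- A scalar isometry squares to one. -/
lemma sp_scalar_sq (hm : 0 < m) {g : GL (Fin m ⊕ Fin m) F} (hg : g ∈ spGL m F) {c : F} (hc : (g : M₂) = c • 1) :
    c * c = 1 := by
  have hf := isSymplecticForm_sympForm (F := F) m
  obtain ⟨x, hx⟩ := (hf.nondegenerate (Pi.single (Sum.inl ⟨0, hm⟩) 1) (by simp)).1
  have h1 : sympForm m F ((g : M₂) *ᵥ x) ((g : M₂) *ᵥ Pi.single (Sum.inl ⟨0, hm⟩) 1) =
      sympForm m F x (Pi.single (Sum.inl ⟨0, hm⟩) 1) := hg x _
  rw [hc, smul_mulVec, smul_mulVec, one_mulVec, one_mulVec, hf.bilinear.smul_left, hf.bilinear.smul_right,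
    ← mul_assoc] at h1
  exact (mul_eq_right₀ hx).mp h1

include hH in
/-- A minimal class two normal subgroup puts the group in a geometric member. -/
theorem sp_class_two_member (hm : 0 < m) (hN : Aschbacher.MinNS H N) (habs : AbsIrr N)
    (hcomm : ⁅N, N⁆ ≤ scalars (Fin m ⊕ Fin m) F) : SpMember H := by
  classical
  haveI : Nonempty (Fin m ⊕ Fin m) := ⟨Sum.inl ⟨0, hm⟩⟩
  have hcard : Fintype.card (Fin m ⊕ Fin m) = 2 * m := natCard_index
  obtain ⟨r, k, z, d⟩ := Aschbacher.sympData_of_minNS (by rw [hcard]; omega) hN (full_of_absIrr habs) hcomm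
  have hNH := hN.norm.le
  have hNn : NormalisedBy H N := hN.norm.conj
  have hsgn : ∀ x ∈ N, x ∈ scalars (Fin m ⊕ Fin m) F → x = 1 ∨ (x : M₂) = -1 := by
    intro x hx hxs
    obtain ⟨c, hc⟩ := (Cfsg.Geo.mem_scalars_iff x).mp hxs
    rcases mul_self_eq_one_iff.mp (sp_scalar_sq hm (hH (hNH hx)) hc) with h | h
    · exact Or.inl (Units.ext (by rw [hc, h, one_smul, Units.val_one]))
    · exact Or.inr (by rw [hc, h, neg_one_smul])
  have hz2 : z ≤ 2 := by
    rw [← d.card_center]
    have hle := Nat.card_le_card_of_injective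
      (fun x : Subgroup.center N => decide (((x : N) : GL (Fin m ⊕ Fin m) F) = 1)) fun x y hxy => by
        have hs : ∀ u : Subgroup.center N, ((u : N) : GL (Fin m ⊕ Fin m) F) ∈ scalars (Fin m ⊕ Fin m) F := fun u =>
          habs.mem_scalars fun s hs => (congrArg Subtype.val (Subgroup.mem_center_iff.mp u.2 ⟨s, hs⟩)).symm
        simp only [decide_eq_decide] at hxy
        refine Subtype.ext (Subtype.ext ?_)
        rcases hsgn _ (x : N).2 (hs x) with hx | hx
        · rw [hx, hxy.mp hx]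
        · rcases hsgn _ (y : N).2 (hs y) with hy | hy
          · rw [hy, hxy.mpr hy]
          · exact Units.ext (hx.trans hy.symm)
    simpa using hle
  have hr := d.prime.two_le
  obtain ⟨rfl, rfl⟩ : r = 2 ∧ z = 2 := by
    rcases d.card_eq with ⟨ho, h⟩ | ⟨h, h' | h'⟩
    · exfalso
      obtain ⟨j, hj⟩ := ho
      omega
    · exact ⟨h, h'⟩
    · exfalso; omega
  have h2 : (2 : F) ≠ 0 := by exact_mod_cast d.cast_ne
  obtain ⟨p, hchar⟩ := CharP.exists F
  haveI : Fact p.Prime := ⟨CharP.char_is_prime F p⟩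
  have hp2 : p ≠ 2 := by
    rintro rfl
    exact h2 (by exact_mod_cast CharP.cast_eq_zero F 2)
  have hpodd : Odd p := (Fact.out : p.Prime).odd_of_ne_two hp2
  have hbot : Nat.card (⊥ : Subfield F) = p := Subfield.card_bot (F := F) (p := p)
  by_cases hprime : (⊥ : Subfield F) = ⊤
  swap
  · refine sp_subfield_member hH hNH habs hNn hm hprime (d.realisable ⊥ ?_)
    rw [hbot]
    exact (Nat.Odd.sub_odd hpodd odd_one).two_dvd
  have hcardF : Fintype.card F = p := by
    rw [← hbot, hprime, ← Nat.card_eq_fintype_card]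
    exact (Nat.card_congr (Subfield.topEquiv (K := F)).toEquiv).symm
  refine ⟨_, Or.inl (Or.inr (Or.inr (Or.inr (Or.inr (Or.inr (Or.inl ⟨N, p, k, (natCard_index (m := m)).symm.trans d.dim, d.symp, habs, ?_, Fact.out, hpodd,
    hcardF, ?_, d.card_center, ?_, rfl⟩)))))), fun h hh => ⟨?_, hH hh⟩⟩
  · exact fun x hx => ⟨1, fun u v => by rw [Units.val_one, one_mul]; exact hH (hNH hx) u v⟩
  · rw [d.card, add_comm 1, pow_succ, mul_comm]
  · -- minus type
    intro A hA hA1
    by_contra hlt
    push Not at hlt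
    have hnF : ((2 * m : ℕ) : F) ≠ 0 := by
      rw [← hcard, d.dim, Nat.cast_pow]
      exact pow_ne_zero _ (by exact_mod_cast h2)
    have htr : ∀ x ∈ N, x ∉ scalars (Fin m ⊕ Fin m) F → Matrix.trace (x : M₂) = 0 := by
      intro x hx hxs
      obtain ⟨y, hy, hyx⟩ : ∃ y ∈ N, x * y ≠ y * x := by
        by_contra hno
        push Not at hno
        exact hxs (habs.mem_scalars hno)
      have hne : ⁅y, x⁆ ≠ 1 := fun h => hyx (commutatorElement_eq_one_iff_mul_comm.mp h).symm
      have hneg : ((⁅y, x⁆ : GL (Fin m ⊕ Fin m) F) : M₂) = -1 :=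
        (hsgn _ (hN.norm.commutator_self_le (Subgroup.commutator_mem_commutator hy hx))
          (hcomm (Subgroup.commutator_mem_commutator hy hx))).resolve_left hne
      refine Aschbacher.trace_eq_zero_of_conj (y := y) (c := (-1 : F)) (fun h => h2 (by linear_combination -h)) ?_
      rw [show y * x * y⁻¹ = ⁅y, x⁆ * x by rw [commutatorElement_def]; group, Units.val_mul, hneg, neg_mul, one_mul,
        neg_one_smul]
    -- A as a group of matrices
    obtain ⟨B, hB⟩ : ∃ B, B = A.map N.subtype := ⟨_, rfl⟩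
    have hBN : B ≤ N := by rintro _ hx; rw [hB] at hx; obtain ⟨x, -, rfl⟩ := hx; exact x.2
    have hBc : ∀ a ∈ B, ∀ b ∈ B, a * b = b * a := by
      intro a ha b hb
      rw [hB] at ha hb
      obtain ⟨a, ha, rfl⟩ := ha
      obtain ⟨b, hb, rfl⟩ := hb
      rw [← map_mul, ← map_mul]
      exact congrArg N.subtype (congrArg Subtype.val (hA.is_comm.comm ⟨a, ha⟩ ⟨b, hb⟩))
    have hB1 : ∀ a ∈ B, a * a = 1 := by
      intro a ha
      rw [hB] at ha
      obtain ⟨a, ha, rfl⟩ := ha
      rw [← map_mul, hA1 a ha, map_one]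
    have hspan := finrank_span_invol_le h2 (hBN.trans (hNH.trans hH)) hBc hB1
    have hBcard : Nat.card B = Nat.card A := by
      rw [hB, Subgroup.card_map_of_injective N.subtype_injective]
    obtain ⟨Z, hZ⟩ : ∃ Z : Subgroup B, Z = (scalars (Fin m ⊕ Fin m) F).subgroupOf B := ⟨_, rfl⟩
    have hZ2 : Nat.card Z ≤ 2 := by
      have hle := Nat.card_le_card_of_injective
        (fun x : Z => decide (((x : B) : GL (Fin m ⊕ Fin m) F) = 1)) fun x y hxy => by
          have hs : ∀ u : Z, ((u : B) : GL (Fin m ⊕ Fin m) F) ∈ scalars (Fin m ⊕ Fin m) F := fun u => by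
            obtain ⟨u, hu⟩ := u
            rw [hZ] at hu
            exact hu
          simp only [decide_eq_decide] at hxy
          refine Subtype.ext (Subtype.ext ?_)
          rcases hsgn _ (hBN (x : B).2) (hs x) with hx | hx
          · rw [hx, hxy.mp hx]
          · rcases hsgn _ (hBN (y : B).2) (hs y) with hy | hy
            · rw [hy, hxy.mpr hy]
            · exact Units.ext (hx.trans hy.symm)
      simpa using hle
    haveI : Fintype (B ⧸ Z) := Fintype.ofFinite _
    let s : B ⧸ Z → GL (Fin m ⊕ Fin m) F := fun u => ((Quotient.out u : B) : GL (Fin m ⊕ Fin m) F)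
    have hdiv : ∀ u v, (s u)⁻¹ * s v ∈ scalars (Fin m ⊕ Fin m) F → u = v := fun u v h => by
      rw [← QuotientGroup.out_eq' u, ← QuotientGroup.out_eq' v]
      exact QuotientGroup.eq.2 (hZ.ge h)
    have hli : LinearIndependent F fun u => (s u : M₂) := by
      rw [Fintype.linearIndependent_iff]
      intro c hc v
      have h1 := congrArg (fun X => Matrix.trace (((s v)⁻¹ : GL (Fin m ⊕ Fin m) F).val * X)) hc
      simp only [Finset.mul_sum, Matrix.trace_sum, mul_smul_comm, Matrix.trace_smul, mul_zero, Matrix.trace_zero,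
        ← Units.val_mul] at h1
      rw [Finset.sum_eq_single v (fun u _ hu => by
          rw [htr _ (N.mul_mem (N.inv_mem (hBN (Quotient.out v : B).2)) (hBN (Quotient.out u : B).2))
            fun h => hu (hdiv _ _ h).symm, smul_zero]) (by simp),
        inv_mul_cancel, Units.val_one, Matrix.trace_one, smul_eq_mul, hcard] at h1
      exact (mul_eq_zero.1 h1).resolve_right hnF
    have hle : Fintype.card (B ⧸ Z) ≤ m := by
      rw [← finrank_span_eq_card hli]
      refine le_trans (Submodule.finrank_mono (Submodule.span_mono ?_)) hspan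
      rintro _ ⟨u, rfl⟩
      exact ⟨s u, (Quotient.out u : B).2, rfl⟩
    have hprod := Subgroup.card_eq_card_quotient_mul_card_subgroup Z
    rw [hBcard, Nat.card_eq_fintype_card (α := B ⧸ Z)] at hprod
    have hdim : 2 * m = 2 ^ k := by rw [← hcard, d.dim]
    rw [pow_succ] at hlt
    have := Nat.mul_le_mul hle hZ2
    omega
  · refine Subgroup.mem_normalizer_iff.mpr fun x => ⟨fun hx => hNn h hh x hx, fun hx => ?_⟩
    have := hNn h⁻¹ (H.inv_mem hh) _ hx
    simpa [mul_assoc] using this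

end CfsgLib.Classical22.Asch
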