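/-
Subgroups of the symplectic group permuting the factors of a tensor power.
-/
import Cfsg.Agent.Lib.Classical22.Asch.SpTensor
import Cfsg.Agent.Lib.Classical22.Asch.Components
import Cfsg.Agent.Lib.KnownSimple.Forms.Classify
import Cfsg.Agent.Lib.Char.Burnside

set_option autoImplicit false
set_option maxHeartbeats 800000

namespace CfsgLib.Classical22.Asch

open Matrix Cfsg Cfsg.Geo CfsgLib.Techniques.AschPrime CfsgLib.Techniques.AschGen CfsgLib.Transvec
  CfsgLib.Classical22.TensorMono
open scoped Kronecker MatrixGroups commutatorElement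

section pure

variable {F : Type*} [Field F] {t s : ℕ}

/-- The coordinates of a pure tensor. -/
def pureVec (v : Fin t → Fin s → F) : (Fin t → Fin s) → F := fun x => ∏ i, v i (x i)

lemma wr_mulVec_pureVec (π : Equiv.Perm (Fin t)) (A : Fin t → Matrix (Fin s) (Fin s) F) (v : Fin t → Fin s → F) :
    wr π A *ᵥ pureVec v = pureVec fun i => A i *ᵥ v (π i) := by
  funext x
  simp only [mulVec, dotProduct, pureVec, wr_apply]
  rw [Fintype.prod_sum]
  refine Fintype.sum_equiv (Equiv.arrowCongr π.symm (Equiv.refl _)) _ _ fun y => ?_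
  rw [← Equiv.prod_comp π (fun i => v i (y i)), ← Finset.prod_mul_distrib]
  exact Finset.prod_congr rfl fun i _ => by simp [Equiv.arrowCongr]

lemma pureVec_dotProduct (v w : Fin t → Fin s → F) : pureVec v ⬝ᵥ pureVec w = ∏ i, (v i ⬝ᵥ w i) := by
  simp only [dotProduct, pureVec]
  rw [Fintype.prod_sum]
  exact Finset.sum_congr rfl fun y _ => by rw [Finset.prod_mul_distrib]

lemma span_pureVec : Submodule.span F (Set.range (pureVec (F := F) (t := t) (s := s))) = ⊤ := by
  rw [eq_top_iff]
  intro v _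
  rw [pi_eq_sum_univ v]
  refine Submodule.sum_mem _ fun x _ => Submodule.smul_mem _ _ (Submodule.subset_span ?_)
  refine ⟨fun i => Pi.single (x i) 1, funext fun y => ?_⟩
  by_cases h : x = y
  · subst h; simp [pureVec]
  · obtain ⟨i, hi⟩ := Function.ne_iff.mp h
    rw [if_neg h]
    exact Finset.prod_eq_zero (Finset.mem_univ i) (by simp [Pi.single_apply, Ne.symm hi])

/-- Equal products of invertible factors have proportional factors. -/
lemma wr_factor [NeZero s] {A : Fin t → Matrix (Fin s) (Fin s) F} {G : Fin t → GL (Fin s) F}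
    (h : wr 1 A = wr 1 fun i => (G i : Matrix (Fin s) (Fin s) F)) (j : Fin t) :
    ∃ c : F, A j = c • (G j : Matrix (Fin s) (Fin s) F) := by
  have hne : ∀ i, ∃ u v, (G i : Matrix (Fin s) (Fin s) F) u v ≠ 0 := fun i => by
    by_contra h0
    push Not at h0
    exact (G i).ne_zero (Matrix.ext h0)
  choose u v huv using hne
  exact factor_of_eq A _ h u v huv j

/-- Elements of different factors are equal only when they are scalar. -/
lemma inj_eq_inj_scalar {a b : Fin t} (hab : a ≠ b) {X Y : Matrix (Fin s) (Fin s) F} [NeZero s]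
    (h : inj a X = inj b Y) (hX : X ≠ 0) : ∃ c : F, Y = c • 1 := by
  obtain ⟨u, hu⟩ := Function.ne_iff.mp hX
  obtain ⟨v, hv⟩ := Function.ne_iff.mp hu
  simp only [Matrix.zero_apply, Pi.zero_apply] at hv
  refine ⟨Y 0 0, Matrix.ext fun i j => ?_⟩
  have he : ∀ (i j : Fin s), inj a X (Function.update (Function.update 0 a u) b i) (Function.update (Function.update 0 a v) b j)
      = if i = j then X u v else 0 := fun i j => by
    rw [inj_apply, wr_apply]
    split_ifs with hij
    · subst hij
      rw [Finset.prod_eq_single a (fun k _ hka => ?_) (by simp)]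
      · simp [hab]
      · by_cases hkb : k = b
        · subst hkb; simp [hka]
        · simp [hka, hkb]
    · exact Finset.prod_eq_zero (Finset.mem_univ b) (by simp [hab.symm, hij])
  have he' : ∀ (u' v' i j : Fin s), inj b Y (Function.update (Function.update 0 a u') b i) (Function.update (Function.update 0 a v') b j)
      = if u' = v' then Y i j else 0 := fun u' v' i j => by
    rw [inj_apply, wr_apply]
    split_ifs with huv'
    · subst huv'
      rw [Finset.prod_eq_single b (fun k _ hkb => ?_) (by simp)]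
      · simp
      · by_cases hka : k = a
        · subst hka; simp [hkb]
        · simp [hka, hkb]
    · exact Finset.prod_eq_zero (Finset.mem_univ a) (by simp [hab, huv'])
  have hij := he i j
  have h00 := he 0 0
  rw [h, he'] at hij h00
  rw [if_pos rfl] at h00
  have huv' : u = v := by
    by_contra hne
    rw [if_neg hne] at h00
    exact hv h00.symm
  rw [if_pos huv'] at hij h00
  rw [Matrix.smul_apply, smul_eq_mul, hij, Matrix.one_apply, h00]
  split_ifs <;> simp

end pure

variable {m : ℕ} {F : Type*} [Field F] [Fintype F] {H : Subgroup (GL (Fin m ⊕ Fin m) F)} (hH : H ≤ spGL m F)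

local notation "M₂" => Matrix (Fin m ⊕ Fin m) (Fin m ⊕ Fin m) F

omit [Fintype F] in
/-- Changing the basis inside the standard group. -/
lemma tensorWreath_le_change {t s : ℕ} (e : (Fin m ⊕ Fin m) ≃ (Fin t → Fin s)) (P : GL (Fin m ⊕ Fin m) F)
    {z : GL (Fin t → Fin s) F} (hz : z ∈ tensorWreathStandard s t F) :
    tensorWreathSubgroup s t e P ≤ tensorWreathSubgroup s t e (P * glReindex e.symm z) := by
  rintro _ ⟨_, ⟨w, hw, rfl⟩, rfl⟩
  refine ⟨_, ⟨z⁻¹ * w * z, mul_mem (mul_mem (inv_mem hz) hw) hz, rfl⟩, ?_⟩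
  change P * glReindex e.symm z * glReindex e.symm (z⁻¹ * w * z) * (P * glReindex e.symm z)⁻¹ =
    P * glReindex e.symm w * P⁻¹
  rw [map_mul, map_mul, map_inv]
  group

include hH in
/-- A normal subgroup with several components acting on the factors of a tensor power. -/
theorem sp_wreath_member {N : Subgroup (GL (Fin m ⊕ Fin m) F)} (hNH : N ≤ H) {t : ℕ} (ht : 2 ≤ t)
    {L : Fin t → Subgroup (GL (Fin m ⊕ Fin m) F)} (hL : CompData H N L) {s : ℕ}
    {e : (Fin m ⊕ Fin m) ≃ (Fin t → Fin s)} {P : GL (Fin m ⊕ Fin m) F}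
    {ρ : ∀ i, matrixSet (L i) → Matrix (Fin s) (Fin s) F} (hW : WreathData H L s e P ρ) : SpMember H := by
  classical
  have hf := isSymplecticForm_sympForm (F := F) m
  have hs2 := hW.two
  haveI : NeZero s := ⟨by omega⟩
  haveI : Nonempty (Fin t → Fin s) := ⟨fun _ => 0⟩
  haveI : Nonempty (Fin m ⊕ Fin m) := e.nonempty
  have hLH : ∀ i, L i ≤ H := fun i => (hL.le i).trans hNH
  obtain ⟨c, G, hc, hG⟩ := exists_pure_gram (σ := RingEquiv.refl F) (IsSesq.of_bilinear hf.bilinear) hf.nondegenerate
    (S := fun i => matrixSet (L i)) (fun i => by rintro _ ⟨x, hx, rfl⟩ u v; exact sp_iso hH (hLH i hx) u v)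
    hW.absIrr hW.coord
  obtain ⟨Gm, hGm⟩ : ∃ Gm : Fin t → Matrix (Fin s) (Fin s) F, ∀ i, Gm i = (G i : Matrix (Fin s) (Fin s) F) :=
    ⟨_, fun i => rfl⟩
  have hGf : (fun i => (G i : Matrix (Fin s) (Fin s) F)) = Gm := funext fun i => (hGm i).symm
  rw [hGf] at hG
  have hfac : ∀ {A : Fin t → Matrix (Fin s) (Fin s) F}, wr 1 A = wr 1 Gm → ∀ j, ∃ a : F, A j = a • Gm j :=
    fun {A} hA j => by rw [← hGf] at hA; obtain ⟨a, ha⟩ := wr_factor hA j; exact ⟨a, ha.trans (by rw [hGm])⟩
  have hGne : ∀ i, Gm i ≠ 0 := fun i => by rw [hGm]; exact (G i).ne_zero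
  have hGdet : ∀ i, (Gm i).det ≠ 0 := fun i => by
    rw [hGm]; exact (Matrix.GeneralLinearGroup.det (G i)).ne_zero
  obtain ⟨i₀, hi₀⟩ : ∃ i₀ : Fin t, i₀ = ⟨0, by omega⟩ := ⟨_, rfl⟩
  -- the transposes of the factors
  have hskew : ∀ i, ∃ l : F, (Gm i)ᵀ = l • Gm i := by
    intro i
    have h1 : (fGram e P (sympForm m F))ᵀ.map (RingEquiv.refl F) = (-1 : F) • fGram e P (sympForm m F) :=
      fGram_transpose fun u v => by rw [RingEquiv.refl_apply, hf.skew, neg_one_mul]
    simp only [RingEquiv.coe_refl, Matrix.map_id, hG, transpose_smul, smul_comm (-1 : F) c] at h1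
    have h2 := smul_right_injective _ hc h1
    rw [wr_transpose] at h2
    have h3 : wr 1 (Function.update (fun j => (Gm j)ᵀ) i₀ ((-1 : F) • (Gm i₀)ᵀ)) = wr 1 Gm := by
      rw [wr_update_smul, Function.update_eq_self]
      change (-1 : F) • wr (1 : Equiv.Perm (Fin t)) (fun j => (Gm j)ᵀ) = _
      rw [show wr (1 : Equiv.Perm (Fin t)) (fun j => (Gm j)ᵀ) = (-1 : F) • wr 1 Gm from h2, smul_smul, neg_one_mul,
        neg_neg, one_smul]
    obtain ⟨a, ha⟩ := hfac h3 i
    by_cases hi : i = i₀
    · subst hi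
      rw [Function.update_self, neg_one_smul] at ha
      exact ⟨-a, by rw [neg_smul, ← ha, neg_neg]⟩
    · rw [Function.update_of_ne hi] at ha
      exact ⟨a, ha⟩
  choose l hl using hskew
  have hll : ∀ i, l i * l i = 1 := fun i => by
    have h1 : (l i * l i) • Gm i = Gm i := by
      rw [← smul_smul, ← hl, ← transpose_smul, ← hl, transpose_transpose]
    have h2 : (l i * l i - 1) • Gm i = 0 := by rw [sub_smul, h1, one_smul, sub_self]
    exact sub_eq_zero.mp ((smul_eq_zero.mp h2).resolve_right (hGne i))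
  have hprod : ∏ i, l i = -1 := by
    have h1 : (fGram e P (sympForm m F))ᵀ.map (RingEquiv.refl F) = (-1 : F) • fGram e P (sympForm m F) :=
      fGram_transpose fun u v => by rw [RingEquiv.refl_apply, hf.skew, neg_one_mul]
    simp only [RingEquiv.coe_refl, Matrix.map_id, hG, transpose_smul, wr_transpose, smul_comm (-1 : F) c] at h1
    have h2 := smul_right_injective _ hc h1
    have h3 : wr (1 : Equiv.Perm (Fin t)) (fun i => l i • Gm i) = (-1 : F) • wr 1 Gm := by
      rw [← funext hl]; exact h2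
    rw [wr_smul] at h3
    have hne : wr (1 : Equiv.Perm (Fin t)) Gm ≠ 0 := by
      intro h0
      exact fGram_det_ne_zero (e := e) (P := P) (IsSesq.of_bilinear hf.bilinear) hf.nondegenerate
        (by rw [hG, h0, smul_zero]; exact det_zero)
    exact sub_eq_zero.mp ((smul_eq_zero.mp (show (∏ i, l i - -1) • wr (1 : Equiv.Perm (Fin t)) Gm = 0 by
      rw [sub_smul, h3, sub_self])).resolve_right hne)
  -- isometries in coordinates
  have hsim : ∀ h ∈ H, ∃ (π : Equiv.Perm (Fin t)) (A : Fin t → GL (Fin s) F),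
      toCoord e P (h : M₂) = wr π (fun i => (A i : Matrix (Fin s) (Fin s) F)) ∧
      ∀ i, ∃ a : F, (A i : Matrix (Fin s) (Fin s) F)ᵀ * Gm i * (A i : Matrix (Fin s) (Fin s) F) = a • Gm (π i) := by
    intro h hh
    obtain ⟨z, hz, hgz⟩ := exists_toCoord_of_mem (hW.le hh)
    obtain ⟨π, A, hzA⟩ := standard_form hz
    refine ⟨π, A, hgz.trans hzA, fun i => ?_⟩
    have h1 := sp_coord_iso hH e P hh
    rw [hgz, hzA, hG, Matrix.mul_smul, Matrix.smul_mul] at h1
    have h2 := smul_right_injective _ hc h1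
    rw [wr_transpose, Matrix.mul_assoc, wr_one_mul, wr_mul, Equiv.symm_trans_self] at h2
    obtain ⟨a, ha⟩ := hfac h2 (π i)
    rw [Equiv.symm_apply_apply] at ha
    exact ⟨a, by rw [← ha, Matrix.mul_assoc]⟩
  have hLsim : ∀ i (x : matrixSet (L i)), ∃ a : F, (ρ i x)ᵀ * Gm i * ρ i x = a • Gm i := by
    intro i x
    obtain ⟨y, hy, hyx⟩ := x.2
    have h1 := sp_coord_iso hH e P (hLH i hy)
    rw [show (y : M₂) = (x : M₂) from hyx, hW.coord, inj_apply, hG, Matrix.mul_smul, Matrix.smul_mul] at h1
    have h2 := smul_right_injective _ hc h1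
    rw [wr_transpose, Matrix.mul_assoc, wr_one_mul, wr_mul, Equiv.symm_trans_self] at h2
    obtain ⟨a, ha⟩ := hfac h2 i
    simp only [Equiv.Perm.one_def, Equiv.refl_symm, Equiv.refl_apply, Function.update_self] at ha
    exact ⟨a, by rw [← ha, Matrix.mul_assoc]⟩
  by_cases h2 : (2 : F) = 0
  · -- characteristic two
    have hsymm : ∀ i, (Gm i)ᵀ = Gm i := fun i => by
      rw [hl, show l i = 1 from (mul_self_eq_one_iff.mp (hll i)).elim id fun h => h.trans (by linear_combination -h2),
        one_smul]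
    have hz : ∀ i v, v ⬝ᵥ (Gm i *ᵥ v) = 0 := fun i =>
      diag_zero_of_irr h2 (by rw [Fintype.card_fin]; exact hs2) (hsymm i) (hW.absIrr i).1 (by
        rintro _ ⟨x, rfl⟩; exact hLsim i x)
    obtain ⟨U, hU⟩ : ∃ U : Matrix (Fin s) (Fin s) F, U = Matrix.of fun i j => if i < j then Gm i₀ i j else 0 := ⟨_, rfl⟩
    have hUU : U + Uᵀ = Gm i₀ := by
      ext i j
      rcases lt_trichotomy i j with hlt | heq | hgt
      · simp [hU, hlt, lt_asymm hlt]
      · subst heq
        have := hz i₀ (Pi.single i 1)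
        simp at this
        simp [hU, this]
      · have := congrFun (congrFun (hsymm i₀) i) j
        simp only [transpose_apply] at this
        simp [hU, hgt, lt_asymm hgt, this]
    obtain ⟨i₁, hi₁⟩ : ∃ i₁ : Fin t, i₁ ≠ i₀ := ⟨⟨1, by omega⟩, by rw [hi₀]; simp [Fin.ext_iff]⟩
    refine sp_quad_member_coord hH h2 (e := e) (P := P) (W := c • wr 1 (Function.update Gm i₀ U)) ?_ span_pureVec ?_ ?_
    · rw [hG, transpose_smul, ← smul_add]
      congr 1
      have e1 : (wr (1 : Equiv.Perm (Fin t)) (Function.update Gm i₀ U))ᵀ = wr 1 (Function.update Gm i₀ Uᵀ) := by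
        rw [wr_transpose]
        change wr (1 : Equiv.Perm (Fin t)) _ = _
        congr 1
        funext j
        by_cases hj : j = i₀
        · subst hj; simp [Equiv.Perm.one_def]
        · simp [Equiv.Perm.one_def, Function.update_of_ne hj, hsymm]
      rw [e1, ← wr_update_add, hUU, Function.update_eq_self]
    · rintro _ ⟨v, rfl⟩
      rw [smul_mulVec, wr_mulVec_pureVec, dotProduct_smul, pureVec_dotProduct,
        Finset.prod_eq_zero (Finset.mem_univ i₁) (by rw [Function.update_of_ne hi₁]; exact hz i₁ _), smul_zero]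
    · rintro h hh _ ⟨v, rfl⟩
      obtain ⟨π, A, hA, -⟩ := hsim h hh
      exact ⟨fun i => (A i : Matrix (Fin s) (Fin s) F) *ᵥ v (π i), by rw [hA, wr_mulVec_pureVec]⟩
  -- odd characteristic: all factors have one sign
  have hsame : ∀ i j, l i = l j := by
    intro i j
    obtain ⟨h, hh, hmap⟩ := hL.trans i j
    obtain ⟨π, A, hA, hAG⟩ := hsim h hh
    obtain ⟨x₀, hx₀, hx₀s⟩ := SetLike.not_le_iff_exists.mp (hL.not_scalar j)
    have hji : π j = i := by
      by_contra hne
      have hall : ∀ y : matrixSet (L j), ∃ a : F, ρ j y = a • 1 := by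
        intro y
        obtain ⟨y', hy', hyy⟩ := y.2
        obtain ⟨x, hx, hxy⟩ := (hmap ▸ hy' : y' ∈ (L i).map (MulAut.conj h).toMonoidHom)
        have e1 : toCoord e P (y : M₂) * toCoord e P (h : M₂) = toCoord e P (h : M₂) * toCoord e P (x : M₂) := by
          rw [← hyy, ← hxy, ← toCoord_mul, ← toCoord_mul]
          congr 1
          change ((h * x * h⁻¹ : GL (Fin m ⊕ Fin m) F) : M₂) * (h : M₂) = _
          rw [← Units.val_mul, ← Units.val_mul, inv_mul_cancel_right]
        rw [hW.coord j y, hW.coord i ⟨_, x, hx, rfl⟩, hA, wr_conj] at e1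
        have hu : IsUnit (wr π fun i => (A i : Matrix (Fin s) (Fin s) F)) := by
          rw [← hA]
          exact ⟨⟨toCoord e P (h : M₂), toCoord e P ((h⁻¹ : GL (Fin m ⊕ Fin m) F) : M₂),
            by rw [← toCoord_mul, Units.mul_inv, toCoord_one], by rw [← toCoord_mul, Units.inv_mul, toCoord_one]⟩, rfl⟩
        have e2 := hu.mul_right_cancel e1
        refine inj_eq_inj_scalar (fun h0 => hne (by rw [← h0, Equiv.apply_symm_apply])) e2.symm (fun h0 => ?_)
        have h3 : inj (π.symm i) (0 : Matrix (Fin s) (Fin s) F) = (0 : Matrix (Fin t → Fin s) (Fin t → Fin s) F) :=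
          map_zero _
        rw [h0, h3, ← hW.coord j y] at e2
        exact toCoord_ne_zero e P y' (by rw [← e2, ← hyy])
      obtain ⟨a, ha⟩ := hall ⟨_, x₀, hx₀, rfl⟩
      refine hx₀s (mem_scalars_of_eq_smul (c := a) (toCoord_injective e P ?_))
      rw [hW.coord j ⟨_, x₀, hx₀, rfl⟩, ha, map_smul, inj_one]
      simp only [toCoord, Matrix.mul_smul, Matrix.smul_mul, Matrix.mul_one, Units.inv_mul]
      ext p q
      simp [Matrix.one_apply]
    obtain ⟨a, ha⟩ := hAG j
    rw [hji] at ha
    have ha0 : a ≠ 0 := fun h0 => by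
      have hd := congrArg Matrix.det ha
      rw [h0, zero_smul, det_zero, det_mul, det_mul, det_transpose] at hd
      exact mul_ne_zero (mul_ne_zero (Matrix.GeneralLinearGroup.det (A j)).ne_zero (hGdet j))
        (Matrix.GeneralLinearGroup.det (A j)).ne_zero hd
    have h1 := congrArg Matrix.transpose ha
    rw [transpose_mul, transpose_mul, transpose_transpose, transpose_smul, hl, hl, Matrix.smul_mul, Matrix.mul_smul,
      ← Matrix.mul_assoc, ha, smul_smul, smul_smul] at h1
    have h3 : (l j * a - a * l i) • Gm i = 0 := by rw [sub_smul, h1, sub_self]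
    have h4 := (smul_eq_zero.mp h3).resolve_right (hGne i)
    exact mul_left_cancel₀ ha0 (by linear_combination -h4)
  have hneg : ∀ i, l i = -1 := by
    intro i
    rcases mul_self_eq_one_iff.mp (hll i) with h | h
    · exfalso
      rw [Finset.prod_eq_one fun j _ => (hsame j i).trans h] at hprod
      exact h2 (by linear_combination hprod)
    · exact h
  have htodd : Odd t := by
    rw [Finset.prod_congr rfl fun i _ => hneg i, Finset.prod_const, Finset.card_univ, Fintype.card_fin] at hprod
    rcases Nat.even_or_odd t with hev | hodd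
    · rw [hev.neg_one_pow] at hprod; exact absurd (show (2 : F) = 0 by linear_combination hprod) h2
    · exact hodd
  have halt : ∀ i, CfsgLib.Forms.IsAltMat (Gm i) := fun i => by
    have h1 : (Gm i)ᵀ = -Gm i := by rw [hl, hneg, neg_one_smul]
    refine ⟨h1, fun u => ?_⟩
    have h3 := congrFun (congrFun h1 u) u
    rw [transpose_apply, Matrix.neg_apply] at h3
    exact (mul_eq_zero.mp (show (2 : F) * Gm i u u = 0 by linear_combination h3)).resolve_left h2
  obtain ⟨k, hk, hk0⟩ := CfsgLib.Forms.exists_congr_J (halt i₀) (hGdet i₀)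
  have hcong : ∀ i, CfsgLib.Forms.Congr (Gm i) (Gm i₀) := fun i =>
    (CfsgLib.Forms.congr_J (halt i) (hGdet i) hk).trans hk0.symm
  choose X Y hXY hYX hX using hcong
  obtain ⟨z, hz, hzv⟩ := exists_gl_wr (1 : Equiv.Perm (Fin t)) (fun i => (⟨X i, Y i, hXY i, hYX i⟩ : GL (Fin s) F))
  refine ⟨_, Or.inr (Or.inr (Or.inr (Or.inr ⟨s, t, e, P * glReindex e.symm z, formOfGram id (Gm i₀),
    odd_card_of_two_ne h2, htodd, ?_, ?_, formOfGram_symplectic (hGdet i₀) (halt i₀).1 h2, ⟨c, hc, fun x y => ?_⟩, rfl⟩))),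
    le_inf (hW.le.trans (tensorWreath_le_change e P hz)) hH⟩
  · obtain ⟨u, hu⟩ := htodd; omega
  · -- no perfect component in dimension two over three elements
    rintro ⟨hq, rfl⟩
    have hsol : Group.IsSolvable (GL (Fin 2) F) := by
      refine CfsgLib.Char.isSolvable_of_card_eq_pow_mul_pow Nat.prime_two Nat.prime_three (a := 4) (b := 1) ?_
      rw [Matrix.card_GL_field, Fin.prod_univ_two, ← Nat.card_eq_fintype_card]
      simp [Nat.card_eq_fintype_card, hq]
    have hinjI : Function.Injective (inj i₀ : Matrix (Fin 2) (Fin 2) F → _) := fun A B hAB => by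
      ext u v
      have h1 := congrFun (congrFun hAB (Function.update 0 i₀ u)) (Function.update 0 i₀ v)
      simp only [inj_apply, wr_apply, Equiv.Perm.one_apply] at h1
      rwa [Finset.prod_eq_single i₀ (fun j _ hj => by simp [hj]) (by simp), Finset.prod_eq_single i₀
        (fun j _ hj => by simp [hj]) (by simp), Function.update_self, Function.update_self, Function.update_self,
        Function.update_self] at h1
    have hcoord : ∀ (x : L i₀), toCoord e P ((x : GL (Fin m ⊕ Fin m) F) : M₂) = inj i₀ (ρ i₀ ⟨_, x, x.2, rfl⟩) :=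
      fun x => hW.coord i₀ ⟨_, x, x.2, rfl⟩
    have hinjmul : ∀ A B : Matrix (Fin 2) (Fin 2) F, inj i₀ A * inj i₀ B = inj i₀ (A * B) := fun A B => by
      rw [inj_apply, inj_apply, inj_apply, wr_one_mul]
      congr 1
      funext j
      by_cases hj : j = i₀
      · subst hj; simp
      · simp [Function.update_of_ne hj]
    let φ : L i₀ →* Matrix (Fin 2) (Fin 2) F :=
      { toFun := fun x => ρ i₀ ⟨_, x, x.2, rfl⟩
        map_one' := hinjI (by rw [← hcoord, inj_one]; exact toCoord_one e P)
        map_mul' := fun x y => hinjI (by rw [← hinjmul, ← hcoord, ← hcoord, ← hcoord, ← toCoord_mul]; rfl) }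
    obtain ⟨φ', hφ'⟩ : ∃ φ' : L i₀ →* GL (Fin 2) F, ∀ x, (φ' x : Matrix (Fin 2) (Fin 2) F) = φ x :=
      ⟨φ.toHomUnits, fun x => rfl⟩
    have hperf : commutator (L i₀) = ⊤ := by
      apply Subgroup.map_injective (L i₀).subtype_injective
      rw [commutator_def, Subgroup.map_commutator, ← MonoidHom.range_eq_map, Subgroup.range_subtype, hL.perfect]
    obtain ⟨n, hn⟩ := hsol
    have htop : ∀ n, derivedSeries (L i₀) n = ⊤ := fun n => by
      induction n with
      | zero => rfl
      | succ n ih => rw [derivedSeries_succ, ih, ← commutator_def, hperf]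
    have htriv : ∀ x, φ' x = 1 := fun x => by
      have h1 : φ' x ∈ derivedSeries (GL (Fin 2) F) n :=
        map_derivedSeries_le_derivedSeries φ' n ⟨x, by rw [htop]; exact Subgroup.mem_top x, rfl⟩
      rw [hn, Subgroup.mem_bot] at h1
      exact h1
    refine hL.not_scalar i₀ fun x hx => ?_
    have h1 : ρ i₀ ⟨_, x, hx, rfl⟩ = 1 := by
      have := congrArg Units.val (htriv ⟨x, hx⟩)
      rw [hφ', Units.val_one] at this
      exact this
    rw [show x = 1 from Units.ext (toCoord_injective e P (by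
      rw [hW.coord i₀ ⟨_, x, hx, rfl⟩, h1, inj_one, Units.val_one, toCoord_one]))]
    exact one_mem _
  · rw [show gramMatrix (formOfGram id (Gm i₀)) = Gm i₀ from gram_formOfGram (σ := RingEquiv.refl F) _]
    have hv : ∀ w : (Fin t → Fin s) → F, ((P * glReindex e.symm z : GL (Fin m ⊕ Fin m) F) : M₂) *ᵥ (w ∘ e) =
        (P : M₂) *ᵥ (((z : Matrix (Fin t → Fin s) (Fin t → Fin s) F) *ᵥ w) ∘ e) := fun w => by
      rw [Units.val_mul, ← mulVec_mulVec]
      congr 1
      change Matrix.reindexAlgEquiv F F e.symm (z : Matrix (Fin t → Fin s) (Fin t → Fin s) F) *ᵥ (w ∘ e) = _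
      rw [Matrix.reindexAlgEquiv_apply, Matrix.reindex_apply, Equiv.symm_symm, Matrix.submatrix_mulVec_equiv,
        Function.comp_assoc, Equiv.self_comp_symm, Function.comp_id]
    rw [hv, hv, coord_formula (IsSesq.of_bilinear hf.bilinear), hG, hzv]
    simp only [RingEquiv.coe_refl, Function.id_comp, id_eq, smul_mulVec, dotProduct_smul, smul_eq_mul]
    congr 1
    rw [← vecMul_transpose, ← dotProduct_mulVec, mulVec_mulVec, mulVec_mulVec, wr_transpose]
    change x ⬝ᵥ ((wr (1 : Equiv.Perm (Fin t)) _ * wr 1 Gm * wr 1 _) *ᵥ y) = _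
    rw [wr_one_mul, wr_one_mul]
    simp only [Equiv.Perm.one_def, Equiv.refl_symm, Equiv.refl_apply, hX]
    simp only [dotProduct, mulVec, wr_apply, Equiv.refl_apply, Finset.mul_sum, mul_assoc]

end CfsgLib.Classical22.Asch
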