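/-
Subgroups of the symplectic group: a geometric member or the residual class.
-/
import Cfsg.Agent.Lib.Classical22.Asch.SpToral
import Cfsg.Agent.Lib.Classical22.Asch.SpWreath
import Cfsg.Agent.Lib.Classical22.Asch.SpClassTwo
import Cfsg.Agent.Lib.Classical22.Asch.LinearCases

set_option autoImplicit false
set_option maxHeartbeats 800000

namespace CfsgLib.Classical22.Asch

open Matrix Cfsg Cfsg.Geo CfsgLib.Techniques.AschPrime CfsgLib.Techniques.AschGen CfsgLib.Transvec
open scoped MatrixGroups commutatorElement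

variable {m : ℕ} {F : Type*} [Field F] [Fintype F] {H N : Subgroup (GL (Fin m ⊕ Fin m) F)} (hH : H ≤ spGL m F)

local notation "M₂" => Matrix (Fin m ⊕ Fin m) (Fin m ⊕ Fin m) F

include hH in
omit [Fintype F] in
/-- The algebra of a subgroup is closed under adjoints. -/
lemma sp_alg_adjoint (hNH : N ≤ H) {x : M₂} (hx : x ∈ alg N) :
    ∃ x' ∈ alg N, AdjPair (sympForm m F) x x' := by
  have hb := (isSymplecticForm_sympForm (F := F) m).bilinear
  induction hx using Algebra.adjoin_induction with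
  | mem x hx =>
    obtain ⟨g, hg, rfl⟩ := hx
    exact ⟨_, coe_mem_alg (N.inv_mem hg), adjPair_iso (hH (hNH hg))⟩
  | algebraMap c =>
    refine ⟨algebraMap F M₂ c, (alg N).algebraMap_mem c, ?_⟩
    rw [Algebra.algebraMap_eq_smul_one]
    exact (adj_one (f := sympForm m F)).smul hb c
  | add x y _ _ hx hy =>
    obtain ⟨x', hx', hax⟩ := hx
    obtain ⟨y', hy', hay⟩ := hy
    exact ⟨x' + y', (alg N).add_mem hx' hy', hax.add hb hay⟩
  | mul x y _ _ hx hy =>
    obtain ⟨x', hx', hax⟩ := hx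
    obtain ⟨y', hy', hay⟩ := hy
    exact ⟨y' * x', (alg N).mul_mem hy' hx', hax.mul hay⟩

include hH in
/-- A non-scalar central element of the algebra of a normal subgroup gives a member. -/
theorem sp_centre_member (hI : Irr H) (hm : 0 < m) (hNH : N ≤ H) (hN : NormalisedBy H N)
    (hns : ∃ x ∈ alg N, (∀ y ∈ alg N, x * y = y * x) ∧ ∀ c : F, x ≠ c • 1) : SpMember H := by
  have hf := isSymplecticForm_sympForm (F := F) m
  let K : Subalgebra F M₂ := alg N ⊓ Subalgebra.centralizer F (alg N : Set M₂)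
  have hmem : ∀ {x}, x ∈ K ↔ x ∈ alg N ∧ ∀ y ∈ alg N, y * x = x * y := fun {x} => by
    simp only [K, Algebra.mem_inf, Subalgebra.mem_centralizer_iff, SetLike.mem_coe]
  refine sp_toral_member hH hI (K := K) hm (fun x hx y hy => ((hmem.mp hx).2 y (hmem.mp hy).1).symm)
    (fun h hh x hx => ?_) (fun x hx => ?_) ?_
  · obtain ⟨hxa, hxc⟩ := hmem.mp hx
    refine hmem.mpr ⟨cnj_mem_alg hN hh hxa, fun y hy => ?_⟩
    have h1 := hxc _ (cnj_mem_alg hN (H.inv_mem hh) hy)
    rw [← cnj_symm] at h1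
    have h2 := congrArg (cnj h) h1
    rwa [map_mul, map_mul, AlgEquiv.apply_symm_apply] at h2
  · obtain ⟨hxa, hxc⟩ := hmem.mp hx
    obtain ⟨x', hx', hax⟩ := sp_alg_adjoint hH hNH hxa
    refine ⟨x', hmem.mpr ⟨hx', fun y hy => ?_⟩, hax⟩
    obtain ⟨y', hy', hay⟩ := sp_alg_adjoint hH hNH hy
    have hay' := hay.symm hf.skew
    have e1 := hax.mul hay'
    rw [← hxc y' hy'] at e1
    exact e1.unique hf.bilinear hf.nondegenerate (hay'.mul hax)
  · obtain ⟨x, hx, hc, hs⟩ := hns
    exact ⟨x, hmem.mpr ⟨hx, fun y hy => (hc y hy).symm⟩, hs⟩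

include hH in
/-- The structure theorem for subgroups of the symplectic group. -/
theorem sp_cases (hm : 0 < m) : SpMember H ∨ InSymplecticResidualClass H := by
  classical
  haveI : Nonempty (Fin m ⊕ Fin m) := ⟨Sum.inl ⟨0, hm⟩⟩
  by_cases hI : Irr H
  swap
  · exact Or.inl (sp_reducible hH hI)
  obtain ⟨N, hN⟩ := Aschbacher.exists_minNS (H := H) (Aschbacher.not_le_scalars_of_irr hI (by simp; omega))
  have hNH := hN.norm.le
  have hNn : NormalisedBy H N := hN.norm.conj
  have hmin : ∀ M ≤ N, NormalisedBy H M → ¬ M ≤ scalars (Fin m ⊕ Fin m) F → M = N := fun M hM hMn hMs =>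
    (hN.minimal M hM hMn).resolve_left hMs
  rcases clifford_gen_alg hI hNn with ⟨t, d, D, hD, -, ε, hε⟩ | ⟨r, K, hr, hK, -, hKc, -⟩ |
    ⟨d, k, e, P, N₀, hd, hk, habs₀, hK, hK'⟩
  · refine Or.inl (sp_centre_member hH hI hm hNH hNn ⟨ε ⟨0, by have := hD.two_le; omega⟩, hε.mem _, hε.central _, ?_⟩)
    intro c hc
    have hne : ∀ i, ε i ≠ 0 := fun i h0 => by
      have hb : D i = ⊥ := (Submodule.eq_bot_iff _).mpr fun v hv => by
        rw [← (hε.range i v).mp hv, h0, zero_mulVec]
      have h1 := hD.finrank_eq i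
      rw [hb, finrank_bot] at h1
      exact hD.pos.ne h1
    have h1 := hε.mul ⟨0, by have := hD.two_le; omega⟩ ⟨1, by have := hD.two_le; omega⟩ (by simp [Fin.ext_iff])
    rw [hc, Matrix.smul_mul, one_mul] at h1
    rcases smul_eq_zero.mp h1 with h | h
    · exact hne _ (by rw [hc, h, zero_smul])
    · exact hne _ h
  · refine Or.inl (sp_centre_member hH hI hm hNH hNn ?_)
    by_contra hno
    push Not at hno
    have hbot : K = ⊥ := le_bot_iff.mp fun x hx => by
      obtain ⟨c, rfl⟩ := hno x (hKc x hx).1 (hKc x hx).2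
      exact Subalgebra.smul_mem _ (one_mem _) c
    have h1 : Module.finrank F K = r := hK.finrank_eq
    rw [hbot, Subalgebra.finrank_bot] at h1
    exact hr.ne_one h1.symm
  rcases kron_cases hNn hN.nonscalar hd hk habs₀ hK hK' with habs | ⟨hd2, hk2, ρ, hρ, hP, hle⟩
  swap
  · exact Or.inl (sp_tensor_member hH hI hm hNH hd2 hk2 hρ hP hle)
  rcases hN.derived with hcomm | hperf
  · exact Or.inl (sp_class_two_member hH hm hN habs hcomm)
  obtain ⟨t, L, ht, hL⟩ := exists_components hNn hperf hN.nonscalar hmin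
  by_cases h2 : 2 ≤ t
  · obtain ⟨s, e, P, ρ, hW⟩ := exists_wreathData habs ht hL
    exact Or.inl (sp_wreath_member hH hNH h2 hL hW)
  obtain rfl : t = 1 := by omega
  have hL0 : L 0 = N := by rw [← hL.iSup_eq, iSup_unique]; rfl
  refine sp_core_member hH hm (P := N) ⟨hNH, hNn, hperf, isSimpleGroup_quot hperf hN.nonscalar fun M hM hMn hMs => ?_,
    not_comm_quot hperf hN.nonscalar, fun h _ hc => habs.mem_scalars (comm_of_comm_mod_scalars hperf hc), habs⟩
  exact (hL.simple 0 M (hL0 ▸ hM) (hL0 ▸ hMn) hMs).trans hL0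

end CfsgLib.Classical22.Asch
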