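/-
No member of a symplectic class contains the whole symplectic group; maximal subgroups are members or residual.
-/
import Cfsg.Agent.Lib.Classical22.Asch.SpCases

set_option autoImplicit false
set_option maxHeartbeats 800000

namespace CfsgLib.Classical22.Asch

open Matrix Cfsg Cfsg.Geo CfsgLib.Techniques.AschPrime CfsgLib.Techniques.AschGen CfsgLib.Transvec
open CfsgLib.Classical22.TensorMono
open scoped Kronecker MatrixGroups

variable {m : ℕ} {F : Type*} [Field F]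

local notation "V₂" => (Fin m ⊕ Fin m → F)
local notation "M₂" => Matrix (Fin m ⊕ Fin m) (Fin m ⊕ Fin m) F

/-- The symplectic group is transitive on non-zero vectors. -/
lemma sp_move {v b : V₂} (hv : v ≠ 0) (hb : b ≠ 0) : ∃ g ∈ spGL m F, (g : M₂) *ᵥ v = b := by
  have hf := isSymplecticForm_sympForm (F := F) m
  obtain ⟨g, hg, -, he, -⟩ := exists_move_in hf (M := spGL m F) (W := ⊤) (fun x _ c => sT_mem_spGL m x c)
    (fun w _ hw => by
      obtain ⟨x, hx⟩ := (hf.nondegenerate w hw).1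
      exact ⟨x, trivial, hx⟩) (Submodule.mem_top : v ∈ ⊤) (Submodule.mem_top : b ∈ ⊤) hv hb
  exact ⟨g, hg, he⟩

lemma sp_not_le_subspace {W : Submodule F V₂} (h0 : W ≠ ⊥) (h1 : W ≠ ⊤) :
    ¬ spGL m F ≤ subspaceStabilizer W := by
  intro hle
  obtain ⟨v, hv, hv0⟩ := Submodule.exists_mem_ne_zero_of_ne_bot h0
  obtain ⟨b, -, hb⟩ := SetLike.exists_of_lt (lt_top_iff_ne_top.mpr h1)
  have hb0 : b ≠ 0 := fun h => hb (h ▸ W.zero_mem)
  obtain ⟨g, hg, hgv⟩ := sp_move hv0 hb0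
  exact hb (hgv ▸ mulVec_mem_of_mem_subspaceStabilizer (hle hg) hv)

lemma sp_not_le_decomposition {t k : ℕ} {D : Fin t → Submodule F V₂} (hD : IsMDecomposition k D) (hk : 2 ≤ k) :
    ¬ spGL m F ≤ decompositionStabilizer D := by
  intro hle
  have hf := isSymplecticForm_sympForm (F := F) m
  have h2 := hD.two_le
  have hne : ∀ i, D i ≠ ⊥ := fun i h => by
    have h1 := hD.finrank_eq i
    rw [h, finrank_bot] at h1
    omega
  have hdis : ∀ {i j : Fin t} {x : V₂}, i ≠ j → x ∈ D i → x ∈ D j → x = 0 := fun hij hi hj =>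
    Submodule.disjoint_def.mp (hD.indep.pairwiseDisjoint hij) _ hi hj
  let i₀ : Fin t := ⟨0, by omega⟩
  let i₁ : Fin t := ⟨1, by omega⟩
  refine sp_not_le_subspace (W := D i₀) (hne i₀) (fun htop => ?_) (spGL_le_of_full fun w c => ?_)
  · obtain ⟨x, hx, hx0⟩ := Submodule.exists_mem_ne_zero_of_ne_bot (hne i₁)
    exact hx0 (hdis (i := i₀) (j := i₁) (by simp [i₀, i₁, Fin.ext_iff]) (htop ▸ Submodule.mem_top) hx)
  · obtain ⟨π, hπ⟩ := hle (sT_mem_spGL m w c)
    let φ : D i₀ →ₗ[F] F :=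
      { toFun := fun x => sympForm m F (x : V₂) w
        map_add' := fun x y => by rw [Submodule.coe_add, hf.bilinear.add_left]
        map_smul' := fun a x => by rw [Submodule.coe_smul, hf.bilinear.smul_left, RingHom.id_apply, smul_eq_mul] }
    obtain ⟨x, hx, hx0⟩ := Submodule.exists_mem_ne_zero_of_ne_bot
      (LinearMap.ker_ne_bot_of_finrank_lt (f := φ) (by rw [Module.finrank_self, hD.finrank_eq]; omega))
    have hfix : π i₀ = i₀ := by
      by_contra hne'
      refine hx0 (Subtype.ext (hdis hne' ?_ x.2))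
      rw [← hπ i₀]
      exact ⟨x, x.2, by rw [Matrix.toLin'_apply]; exact sT_fix hf (LinearMap.mem_ker.mp hx) c⟩
    refine mem_subspaceStabilizer_of_maps fun y hy => ?_
    have hy' := Submodule.mem_map_of_mem (f := Matrix.toLin' ((sT (sympForm m F) w c : GL _ F) : M₂)) hy
    rwa [hπ i₀, hfix, Matrix.toLin'_apply] at hy'

lemma sp_decomp_two_le {t k : ℕ} {D : Fin t → Submodule F V₂}
    (hD : IsNondegenerateMDecomposition (sympForm m F) k D) : 2 ≤ k := by
  have hf := isSymplecticForm_sympForm (F := F) m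
  by_contra hlt
  obtain rfl : k = 1 := by have := hD.decomp.pos; omega
  have i : Fin t := ⟨0, by have := hD.decomp.two_le; omega⟩
  obtain ⟨v, hv, hspan⟩ := finrank_eq_one_iff'.mp (hD.decomp.finrank_eq i)
  obtain ⟨x, hx, hxv⟩ := (hD.nondegenerate i (v : V₂) v.2 (fun h => hv (Subtype.ext h))).1
  obtain ⟨c, hc⟩ := hspan ⟨x, hx⟩
  have hcx : c • (v : V₂) = x := congrArg Subtype.val hc
  exact hxv (by rw [← hcx, hf.bilinear.smul_left, hf.alternating, mul_zero])

lemma sp_not_le_field (hm : 2 ≤ m) {r : ℕ} {K : Subalgebra F M₂} (hK : IsFieldSubalgebra r K) (hr : 1 < r) :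
    ¬ spGL m F ≤ subalgebraNormalizer K := by
  intro hle
  have hf := isSymplecticForm_sympForm (F := F) m
  obtain ⟨v, hv⟩ : ∃ v : V₂, v = Pi.single (Sum.inl ⟨0, by omega⟩) 1 := ⟨_, rfl⟩
  have hv0 : v ≠ 0 := by rw [hv]; simp
  obtain ⟨w, hw⟩ := (hf.nondegenerate v hv0).1
  have hscal : ∀ k ∈ K, ∃ a : F, k = a • 1 := by
    intro k hk
    obtain ⟨g, hg⟩ : ∃ g : GL (Fin m ⊕ Fin m) F, g = sT (sympForm m F) v 1 := ⟨_, rfl⟩
    obtain ⟨k', hk'⟩ : ∃ k' : M₂, k' = (g : M₂) * k * ((g⁻¹ : GL (Fin m ⊕ Fin m) F) : M₂) := ⟨_, rfl⟩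
    have hk'K : k' ∈ K := hk' ▸ (hle (hg ▸ sT_mem_spGL m v 1) k).mp hk
    let φ : V₂ →ₗ[F] F × F :=
      { toFun := fun x => (sympForm m F x v, sympForm m F (k *ᵥ x) v)
        map_add' := fun x y => by rw [mulVec_add, hf.bilinear.add_left, hf.bilinear.add_left, Prod.mk_add_mk]
        map_smul' := fun a x => by
          rw [mulVec_smul, hf.bilinear.smul_left, hf.bilinear.smul_left, RingHom.id_apply, Prod.smul_mk, smul_eq_mul,
            smul_eq_mul] }
    obtain ⟨u, hu, hu0⟩ := Submodule.exists_mem_ne_zero_of_ne_bot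
      (LinearMap.ker_ne_bot_of_finrank_lt (f := φ)
        (by rw [Module.finrank_prod, Module.finrank_self, Module.finrank_fintype_fun_eq_card, natCard_index]; omega))
    rw [LinearMap.mem_ker] at hu
    have hu1 : sympForm m F u v = 0 := congrArg Prod.fst hu
    have hu2 : sympForm m F (k *ᵥ u) v = 0 := congrArg Prod.snd hu
    have hku : (k' - k) *ᵥ u = 0 := by
      have hgu : (g : M₂) *ᵥ u = u := by rw [hg]; exact sT_fix hf hu1 1
      have hgku : (g : M₂) *ᵥ (k *ᵥ u) = k *ᵥ u := by rw [hg]; exact sT_fix hf hu2 1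
      have hgi : ((g⁻¹ : GL (Fin m ⊕ Fin m) F) : M₂) *ᵥ u = u := by
        conv_lhs => rw [← hgu]
        rw [inv_mulVec_cancel]
      rw [sub_mulVec, hk', ← mulVec_mulVec, hgi, ← mulVec_mulVec, hgku, sub_self]
    have heq : k' = k := by
      by_contra hne
      obtain ⟨y, hy, hky⟩ := hK.inv _ (K.sub_mem hk'K hk) (sub_ne_zero.mpr hne)
      rw [hK.comm _ (K.sub_mem hk'K hk) y hy] at hky
      refine hu0 ?_
      have h1 := congrArg (y *ᵥ ·) hku
      simpa [mulVec_mulVec, hky] using h1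
    have hcomm : (g : M₂) * k = k * (g : M₂) := by
      have h1 := congrArg (fun X : M₂ => X * (g : M₂)) hk'
      rw [heq, mul_assoc _ _ (g : M₂), Units.inv_mul, mul_one] at h1
      exact h1.symm
    have h1 := congrArg (fun X : M₂ => X *ᵥ w) hcomm
    simp only [← mulVec_mulVec] at h1
    rw [hg, sT_mulVec hf, sT_mulVec hf, mulVec_add, mulVec_smul, one_mul, one_mul] at h1
    have h2 := add_left_cancel h1
    refine ⟨sympForm m F (k *ᵥ w) v / sympForm m F w v, ?_⟩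
    by_contra hne
    obtain ⟨y, hy, hky⟩ := hK.inv _ (K.sub_mem hk (K.smul_mem K.one_mem _)) (sub_ne_zero.mpr hne)
    rw [hK.comm _ (K.sub_mem hk (K.smul_mem K.one_mem _)) y hy] at hky
    refine hv0 ?_
    rw [← one_mulVec v, ← hky, ← mulVec_mulVec, sub_mulVec, smul_mulVec, one_mulVec]
    rw [show k *ᵥ v = (sympForm m F (k *ᵥ w) v / sympForm m F w v) • v by
      rw [div_eq_inv_mul, mul_smul, h2, inv_smul_smul₀ hw], sub_self, mulVec_zero]
  have hbot : K = ⊥ := le_bot_iff.mp fun x hx => by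
    obtain ⟨a, rfl⟩ := hscal x hx
    exact Subalgebra.smul_mem _ (one_mem _) a
  have hfr := hK.finrank_eq
  rw [hbot] at hfr
  haveI : Nonempty (Fin m ⊕ Fin m) := ⟨Sum.inl ⟨0, by omega⟩⟩
  rw [Subalgebra.finrank_bot] at hfr
  omega

/-- The action on coordinate vectors. -/
lemma mulVec_coord {κ : Type} [Fintype κ] [DecidableEq κ] (e : (Fin m ⊕ Fin m) ≃ κ) (P g : GL (Fin m ⊕ Fin m) F)
    (x : κ → F) : (g : M₂) *ᵥ ((P : M₂) *ᵥ (x ∘ e)) = (P : M₂) *ᵥ ((toCoord e P (g : M₂) *ᵥ x) ∘ e) := by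
  rw [mulVec_mulVec, toCoord_eq_iff.mp (rfl : toCoord e P (g : M₂) = toCoord e P (g : M₂)), ← mulVec_mulVec,
    Matrix.submatrix_mulVec_equiv, Function.comp_assoc,
    Equiv.self_comp_symm, Function.comp_id]

lemma sp_not_le_tensor {a b : ℕ} (ha : 2 ≤ a) (hb : 2 ≤ b) (e : (Fin m ⊕ Fin m) ≃ Fin a × Fin b)
    (P : GL (Fin m ⊕ Fin m) F) : ¬ spGL m F ≤ tensorProductSubgroup a b e P := by
  intro hle
  let i₀ : Fin a := ⟨0, by omega⟩
  let i₁ : Fin a := ⟨1, by omega⟩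
  let j₀ : Fin b := ⟨0, by omega⟩
  let j₁ : Fin b := ⟨1, by omega⟩
  have hi : i₁ ≠ i₀ := by simp [i₀, i₁, Fin.ext_iff]
  have hj : j₁ ≠ j₀ := by simp [j₀, j₁, Fin.ext_iff]
  obtain ⟨y, hy⟩ : ∃ y : Fin a × Fin b → F,
      y = fun x => (Pi.single i₀ 1 : Fin a → F) x.1 * (Pi.single j₀ 1 : Fin b → F) x.2 := ⟨_, rfl⟩
  obtain ⟨z, hz⟩ : ∃ z : Fin a × Fin b → F,
      z = fun x => if x = (i₀, j₀) ∨ x = (i₁, j₁) then 1 else 0 := ⟨_, rfl⟩
  have hnz : ∀ x : Fin a × Fin b → F, x (i₀, j₀) = 1 → (P : M₂) *ᵥ (x ∘ e) ≠ 0 := fun x hx =>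
    CfsgLib.Transvec.mulVec_ne_zero P fun h => by
      have h1 := congrFun h (e.symm (i₀, j₀))
      simp [hx] at h1
  obtain ⟨g, hg, hgv⟩ := sp_move (hnz y (by simp [hy])) (hnz z (by simp [hz]))
  obtain ⟨w, ⟨A, B, hw⟩, hgw⟩ := exists_toCoord_of_mem (hle hg)
  rw [mulVec_coord, hgw, hw, hy, kronecker_mulVec_pure] at hgv
  have h := fun x => congrFun (mulVec_injective P hgv) (e.symm x)
  simp only [Function.comp_apply, Equiv.apply_symm_apply] at h
  have h00 := h (i₀, j₀)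
  have h11 := h (i₁, j₁)
  have h01 := h (i₀, j₁)
  simp [hz, hi, hj, hi.symm, hj.symm] at h00 h11 h01
  rcases h01 with h0 | h0
  · rw [h0, zero_mul] at h00; exact zero_ne_one h00
  · rw [h0, mul_zero] at h11; exact zero_ne_one h11

lemma sp_not_le_wreath [Fintype F] {s t : ℕ} (hs : 2 ≤ s) (ht : 2 ≤ t) (e : (Fin m ⊕ Fin m) ≃ (Fin t → Fin s))
    (P : GL (Fin m ⊕ Fin m) F) : ¬ spGL m F ≤ tensorWreathSubgroup s t e P := by
  intro hle
  let a : Fin s := ⟨0, by omega⟩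
  let b : Fin s := ⟨1, by omega⟩
  have hab : a ≠ b := by simp [a, b, Fin.ext_iff]
  let i₀ : Fin t := ⟨0, by omega⟩
  let i₁ : Fin t := ⟨1, by omega⟩
  have h01 : i₁ ≠ i₀ := by simp [i₀, i₁, Fin.ext_iff]
  obtain ⟨y, hy⟩ : ∃ y : (Fin t → Fin s) → F, y = pureVec fun _ => Pi.single a 1 := ⟨_, rfl⟩
  obtain ⟨z, hz⟩ : ∃ z : (Fin t → Fin s) → F,
      z = fun x => if x = (fun _ => a) ∨ x = (fun _ => b) then 1 else 0 := ⟨_, rfl⟩
  have hnz : ∀ x : (Fin t → Fin s) → F, x (fun _ => a) = 1 → (P : M₂) *ᵥ (x ∘ e) ≠ 0 := fun x hx =>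
    CfsgLib.Transvec.mulVec_ne_zero P fun h => by
      have h1 := congrFun h (e.symm fun _ => a)
      simp [hx] at h1
  obtain ⟨g, hg, hgv⟩ := sp_move (hnz y (by simp [hy, pureVec])) (hnz z (by simp [hz]))
  obtain ⟨w, hw, hgw⟩ := exists_toCoord_of_mem (hle hg)
  obtain ⟨π, A, hwA⟩ := standard_form hw
  rw [mulVec_coord, hgw, hwA, hy, wr_mulVec_pureVec] at hgv
  have h := fun x => congrFun (mulVec_injective P hgv) (e.symm x)
  simp only [Function.comp_apply, Equiv.apply_symm_apply] at h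
  have haa := h fun _ => a
  have hbb := h fun _ => b
  have hmix := h (Function.update (fun _ => a) i₀ b)
  rw [hz] at haa hbb hmix
  simp only [pureVec, true_or, or_true, if_true] at haa hbb hmix
  rw [if_neg] at hmix
  swap
  · rintro (h' | h')
    · exact hab (by simpa using (congrFun h' i₀).symm)
    · exact hab (by simpa [h01] using congrFun h' i₁)
  obtain ⟨i, -, hi⟩ := Finset.prod_eq_zero_iff.mp hmix
  by_cases h0 : i = i₀
  · subst h0
    simp only [Function.update_self] at hi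
    exact zero_ne_one ((Finset.prod_eq_zero (Finset.mem_univ i₀) hi).symm.trans hbb)
  · simp only [Function.update_of_ne h0] at hi
    exact zero_ne_one ((Finset.prod_eq_zero (Finset.mem_univ i) hi).symm.trans haa)

lemma sp_not_le_subfield (hm : 0 < m) {F₀ : Subfield F} (hF₀ : F₀ ≠ ⊤) (P : GL (Fin m ⊕ Fin m) F) :
    ¬ spGL m F ≤ subfieldSubgroup F₀ P := by
  intro hle
  obtain ⟨α, hα⟩ : ∃ α, α ∉ F₀ := by
    by_contra h
    push Not at h
    exact hF₀ (eq_top_iff.mpr fun x _ => h x)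
  obtain ⟨i, hi⟩ : ∃ i : Fin m ⊕ Fin m, i = Sum.inl ⟨0, hm⟩ := ⟨_, rfl⟩
  obtain ⟨j, hj⟩ : ∃ j : Fin m ⊕ Fin m, j = Sum.inr ⟨0, hm⟩ := ⟨_, rfl⟩
  have hij : j ≠ i := by simp [hi, hj]
  obtain ⟨u, hu⟩ : ∃ u : V₂, u = Pi.single i 1 + α • Pi.single j 1 := ⟨_, rfl⟩
  obtain ⟨g, hg, hgv⟩ := sp_move (v := (P : M₂) *ᵥ Pi.single i 1) (b := (P : M₂) *ᵥ u)
    (CfsgLib.Transvec.mulVec_ne_zero P (by simp))
    (CfsgLib.Transvec.mulVec_ne_zero P fun h => by
      have := congrFun h i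
      simp [hu, hij.symm] at this)
  obtain ⟨w, hw, rfl⟩ := hle hg
  obtain ⟨x, ⟨x₀, rfl⟩, z, hz, rfl⟩ := Subgroup.mem_sup_of_normal_right.mp hw
  obtain ⟨c, hc⟩ := (Cfsg.Geo.mem_scalars_iff z).mp hz
  simp only [MulEquiv.coe_toMonoidHom, MulAut.conj_apply] at hgv
  rw [CfsgLib.Transvec.mul_mulVec, CfsgLib.Transvec.mul_mulVec, inv_mulVec_cancel] at hgv
  have h := mulVec_injective P hgv
  rw [CfsgLib.Transvec.mul_mulVec, hc, smul_mulVec, one_mulVec, mulVec_smul, mulVec_single_one, hu] at h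
  have h1 := congrFun h i
  have h2 := congrFun h j
  simp [hij, hij.symm, Matrix.GeneralLinearGroup.map] at h1 h2
  have hα' : α = ((x₀ : Matrix (Fin m ⊕ Fin m) (Fin m ⊕ Fin m) F₀) j i : F) /
      ((x₀ : Matrix (Fin m ⊕ Fin m) (Fin m ⊕ Fin m) F₀) i i : F) := by
    rw [eq_div_iff (fun h0 => by rw [h0, mul_zero] at h1; exact zero_ne_one h1)]
    linear_combination
      ((x₀ : Matrix (Fin m ⊕ Fin m) (Fin m ⊕ Fin m) F₀) j i : F) * h1 -
      ((x₀ : Matrix (Fin m ⊕ Fin m) (Fin m ⊕ Fin m) F₀) i i : F) * h2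
  exact hα (hα' ▸ F₀.div_mem (SetLike.coe_mem _) (SetLike.coe_mem _))

lemma sp_not_le_quad (hm : 2 ≤ m) [Fintype F] (heven : ¬ Odd (Fintype.card F)) {Q : V₂ → F}
    (hQ : IsNondegenerateQuadraticForm Q) (hpol : ∀ u v, QuadraticMap.polar Q u v = sympForm m F u v) :
    ¬ spGL m F ≤ quadSimilarityGroup Q := by
  intro hle
  have hf := isSymplecticForm_sympForm (F := F) m
  have h2 := char_two_of_not_odd heven
  obtain ⟨e₁, he₁⟩ : ∃ e₁ : V₂, e₁ = Pi.single (Sum.inl ⟨0, by omega⟩) 1 := ⟨_, rfl⟩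
  obtain ⟨e₂, he₂⟩ : ∃ e₂ : V₂, e₂ = Pi.single (Sum.inl ⟨1, by omega⟩) 1 := ⟨_, rfl⟩
  have h12 : sympForm m F e₁ e₂ = 0 := by
    rw [he₁, he₂, Cfsg.sympForm]
    simp [Matrix.J]
  have hadd : ∀ u v, Q (u + v) = Q u + Q v + sympForm m F u v := fun u v => by
    rw [← hpol, QuadraticMap.polar]; ring
  obtain ⟨u, hu0, hQu⟩ : ∃ u : V₂, u ≠ 0 ∧ Q u = 0 := by
    by_cases h1 : Q e₁ = 0
    · exact ⟨e₁, by rw [he₁]; simp, h1⟩
    obtain ⟨a, ha⟩ := FiniteField.isSquare_of_char_two (CharP.ringChar_of_prime_eq_zero Nat.prime_two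
      (show ((2 : ℕ) : F) = 0 by exact_mod_cast h2)) (Q e₂ / Q e₁)
    refine ⟨a • e₁ + e₂, fun h => ?_, ?_⟩
    · have h' := congrFun h (Sum.inl ⟨1, by omega⟩)
      simp [he₁, he₂] at h'
    · rw [hadd, hQ.smul, hf.bilinear.smul_left, h12, mul_zero, add_zero, sq, ← ha, div_mul_cancel₀ _ h1]
      linear_combination Q e₂ * h2
  obtain ⟨w, hw⟩ : ∃ w : V₂, Q w ≠ 0 := by
    by_contra hno
    push Not at hno
    obtain ⟨x, hx⟩ := (hf.nondegenerate e₁ (by rw [he₁]; simp)).1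
    apply hx
    rw [← hpol, QuadraticMap.polar, hno, hno, hno, sub_zero, sub_zero]
  have hw0 : w ≠ 0 := fun h => hw (by
    have h' := hQ.smul 0 e₁
    rw [zero_smul] at h'
    rw [h, h']; ring)
  obtain ⟨g, hg, hgu⟩ := sp_move hu0 hw0
  obtain ⟨c, hc⟩ := hle hg
  apply hw
  rw [← hgu, hc, hQu, mul_zero]

lemma sp_not_le_normalizer [Fintype F] (hm : 2 ≤ m) {p k : ℕ} (hp : p.Prime) (hodd : Odd p)
    (hcard : Fintype.card F = p) {R : Subgroup (GL (Fin m ⊕ Fin m) F)} (hst : IsSymplecticTypeGroup 2 R)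
    (habs : AbsIrr R) (_hR : Nat.card R = 2 ^ (1 + 2 * k)) : ¬ spGL m F ≤ subgroupNormalizer R := by
  classical
  intro hle
  haveI : Nonempty (Fin m ⊕ Fin m) := ⟨Sum.inl ⟨0, by omega⟩⟩
  haveI : Fact p.Prime := ⟨hp⟩
  have hf := isSymplecticForm_sympForm (F := F) m
  have hp2 : p ≠ 2 := by rintro rfl; exact absurd hodd (by decide)
  haveI : CharP F p := by
    obtain ⟨q, hq⟩ := CharP.exists F
    obtain ⟨e, hq', he⟩ := FiniteField.card F q
    have h1 : q ∣ p := by rw [← hcard, he]; exact dvd_pow_self q e.pos.ne'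
    obtain rfl := (Nat.prime_dvd_prime_iff_eq hq' hp).mp h1
    exact hq
  have h2 : (2 : F) ≠ 0 := fun h => hp2 ((Nat.prime_dvd_prime_iff_eq hp Nat.prime_two).mp
    ((CharP.cast_eq_zero_iff F p 2).mp (by exact_mod_cast h)))
  have h4 : ∀ x ∈ R, x * x * (x * x) = 1 := by
    intro x hx
    have h := Monoid.pow_exponent_eq_one (⟨x, hx⟩ : R)
    rw [hst.exponent_eq] at h
    have h' : x ^ (2 * Nat.gcd 2 2) = 1 := by simpa using congrArg Subtype.val h
    rw [← h', show (2 * Nat.gcd 2 2 : ℕ) = 4 from rfl]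
    simp only [pow_succ, pow_zero, one_mul, mul_assoc]
  -- a non-scalar involution
  obtain ⟨x, hx, hxx, hxs⟩ : ∃ x ∈ R, x * x = 1 ∧ ∀ c : F, (x : M₂) ≠ c • 1 := by
    by_contra hno
    push Not at hno
    have hsign : ∀ x ∈ R, x * x = 1 → (x : M₂) = 1 ∨ (x : M₂) = -1 := by
      intro x hx hxx
      obtain ⟨c, hc⟩ := hno x hx hxx
      have hcc : c * c = 1 := by
        have h := congrArg (fun g : GL (Fin m ⊕ Fin m) F => (g : M₂)) hxx
        simp only [Units.val_mul, Units.val_one, hc, smul_mul_smul_comm, mul_one] at h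
        have h' := congrFun (congrFun h (Sum.inl ⟨0, by omega⟩)) (Sum.inl ⟨0, by omega⟩)
        simpa using h'
      rcases mul_self_eq_one_iff.mp hcc with h | h <;> simp [hc, h]
    have hsq : ∀ x ∈ R, (∀ c : F, (x : M₂) ≠ c • 1) → (x : M₂) * (x : M₂) = -1 := by
      intro x hx hxs
      rcases hsign _ (R.mul_mem hx hx) (h4 x hx) with h | h
      · obtain ⟨c, hc⟩ := hno x hx (Units.ext (by rw [Units.val_one]; exact h))
        exact absurd hc (hxs c)
      · rw [← Units.val_mul]; exact h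
    have hanti : ∀ x ∈ R, ∀ y ∈ R, (∀ c : F, (x : M₂) ≠ c • 1) → (∀ c : F, (y : M₂) ≠ c • 1) →
        (∀ c : F, (x : M₂) * (y : M₂) ≠ c • 1) → (y : M₂) * (x : M₂) = -((x : M₂) * (y : M₂)) := by
      intro x hx y hy hxs hys hxys
      have e1 := hsq (x * y) (R.mul_mem hx hy) (by rwa [Units.val_mul])
      rw [Units.val_mul] at e1
      have e2 : (y : M₂) * (x : M₂) * ((x : M₂) * (y : M₂)) = 1 := by
        rw [mul_assoc, ← mul_assoc (x : M₂) (x : M₂), hsq x hx hxs, neg_one_mul, mul_neg, hsq y hy hys, neg_neg]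
      calc (y : M₂) * (x : M₂) = -((y : M₂) * (x : M₂) * ((x : M₂) * (y : M₂) * ((x : M₂) * (y : M₂)))) := by
            rw [e1, mul_neg, mul_one, neg_neg]
        _ = _ := by rw [← mul_assoc, e2, one_mul]
    have hbig : ∀ S : Submodule F M₂, Module.finrank F S ≤ 4 → ∃ z ∈ R, (z : M₂) ∉ S := by
      intro S hS
      by_contra hall
      push Not at hall
      have hfull : Subalgebra.toSubmodule (Aschbacher.alg R) ≤ S := by
        rw [Aschbacher.alg_toSubmodule, Submodule.span_le]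
        rintro _ ⟨z, hz, rfl⟩
        exact hall z hz
      rw [show Aschbacher.alg R = ⊤ from full_of_absIrr habs, Algebra.top_toSubmodule] at hfull
      have h := Submodule.finrank_mono hfull
      rw [finrank_top, Module.finrank_matrix, natCard_index, Module.finrank_self, mul_one] at h
      nlinarith
    have hspan1 : Module.finrank F (Submodule.span F ({1} : Set M₂)) ≤ 4 := by
      rw [finrank_span_singleton (by simp)]; norm_num
    obtain ⟨x, hx, hxS⟩ := hbig _ hspan1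
    have hxs : ∀ c : F, (x : M₂) ≠ c • 1 := fun c h => hxS (h ▸ Submodule.smul_mem _ _ (Submodule.mem_span_singleton_self _))
    obtain ⟨y, hy, hyS⟩ := hbig (Submodule.span F ({1, (x : M₂)} : Set M₂)) (by
      have h := finrank_span_finset_le_card (R := F) ({1, (x : M₂)} : Finset M₂)
      rw [Finset.coe_insert, Finset.coe_singleton, Set.finrank] at h
      exact h.trans (Finset.card_le_two.trans (by norm_num)))
    have hys : ∀ c : F, (y : M₂) ≠ c • 1 := fun c h => hyS (h ▸ Submodule.smul_mem _ _ (Submodule.subset_span (by simp)))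
    have hsolve : ∀ {g : GL (Fin m ⊕ Fin m) F} {u : M₂} {c : F}, (g : M₂) * u = c • 1 → (g : M₂) * (g : M₂) = -1 →
        u = (-c) • (g : M₂) := fun {g u c} h hg => by
      have h' := congrArg ((g : M₂) * ·) h
      simp only [← mul_assoc, hg, neg_one_mul, mul_smul_comm, mul_one] at h'
      rw [neg_smul, ← h', neg_neg]
    have hxy : ∀ c : F, (x : M₂) * (y : M₂) ≠ c • 1 := fun c h => hyS (by
      rw [hsolve h (hsq x hx hxs)]
      exact Submodule.smul_mem _ _ (Submodule.subset_span (by simp)))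
    obtain ⟨w, hw, hwS⟩ := hbig (Submodule.span F ({1, (x : M₂), (y : M₂), (x : M₂) * (y : M₂)} : Set M₂)) (by
      have h := finrank_span_finset_le_card (R := F) ({1, (x : M₂), (y : M₂), (x : M₂) * (y : M₂)} : Finset M₂)
      rw [Finset.coe_insert, Finset.coe_insert, Finset.coe_insert, Finset.coe_singleton, Set.finrank] at h
      exact h.trans Finset.card_le_four)
    have hws : ∀ c : F, (w : M₂) ≠ c • 1 := fun c h => hwS (h ▸ Submodule.smul_mem _ _ (Submodule.subset_span (by simp)))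
    have hmem : ∀ {g : GL (Fin m ⊕ Fin m) F}, g ∈ R → (∀ c : F, (g : M₂) ≠ c • 1) →
        (g : M₂) ∈ Submodule.span F ({1, (x : M₂), (y : M₂), (x : M₂) * (y : M₂)} : Set M₂) →
        ∀ c : F, (g : M₂) * (w : M₂) ≠ c • 1 := fun hg hgs hgm c h => hwS (by
      rw [hsolve h (hsq _ hg hgs)]
      exact Submodule.smul_mem _ _ hgm)
    have hxys : ∀ c : F, ((x * y : GL (Fin m ⊕ Fin m) F) : M₂) ≠ c • 1 := by simpa [Units.val_mul] using hxy
    have ax := hanti x hx w hw hxs hws (hmem hx hxs (Submodule.subset_span (by simp)))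
    have ay := hanti y hy w hw hys hws (hmem hy hys (Submodule.subset_span (by simp)))
    have axy := hanti (x * y) (R.mul_mem hx hy) w hw hxys hws
      (hmem (R.mul_mem hx hy) hxys (by rw [Units.val_mul]; exact Submodule.subset_span (by simp)))
    rw [Units.val_mul] at axy
    have e : (w : M₂) * ((x : M₂) * (y : M₂)) = (x : M₂) * (y : M₂) * (w : M₂) := by
      rw [← mul_assoc, ax, neg_mul, mul_assoc, ay, mul_neg, neg_neg, mul_assoc]
    rw [e] at axy
    have hz : (2 : F) • ((x : M₂) * (y : M₂) * (w : M₂)) = 0 := by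
      rw [two_smul]
      nth_rewrite 2 [axy]
      exact add_neg_cancel _
    have hu : IsUnit ((x : M₂) * (y : M₂) * (w : M₂)) := (x.isUnit.mul y.isUnit).mul w.isUnit
    exact hu.ne_zero ((smul_eq_zero.mp hz).resolve_left h2)
  -- a vector off the eigenspaces with f(v, x v) = 0
  have hxv : ∀ u : V₂, (x : M₂) *ᵥ ((x : M₂) *ᵥ u) = u := fun u => by
    rw [mulVec_mulVec, ← Units.val_mul, hxx, Units.val_one, one_mulVec]
  obtain ⟨P₁, hP₁⟩ : ∃ P₁ : Submodule F V₂, ∀ u, u ∈ P₁ ↔ (x : M₂) *ᵥ u = u :=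
    ⟨LinearMap.ker (Matrix.toLin' ((x : M₂) - 1)), fun u => by simp [sub_mulVec, sub_eq_zero]⟩
  obtain ⟨P₂, hP₂⟩ : ∃ P₂ : Submodule F V₂, ∀ u, u ∈ P₂ ↔ (x : M₂) *ᵥ u = -u :=
    ⟨LinearMap.ker (Matrix.toLin' ((x : M₂) + 1)), fun u => by simp [add_mulVec, add_eq_zero_iff_eq_neg]⟩
  have hdec : ∀ u : V₂, u ∈ P₁ ⊔ P₂ := fun u => by
    have h : u = (2 : F)⁻¹ • (u + (x : M₂) *ᵥ u) + (2 : F)⁻¹ • (u - (x : M₂) *ᵥ u) := by
      rw [← smul_add, show u + (x : M₂) *ᵥ u + (u - (x : M₂) *ᵥ u) = (2 : F) • u by rw [two_smul]; abel,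
        inv_smul_smul₀ h2]
    rw [h]
    refine Submodule.add_mem_sup (Submodule.smul_mem _ _ ((hP₁ _).mpr ?_)) (Submodule.smul_mem _ _ ((hP₂ _).mpr ?_))
    · rw [mulVec_add, hxv, add_comm]
    · rw [mulVec_sub, hxv, neg_sub]
  have hsum : 2 * m ≤ Module.finrank F P₁ + Module.finrank F P₂ := by
    have h := Submodule.finrank_add_le_finrank_add_finrank P₁ P₂
    rw [show P₁ ⊔ P₂ = ⊤ from eq_top_iff.mpr fun u _ => hdec u, finrank_top, Module.finrank_fintype_fun_eq_card,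
      natCard_index] at h
    exact h
  have hne₁ : P₁ ≠ ⊥ := fun h => hxs (-1) (Matrix.ext_of_mulVec_single fun i => by
    have h' := (hP₂ (Pi.single i 1)).mp (by have := hdec (Pi.single i 1); rwa [h, bot_sup_eq] at this)
    rw [h', smul_mulVec, one_mulVec, neg_one_smul])
  have hne₂ : P₂ ≠ ⊥ := fun h => hxs 1 (Matrix.ext_of_mulVec_single fun i => by
    have h' := (hP₁ (Pi.single i 1)).mp (by have := hdec (Pi.single i 1); rwa [h, sup_bot_eq] at this)
    rw [h', smul_mulVec, one_mulVec, one_smul])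
  obtain ⟨a, ha, b, hb, ha0, hb0, hfab⟩ : ∃ a ∈ P₁, ∃ b ∈ P₂, a ≠ 0 ∧ b ≠ 0 ∧ sympForm m F a b = 0 := by
    obtain ⟨a, ha, ha0⟩ := Submodule.exists_mem_ne_zero_of_ne_bot hne₁
    obtain ⟨b, hb, hb0⟩ := Submodule.exists_mem_ne_zero_of_ne_bot hne₂
    by_cases h1 : 2 ≤ Module.finrank F P₁
    · obtain ⟨a', ha', ha'0⟩ := Submodule.exists_mem_ne_zero_of_ne_bot
        (LinearMap.ker_ne_bot_of_finrank_lt
          (f := ((toBilin hf.bilinear).flip b).comp P₁.subtype) (by rw [Module.finrank_self]; omega))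
      exact ⟨a', a'.2, b, hb, fun h => ha'0 (Subtype.ext h), hb0, LinearMap.mem_ker.mp ha'⟩
    · obtain ⟨b', hb', hb'0⟩ := Submodule.exists_mem_ne_zero_of_ne_bot
        (LinearMap.ker_ne_bot_of_finrank_lt
          (f := (toBilin hf.bilinear a).comp P₂.subtype) (by rw [Module.finrank_self]; omega))
      exact ⟨a, ha, b', b'.2, ha0, fun h => hb'0 (Subtype.ext h), LinearMap.mem_ker.mp hb'⟩
  obtain ⟨v, hvdef⟩ : ∃ v : V₂, v = a + b := ⟨_, rfl⟩
  have hxv' : (x : M₂) *ᵥ v = a - b := by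
    rw [hvdef, mulVec_add, (hP₁ a).mp ha, (hP₂ b).mp hb, sub_eq_add_neg]
  have hfv : sympForm m F ((x : M₂) *ᵥ v) v = 0 := by
    rw [hxv', hvdef, sub_left' hf, add_right' hf, add_right' hf, hf.alternating, hf.alternating, hf.skew b a, hfab]
    ring
  have hneig : ∀ c : F, (x : M₂) *ᵥ v ≠ c • v := by
    intro c h
    rw [hxv', hvdef] at h
    have e := congrArg ((x : M₂) *ᵥ ·) h
    simp only [mulVec_sub, mulVec_smul, mulVec_add, (hP₁ a).mp ha, (hP₂ b).mp hb] at e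
    have h1 : ((2 : F) * (1 - c)) • a = 0 := by
      linear_combination (norm := module) h + e
    have h2' : ((2 : F) * (1 + c)) • b = 0 := by
      linear_combination (norm := module) e - h
    have c1 : 1 - c = 0 := ((mul_eq_zero.mp ((smul_eq_zero.mp h1).resolve_right ha0)).resolve_left h2)
    have c2 : 1 + c = 0 := ((mul_eq_zero.mp ((smul_eq_zero.mp h2').resolve_right hb0)).resolve_left h2)
    exact h2 (by linear_combination c1 + c2)
  obtain ⟨t, ht⟩ : ∃ t : GL (Fin m ⊕ Fin m) F, t = sT (sympForm m F) v 1 := ⟨_, rfl⟩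
  obtain ⟨s, hs⟩ : ∃ s : GL (Fin m ⊕ Fin m) F, s = x * t⁻¹ * x⁻¹ := ⟨_, rfl⟩
  have hxinv : x⁻¹ = x := inv_eq_of_mul_eq_one_right hxx
  have hs_apply : ∀ u, (s : M₂) *ᵥ u = u - sympForm m F ((x : M₂) *ᵥ u) v • ((x : M₂) *ᵥ v) := fun u => by
    rw [hs, hxinv, ht, sT_inv hf, CfsgLib.Transvec.mul_mulVec, CfsgLib.Transvec.mul_mulVec, sT_mulVec hf,
      mulVec_add, mulVec_smul, hxv, neg_one_mul, neg_smul, sub_eq_add_neg]
  have hcomm : Commute t s := gl_ext fun u => by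
    rw [CfsgLib.Transvec.mul_mulVec, CfsgLib.Transvec.mul_mulVec, hs_apply, hs_apply, ht, sT_mulVec hf, sT_mulVec hf,
      sub_left' hf, hf.bilinear.smul_left, hfv, mulVec_add, mulVec_smul, hf.bilinear.add_left, hf.bilinear.smul_left,
      hfv]
    module
  have hzR : t * x * t⁻¹ * x⁻¹ ∈ R :=
    R.mul_mem ((Subgroup.mem_normalizer_iff.mp (hle (ht ▸ sT_mem_spGL m v 1)) x).mp hx) (R.inv_mem hx)
  have hpw : ∀ c : F, sT (sympForm m F) v c ^ p = 1 := fun c => by
    have hn : ∀ n : ℕ, sT (sympForm m F) v c ^ n = sT (sympForm m F) v ((n : F) * c) := fun n => by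
      induction n with
      | zero => simp [sT_zero hf]
      | succ n ih => rw [pow_succ, ih, sT_mul hf]; congr 1; push_cast; ring
    rw [hn, CharP.cast_eq_zero, zero_mul, sT_zero hf]
  have hzp : (t * s) ^ p = 1 := by
    rw [hcomm.mul_pow, hs, conj_pow, ht, sT_inv hf, hpw, hpw, mul_one, mul_inv_cancel, one_mul]
  have hzts : t * x * t⁻¹ * x⁻¹ = t * s := by rw [hs]; group
  obtain ⟨j, hj⟩ := hst.pGroup ⟨_, hzR⟩
  have hzk : (t * s) ^ 2 ^ j = 1 := by rw [← hzts]; exact congrArg Subtype.val hj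
  have hz1 : t * s = 1 := by
    rw [← orderOf_eq_one_iff]
    exact Nat.eq_one_of_dvd_coprimes (((Nat.coprime_primes hp Nat.prime_two).mpr hp2).pow_right j)
      (orderOf_dvd_of_pow_eq_one hzp) (orderOf_dvd_of_pow_eq_one hzk)
  have htx : t * x = x * t := by
    rw [← hzts, mul_inv_eq_one, mul_inv_eq_iff_eq_mul] at hz1
    exact hz1
  have hv0 : v ≠ 0 := fun h => hneig 0 (by rw [h, mulVec_zero, zero_smul])
  obtain ⟨w, hw⟩ := (hf.nondegenerate v hv0).1
  have h := congrArg (fun g : GL (Fin m ⊕ Fin m) F => (g : M₂) *ᵥ w) htx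
  simp only [CfsgLib.Transvec.mul_mulVec, ht, sT_mulVec hf, mulVec_add, mulVec_smul, one_mul, add_right_inj] at h
  refine hneig (sympForm m F ((x : M₂) *ᵥ w) v / sympForm m F w v) ?_
  rw [div_eq_inv_mul, mul_smul, h, inv_smul_smul₀ hw]

variable [Fintype F]

/-- No member contains the symplectic group. -/
theorem sp_member_proper (hm : 2 ≤ m) {M : Subgroup (GL (Fin m ⊕ Fin m) F)} (hM : InSymplecticClass m F M) :
    ¬ spGL m F ≤ M := by
  have hf := isSymplecticForm_sympForm (F := F) m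
  have htop : ∀ {F₀ : Subfield F} {r : ℕ}, r.Prime → Fintype.card F = Nat.card F₀ ^ r → F₀ ≠ ⊤ := by
    intro F₀ r hr hcard htop
    rw [htop, Nat.card_congr (Equiv.subtypeUnivEquiv fun x => Subfield.mem_top x), Nat.card_eq_fintype_card] at hcard
    exact hr.one_lt.ne' ((Nat.pow_eq_self_iff Fintype.one_lt_card).mp hcard.symm)
  intro hle
  rcases hM with (⟨W, h0, hts, rfl⟩ | ⟨W, h0, -, hlt, rfl⟩ | ⟨t, k, D, hD, rfl⟩ | ⟨D, -, hD, -, rfl⟩ |
    ⟨F₀, r, P, ζ, hr, hcard, -, -, rfl⟩ | ⟨R, p, k, hst, habs, -, hp, hodd, hcard, hR, -, -, rfl⟩ |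
    ⟨Q, heven, hQ, hpol, rfl⟩) | ⟨r, K, hr, hK, -, -, rfl⟩ | ⟨K, -, hK, -, -, rfl⟩ |
    ⟨n₁, n₂, e, P, f₁, f₂, -, h3, hf₁, -, -, rfl⟩ | ⟨k, t, e, P, f₁, -, -, h3, -, hf₁, -, rfl⟩ <;>
    have hle' := hle.trans inf_le_left
  · refine sp_not_le_subspace h0 (fun h => ?_) hle'
    obtain ⟨v, -, hv0⟩ := Submodule.exists_mem_ne_zero_of_ne_bot h0
    obtain ⟨x, hx⟩ := (hf.nondegenerate v hv0).1
    exact hx (hts x (h ▸ Submodule.mem_top) v (h ▸ Submodule.mem_top))
  · refine sp_not_le_subspace h0 (fun h => ?_) hle'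
    rw [h, finrank_top, Module.finrank_fintype_fun_eq_card, natCard_index] at hlt
    omega
  · exact sp_not_le_decomposition hD.decomp (sp_decomp_two_le hD) hle'
  · exact sp_not_le_decomposition hD hm hle'
  · exact sp_not_le_subfield (by omega) (htop hr hcard) P hle'
  · exact sp_not_le_normalizer hm hp hodd hcard hst habs hR hle'
  · exact sp_not_le_quad hm heven hQ hpol hle'
  · exact sp_not_le_field hm hK hr.one_lt hle'
  · exact sp_not_le_field hm hK (by norm_num) hle'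
  · refine sp_not_le_tensor ?_ (by omega) e P hle'
    by_contra hlt
    have hcard := Fintype.card_congr e
    rw [natCard_index, Fintype.card_prod, Fintype.card_fin, Fintype.card_fin] at hcard
    obtain rfl : n₁ = 1 := by
      rcases Nat.eq_zero_or_pos n₁ with h | h
      · rw [h, zero_mul] at hcard; omega
      · omega
    obtain ⟨x, hx⟩ := (hf₁.nondegenerate (fun _ => 1) (fun h => one_ne_zero (congrFun h 0))).1
    have hxe : x = x 0 • (fun _ : Fin 1 => (1 : F)) := funext fun i => by rw [Fin.fin_one_eq_zero i]; simp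
    exact hx (by rw [hxe, hf₁.bilinear.smul_left, hf₁.alternating, mul_zero])
  · refine sp_not_le_wreath ?_ (by omega) e P hle'
    by_contra hlt
    have hcard := Fintype.card_congr e
    rw [natCard_index, Fintype.card_fun, Fintype.card_fin, Fintype.card_fin] at hcard
    have hk1 : k ≤ 1 := by omega
    have : k ^ t ≤ 1 := pow_le_one' hk1 t
    omega

/-- A maximal subgroup is a member or residual. -/
theorem sp_max_cases (hm : 2 ≤ m) {H : Subgroup (GL (Fin m ⊕ Fin m) F)} (hH : IsMaximalIn (spGL m F) H) :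
    InSpClassD m F H ∨ InSymplecticResidualClass H := by
  rcases sp_cases hH.1.le (by omega) with ⟨M, hM, hle⟩ | h
  · refine Or.inl ?_
    rcases hH.2 (M ⊓ spGL m F) (le_inf hle hH.1.le) inf_le_right with h | h
    · have hMle : M ≤ spGL m F := by
        rcases hM with (⟨_, _, _, rfl⟩ | ⟨_, _, _, _, rfl⟩ | ⟨_, _, _, _, rfl⟩ | ⟨_, _, _, _, rfl⟩ |
          ⟨_, _, _, _, _, _, _, _, rfl⟩ | ⟨_, _, _, _, _, _, _, _, _, _, _, _, _, rfl⟩ | ⟨_, _, _, _, rfl⟩) |
          ⟨_, _, _, _, _, _, rfl⟩ | ⟨_, _, _, _, _, rfl⟩ | ⟨_, _, _, _, _, _, _, _, _, _, _, rfl⟩ |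
          ⟨_, _, _, _, _, _, _, _, _, _, _, rfl⟩ <;> exact inf_le_right
      rw [inf_eq_left.mpr hMle] at h
      exact h ▸ hM
    · exact absurd (inf_eq_right.mp h) (sp_member_proper hm hM.toClass)
  · exact Or.inr h

end CfsgLib.Classical22.Asch
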