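/-
Numerical constraints on the parameters of the symplectic classes.
-/
import Cfsg.Agent.Lib.Classical22.Asch.SpProper
import Cfsg.Agent.Lib.Known.AltEven

set_option autoImplicit false
set_option maxHeartbeats 800000

namespace CfsgLib.Classical22.Asch

open Matrix Cfsg Cfsg.Geo CfsgLib.Techniques.AschPrime CfsgLib.Transvec
open scoped MatrixGroups

variable {m : ℕ} {F : Type*} [Field F]

local notation "V₂" => (Fin m ⊕ Fin m → F)
local notation "M₂" => Matrix (Fin m ⊕ Fin m) (Fin m ⊕ Fin m) F

/-- A subspace invariant under a field of matrices has dimension divisible by the degree. -/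
lemma field_dvd_invariant [Nonempty (Fin m ⊕ Fin m)] {r : ℕ} {K : Subalgebra F M₂} (hK : IsFieldSubalgebra r K)
    {W : Submodule F V₂} (hW : ∀ k ∈ K, ∀ w ∈ W, k *ᵥ w ∈ W) : r ∣ Module.finrank F W := by
  classical
  letI : CommRing K := { (inferInstance : Ring K) with mul_comm := fun a b => Subtype.ext (hK.comm _ a.2 _ b.2) }
  have hfield : IsField K := ⟨⟨0, 1, fun h => zero_ne_one (α := M₂) (congrArg Subtype.val h)⟩, mul_comm,
    fun {a} ha => by
      obtain ⟨y, hy, hay⟩ := hK.inv a a.2 fun h => ha (Subtype.ext h)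
      exact ⟨⟨y, hy⟩, Subtype.ext hay⟩⟩
  let act : K →+* Module.End F W :=
    { toFun := fun k => (Matrix.toLin' (k : M₂)).restrict fun w hw => by rw [Matrix.toLin'_apply]; exact hW k k.2 w hw
      map_one' := LinearMap.ext fun w => Subtype.ext (by simp)
      map_mul' := fun a b => LinearMap.ext fun w => Subtype.ext (by simp [mulVec_mulVec])
      map_zero' := LinearMap.ext fun w => Subtype.ext (by simp)
      map_add' := fun a b => LinearMap.ext fun w => Subtype.ext (by simp [add_mulVec]) }
  letI : Module K W := Module.compHom _ act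
  have hsmul : ∀ (k : K) (v : W), ((k • v : W) : V₂) = (k : M₂) *ᵥ (v : V₂) := fun k v => by
    change ((act k v : W) : V₂) = _
    simp [act, Matrix.toLin'_apply]
  have ht : IsScalarTower F K W := ⟨fun c k v => Subtype.ext (by
    rw [hsmul, Submodule.coe_smul, hsmul]
    exact smul_mulVec c (k : M₂) (v : V₂))⟩
  haveI : Module.Free K W := by
    letI := hfield.toField
    exact Module.Free.of_divisionRing _ _
  haveI : StrongRankCondition K := by
    letI := hfield.toField
    exact inferInstance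
  have hmul := @Module.finrank_mul_finrank F K W _ _ _ _ _ _ ht _ _ _ _
  rw [hK.finrank_eq] at hmul
  exact ⟨_, hmul.symm⟩

/-- For a field of matrices with totally singular lines the degree divides half the dimension. -/
theorem field_dvd_half [Fintype F] (hm : 0 < m) {r : ℕ} {K : Subalgebra F M₂} (hK : IsFieldSubalgebra r K)
    (hsa : IsSelfAdjointFor (sympForm m F) K) (halt : ∀ k ∈ K, ∀ v, sympForm m F (k *ᵥ v) v = 0) : r ∣ m := by
  classical
  haveI : Nonempty (Fin m ⊕ Fin m) := ⟨Sum.inl ⟨0, hm⟩⟩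
  have hf := isSymplecticForm_sympForm (F := F) m
  obtain ⟨W, ⟨hWts, hWK⟩, hmax⟩ := Set.exists_max_image
    {W : Submodule F V₂ | IsTotallySingularFor (sympForm m F) W ∧ ∀ k ∈ K, ∀ w ∈ W, k *ᵥ w ∈ W}
    (fun W => Module.finrank F W) (Set.toFinite _) ⟨⊥, fun u hu v _ => by
      rw [(Submodule.mem_bot F).mp hu]; exact zero_left' hf v, fun k _ w hw => by
      rw [(Submodule.mem_bot F).mp hw, mulVec_zero]; exact Submodule.zero_mem _⟩
  have hperp : perp hf W ≤ W := by
    intro x hx
    rw [mem_perp_iff hf] at hx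
    by_contra hxW
    obtain ⟨U, hU⟩ : ∃ U : Submodule F V₂,
        U = W ⊔ (Subalgebra.toSubmodule K).map (((Matrix.mulVecBilin F F) : M₂ →ₗ[F] V₂ →ₗ[F] V₂).flip x) := ⟨_, rfl⟩
    have hmemU : ∀ u, u ∈ U ↔ ∃ w ∈ W, ∃ k ∈ K, w + k *ᵥ x = u := fun u => by
      rw [hU, Submodule.mem_sup]
      constructor
      · rintro ⟨w, hw, _, ⟨k, hk, rfl⟩, rfl⟩
        exact ⟨w, hw, k, hk, rfl⟩
      · rintro ⟨w, hw, k, hk, rfl⟩
        exact ⟨w, hw, _, ⟨k, hk, rfl⟩, rfl⟩
    have hcross : ∀ w ∈ W, ∀ k ∈ K, sympForm m F w (k *ᵥ x) = 0 := fun w hw k hk => by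
      rw [← hsa k hk, hf.skew, hx _ (hWK k hk w hw), neg_zero]
    have hWlt : W < U := by
      refine lt_of_le_of_ne (hU ▸ le_sup_left) fun h => hxW ?_
      rw [h]
      exact (hmemU x).mpr ⟨0, W.zero_mem, 1, K.one_mem, by rw [one_mulVec, zero_add]⟩
    have := hmax U ⟨fun u hu v hv => by
      obtain ⟨w, hw, k, hk, rfl⟩ := (hmemU u).mp hu
      obtain ⟨w', hw', k', hk', rfl⟩ := (hmemU v).mp hv
      rw [add_left' hf, add_right' hf, add_right' hf, hWts w hw w' hw', hcross w hw k' hk',
        hf.skew (k *ᵥ x) w', hcross w' hw' k hk, hsa k hk, mulVec_mulVec, hf.skew,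
        halt _ (K.mul_mem hk hk') x]
      ring, fun k hk u hu => by
      obtain ⟨w, hw, k', hk', rfl⟩ := (hmemU u).mp hu
      exact (hmemU _).mpr ⟨k *ᵥ w, hWK k hk w hw, k * k', K.mul_mem hk hk', by rw [mulVec_add, mulVec_mulVec]⟩⟩
    have := Submodule.finrank_lt_finrank_of_lt hWlt
    omega
  have h1 := finrank_le_of_singular hWts
  have h2 := Submodule.finrank_mono hperp
  rw [finrank_perp, natCard_index] at h2
  have := field_dvd_invariant hK hWK
  rwa [show Module.finrank F W = m by omega] at this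

/-- A non-degenerate subspace has even dimension. -/
lemma even_of_nondegenerate {W : Submodule F V₂} (hW : IsNondegenerateOn (sympForm m F) W) :
    Even (Module.finrank F W) := by
  have hf := isSymplecticForm_sympForm (F := F) m
  refine CfsgLib.Known.even_finrank_of_alt_nondeg (K := F) _ (V := W) rfl
    ((toBilin hf.bilinear).compl₁₂ W.subtype W.subtype) (fun x => hf.alternating _) fun x hx => ?_
  by_contra h0
  obtain ⟨y, hy, hxy⟩ := (hW x x.2 fun h => h0 (Subtype.ext h)).2
  exact hxy (hx ⟨y, hy⟩)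

/-- The parameters of a non-degenerate decomposition. -/
theorem decomp_params {t k : ℕ} {D : Fin t → Submodule F V₂}
    (hD : IsNondegenerateMDecomposition (sympForm m F) k D) : Even k ∧ t * k = 2 * m ∧ 2 ≤ t ∧ 2 ≤ k := by
  have h2 := hD.decomp.two_le
  refine ⟨?_, ?_, h2, sp_decomp_two_le hD⟩
  · rw [← hD.decomp.finrank_eq ⟨0, by omega⟩]
    exact even_of_nondegenerate (hD.nondegenerate _)
  · have h := finrank_iSup_eq_sum D hD.decomp.indep hD.decomp.iSup_eq_top
    rw [natCard_index] at h
    simpa [hD.decomp.finrank_eq] using h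

/-- The parameters of a tensor decomposition. -/
theorem tensor_params {n₁ n₂ : ℕ} (e : (Fin m ⊕ Fin m) ≃ Fin n₁ × Fin n₂) {f₁ : (Fin n₁ → F) → (Fin n₁ → F) → F}
    (hf₁ : IsSymplecticForm f₁) : Even n₁ ∧ n₁ * n₂ = 2 * m := by
  refine ⟨?_, ?_⟩
  · refine CfsgLib.Known.even_finrank_of_alt_nondeg (K := F) n₁ (V := Fin n₁ → F)
      (by rw [Module.finrank_pi, Fintype.card_fin]) (toBilin hf₁.bilinear) hf₁.alternating fun x hx => ?_
    by_contra h0
    obtain ⟨y, hy⟩ := (hf₁.nondegenerate x h0).2
    exact hy (hx y)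
  · have := Fintype.card_congr e
    rw [natCard_index, Fintype.card_prod, Fintype.card_fin, Fintype.card_fin] at this
    exact this.symm

/-- The parameters of a tensor power. -/
theorem wreath_params {k t : ℕ} (e : (Fin m ⊕ Fin m) ≃ (Fin t → Fin k)) : k ^ t = 2 * m := by
  have := Fintype.card_congr e
  rw [natCard_index, Fintype.card_fun, Fintype.card_fin, Fintype.card_fin] at this
  exact this.symm

variable [Fintype F]

/-- A maximal subgroup equals any member containing it. -/
theorem sp_max_eq (hm : 2 ≤ m) {H : Subgroup (GL (Fin m ⊕ Fin m) F)} (hH : IsMaximalIn (spGL m F) H)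
    {M : Subgroup (GL (Fin m ⊕ Fin m) F)} (hM : InSymplecticClass m F (M ⊓ spGL m F)) (hle : H ≤ M) :
    H = M ⊓ spGL m F := by
  rcases hH.2 _ (le_inf hle hH.1.le) inf_le_right with h | h
  · exact h.symm
  · exact absurd h.ge (sp_member_proper hm hM)

end CfsgLib.Classical22.Asch
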