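/-
An absolutely irreducible group of isometries whose squares and commutators are signs is of symplectic type and minus
type, so its normaliser is a member of class six.
-/
import Cfsg.Agent.Lib.Classical22.Asch.SpClassTwo

set_option autoImplicit false
set_option maxHeartbeats 800000

namespace CfsgLib.Classical22.Asch

open Matrix Cfsg Cfsg.Geo CfsgLib.Techniques.AschPrime CfsgLib.Transvec
open scoped MatrixGroups commutatorElement

variable {m : ℕ} {F : Type*} [Field F] [Fintype F] {R : Subgroup (GL (Fin m ⊕ Fin m) F)}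

local notation "GL₂" => GL (Fin m ⊕ Fin m) F
local notation "M₂" => Matrix (Fin m ⊕ Fin m) (Fin m ⊕ Fin m) F
local notation "Sc" => scalars (Fin m ⊕ Fin m) F

/-- Squares and commutators are scalar and the group is an absolutely irreducible group of isometries. -/
structure SignGroup (R : Subgroup (GL (Fin m ⊕ Fin m) F)) : Prop where
  le : R ≤ spGL m F
  abs : AbsIrr R
  sq : ∀ x ∈ R, x * x ∈ scalars (Fin m ⊕ Fin m) F
  comm : ∀ x ∈ R, ∀ y ∈ R, ⁅x, y⁆ ∈ scalars (Fin m ⊕ Fin m) F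
  two_le : 2 ≤ m
  two_ne : (2 : F) ≠ 0

namespace SignGroup

variable (hR : SignGroup R)
include hR

lemma nonemptyIdx : Nonempty (Fin m ⊕ Fin m) := ⟨Sum.inl ⟨0, by have := hR.two_le; omega⟩⟩

lemma sign {x : GL₂} (hx : x ∈ R) (hs : x ∈ Sc) : (x : M₂) = 1 ∨ (x : M₂) = -1 := by
  obtain ⟨c, hc⟩ := (Cfsg.Geo.mem_scalars_iff x).mp hs
  rcases mul_self_eq_one_iff.mp (sp_scalar_sq (by have := hR.two_le; omega) (hR.le hx) hc) with h | h
  · exact Or.inl (by rw [hc, h, one_smul])
  · exact Or.inr (by rw [hc, h, neg_one_smul])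

lemma scalar_of {x : GL₂} {c : F} (h : (x : M₂) = c • 1) : x ∈ Sc := by
  haveI := hR.nonemptyIdx
  exact mem_scalars_of_eq_smul h

/-- Any two elements commute or anticommute. -/
lemma pair {x y : GL₂} (hx : x ∈ R) (hy : y ∈ R) :
    (y : M₂) * (x : M₂) = (x : M₂) * (y : M₂) ∨ (y : M₂) * (x : M₂) = -((x : M₂) * (y : M₂)) := by
  have hmem : ⁅y, x⁆ ∈ R := R.mul_mem (R.mul_mem (R.mul_mem hy hx) (R.inv_mem hy)) (R.inv_mem hx)
  have e : ((y * x : GL₂) : M₂) = ((⁅y, x⁆ : GL₂) : M₂) * ((x * y : GL₂) : M₂) := by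
    rw [← Units.val_mul]
    congr 1
    rw [commutatorElement_def]; group
  rcases hR.sign hmem (hR.comm y hy x hx) with h | h <;> rw [h] at e <;>
    simp only [Units.val_mul, one_mul, neg_one_mul] at e
  · exact Or.inl e
  · exact Or.inr e

lemma partner {x : GL₂} (hx : x ∈ R) (hns : x ∉ Sc) :
    ∃ y ∈ R, (y : M₂) * (x : M₂) = -((x : M₂) * (y : M₂)) := by
  haveI := hR.nonemptyIdx
  by_contra h
  push Not at h
  refine hns (hR.abs.mem_scalars fun y hy => Units.ext ?_)
  rw [Units.val_mul, Units.val_mul]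
  exact ((hR.pair hx hy).resolve_right (h y hy)).symm

lemma anti_not_scalar {x y : GL₂} (h : (y : M₂) * (x : M₂) = -((x : M₂) * (y : M₂))) : x ∉ Sc := by
  haveI := hR.nonemptyIdx
  intro hs
  have hcm := congrArg (fun g : GL₂ => (g : M₂)) (scalars_comm hs y)
  simp only [Units.val_mul] at hcm
  rw [← hcm] at h
  have h2 : (2 : F) • ((x : M₂) * (y : M₂)) = 0 := by
    rw [two_smul]
    nth_rewrite 1 [h]
    exact neg_add_cancel _
  exact (x.isUnit.mul y.isUnit).ne_zero ((smul_eq_zero.mp h2).resolve_left hR.two_ne)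

lemma exists_ns : ∃ x ∈ R, x ∉ Sc := by
  by_contra h
  push Not at h
  exact Aschbacher.not_le_scalars_of_irr hR.abs.1 (by rw [natCard_index]; have := hR.two_le; omega) h

lemma neg_mem : ∃ z ∈ R, (z : M₂) = -1 := by
  obtain ⟨x, hx, hxs⟩ := hR.exists_ns
  obtain ⟨y, hy, hyx⟩ := hR.partner hx hxs
  refine ⟨⁅y, x⁆, R.mul_mem (R.mul_mem (R.mul_mem hy hx) (R.inv_mem hy)) (R.inv_mem hx), ?_⟩
  rw [commutatorElement_def, mul_assoc, ← _root_.mul_inv_rev, Units.val_mul, Units.val_mul, hyx, neg_mul,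
    ← Units.val_mul, ← Units.val_mul, mul_inv_cancel, Units.val_one]

lemma mul_neg_mem {x : GL₂} (hx : x ∈ R) : ∃ z ∈ R, (z : M₂) = -(x : M₂) := by
  obtain ⟨n, hn, hn1⟩ := hR.neg_mem
  exact ⟨n * x, R.mul_mem hn hx, by rw [Units.val_mul, hn1, neg_one_mul]⟩

lemma sq_sign {x : GL₂} (hx : x ∈ R) : ∃ e : F, e * e = 1 ∧ (x : M₂) * (x : M₂) = e • 1 := by
  rcases hR.sign (R.mul_mem hx hx) (hR.sq x hx) with h | h <;> rw [Units.val_mul] at h
  · exact ⟨1, one_mul _, by rw [h, one_smul]⟩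
  · exact ⟨-1, by ring, by rw [h, neg_one_smul]⟩

/-- An anticommuting partner with the same square. -/
lemma same_square {x : GL₂} (hx : x ∈ R) (hns : x ∉ Sc) :
    ∃ y ∈ R, (y : M₂) * (x : M₂) = -((x : M₂) * (y : M₂)) ∧ (y : M₂) * (y : M₂) = (x : M₂) * (x : M₂) := by
  haveI := hR.nonemptyIdx
  classical
  obtain ⟨y, hy, hyx⟩ := hR.partner hx hns
  by_contra hno
  push Not at hno
  have hsq : ∀ z ∈ R, (z : M₂) * (z : M₂) = 1 ∨ (z : M₂) * (z : M₂) = -1 := fun z hz => by
    rw [← Units.val_mul]; exact hR.sign (R.mul_mem hz hz) (hR.sq z hz)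
  -- squares of anticommuting products
  have hprod : ∀ {u v : GL₂}, (v : M₂) * (u : M₂) = -((u : M₂) * (v : M₂)) →
      (u : M₂) * (v : M₂) * ((u : M₂) * (v : M₂)) = -((u : M₂) * (u : M₂) * ((v : M₂) * (v : M₂))) := fun {u v} h => by
    rw [mul_assoc, ← mul_assoc (v : M₂), h, neg_mul, mul_neg]
    simp only [mul_assoc]
  have hanti : ∀ {v : GL₂}, v ∈ R → (v : M₂) * (x : M₂) = -((x : M₂) * (v : M₂)) →
      ((x * v : GL₂) : M₂) * (x : M₂) = -((x : M₂) * ((x * v : GL₂) : M₂)) := fun {v} _ h => by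
    rw [Units.val_mul, mul_assoc, h, mul_neg]
  rcases hsq x hx with hx1 | hx1
  · -- an involution: either the partner or its product works
    rcases hsq y hy with hy1 | hy1
    · exact hno y hy hyx (hy1.trans hx1.symm)
    · refine hno (x * y) (R.mul_mem hx hy) (hanti hy hyx) ?_
      rw [Units.val_mul, hprod hyx, hx1, hy1, one_mul, neg_neg]
  rcases hsq y hy with hy1 | hy1
  swap
  · exact hno y hy hyx (hy1.trans hx1.symm)
  -- commutation rules for products
  have aa : ∀ {u v w : GL₂}, (u : M₂) * (w : M₂) = -((w : M₂) * (u : M₂)) → (v : M₂) * (w : M₂) = -((w : M₂) * (v : M₂)) →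
      ((u * v : GL₂) : M₂) * (w : M₂) = (w : M₂) * ((u * v : GL₂) : M₂) := fun {u v w} hu hv => by
    rw [Units.val_mul, mul_assoc, hv, mul_neg, ← mul_assoc, hu, neg_mul, neg_neg, mul_assoc]
  have cc : ∀ {u v w : GL₂}, (u : M₂) * (w : M₂) = (w : M₂) * (u : M₂) → (v : M₂) * (w : M₂) = (w : M₂) * (v : M₂) →
      ((u * v : GL₂) : M₂) * (w : M₂) = (w : M₂) * ((u * v : GL₂) : M₂) := fun {u v w} hu hv => by
    rw [Units.val_mul, mul_assoc, hv, ← mul_assoc, hu, mul_assoc]
  have hxy : (x : M₂) * (y : M₂) = -((y : M₂) * (x : M₂)) := by rw [hyx, neg_neg]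
  have hxyx : ((x * y : GL₂) : M₂) * (x : M₂) = -((x : M₂) * ((x * y : GL₂) : M₂)) := hanti hy hyx
  have hxyy : ((x * y : GL₂) : M₂) * (y : M₂) = -((y : M₂) * ((x * y : GL₂) : M₂)) := by
    rw [Units.val_mul, ← mul_assoc, hyx, neg_mul, neg_neg]
  -- the centraliser of the pair consists of commuting involutions
  have hone : ∀ z ∈ R, (z : M₂) * (x : M₂) = (x : M₂) * (z : M₂) → (z : M₂) * (y : M₂) = (y : M₂) * (z : M₂) →
      (z : M₂) * (z : M₂) = 1 := by
    intro z hz hzx hzy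
    rcases hsq z hz with h | h
    · exact h
    exfalso
    refine hno (y * z) (R.mul_mem hy hz) ?_ ?_
    · rw [Units.val_mul, mul_assoc, hzx, ← mul_assoc, hyx, neg_mul, mul_assoc]
    · rw [Units.val_mul, mul_assoc, ← mul_assoc (z : M₂), hzy, mul_assoc, h, mul_neg_one, mul_neg, hy1, hx1]
  have hscal : ∀ z ∈ R, (z : M₂) * (x : M₂) = (x : M₂) * (z : M₂) → (z : M₂) * (y : M₂) = (y : M₂) * (z : M₂) →
      z ∈ Sc := by
    intro z hz hzx hzy
    refine hR.abs.mem_scalars fun r hr => Units.ext ?_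
    rw [Units.val_mul, Units.val_mul]
    have hzc : ∀ w ∈ R, (w : M₂) * (x : M₂) = (x : M₂) * (w : M₂) → (w : M₂) * (y : M₂) = (y : M₂) * (w : M₂) →
        (z : M₂) * (w : M₂) = (w : M₂) * (z : M₂) := by
      intro w hw hwx hwy
      rcases hR.pair hz hw with h | h
      · exact h.symm
      · exfalso
        have e := hone (z * w) (R.mul_mem hz hw) (by rw [Units.val_mul, mul_assoc, hwx, ← mul_assoc, hzx, mul_assoc])
          (by rw [Units.val_mul, mul_assoc, hwy, ← mul_assoc, hzy, mul_assoc])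
        rw [Units.val_mul, hprod h, hone z hz hzx hzy, hone w hw hwx hwy, one_mul] at e
        have h' : (2 : F) • (1 : M₂) = 0 := by
          rw [two_smul]
          nth_rewrite 1 [← e]
          exact neg_add_cancel _
        exact one_ne_zero ((smul_eq_zero.mp h').resolve_left hR.two_ne)
    rcases hR.pair hx hr with h1 | h1 <;> rcases hR.pair hy hr with h2 | h2
    · exact hzc r hr h1 h2
    · -- multiply by x
      have e := hzc (x * r) (R.mul_mem hx hr) (cc rfl h1) (aa hxy h2)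
      rw [Units.val_mul, ← mul_assoc, hzx, mul_assoc, mul_assoc] at e
      exact x.isUnit.mul_left_cancel e
    · -- multiply by y
      have e := hzc (y * r) (R.mul_mem hy hr) (aa hyx h1) (cc rfl h2)
      rw [Units.val_mul, ← mul_assoc, hzy, mul_assoc, mul_assoc] at e
      exact y.isUnit.mul_left_cancel e
    · -- multiply by the product
      have e := hzc (x * y * r) (R.mul_mem (R.mul_mem hx hy) hr) (aa hxyx h1) (aa hxyy h2)
      have hzxy : (z : M₂) * ((x : M₂) * (y : M₂)) = (x : M₂) * (y : M₂) * (z : M₂) := by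
        rw [← mul_assoc, hzx, mul_assoc, hzy, mul_assoc]
      rw [Units.val_mul, Units.val_mul, ← mul_assoc, hzxy, mul_assoc _ (z : M₂), mul_assoc _ (r : M₂)] at e
      exact (x.isUnit.mul y.isUnit).mul_left_cancel e
  -- so the group spans four dimensions
  obtain ⟨S, hS⟩ : ∃ S : Submodule F M₂, S = Submodule.span F ({1, (x : M₂), (y : M₂), (x : M₂) * (y : M₂)} : Set M₂) :=
    ⟨_, rfl⟩
  have hmem : ∀ z ∈ R, (z : M₂) ∈ S := by
    intro z hz
    obtain ⟨u, hu, huS, hzu1, hzu2⟩ : ∃ u ∈ R, (u : M₂) ∈ ({1, (x : M₂), (y : M₂), (x : M₂) * (y : M₂)} : Set M₂) ∧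
        ((u * z : GL₂) : M₂) * (x : M₂) = (x : M₂) * ((u * z : GL₂) : M₂) ∧
        ((u * z : GL₂) : M₂) * (y : M₂) = (y : M₂) * ((u * z : GL₂) : M₂) := by
      rcases hR.pair hx hz with h1 | h1 <;> rcases hR.pair hy hz with h2 | h2
      · exact ⟨1, R.one_mem, by simp, by rw [one_mul]; exact h1, by rw [one_mul]; exact h2⟩
      · exact ⟨x, hx, by simp, cc rfl h1, aa hxy h2⟩
      · exact ⟨y, hy, by simp, aa hyx h1, cc rfl h2⟩
      · exact ⟨x * y, R.mul_mem hx hy, by simp, aa hxyx h1, aa hxyy h2⟩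
    obtain ⟨c, hc⟩ := (Cfsg.Geo.mem_scalars_iff _).mp (hscal (u * z) (R.mul_mem hu hz) hzu1 hzu2)
    obtain ⟨e, he, hue⟩ := hR.sq_sign hu
    have hz' := congrArg ((u : M₂) * ·) hc
    simp only [Units.val_mul, ← mul_assoc, hue, smul_mul_assoc, one_mul, mul_smul_comm, mul_one] at hz'
    have h' := congrArg (e • ·) hz'
    simp only [smul_smul, he, one_smul] at h'
    rw [h', hS]
    exact Submodule.smul_mem _ _ (Submodule.subset_span huS)
  have hfull : Subalgebra.toSubmodule (Aschbacher.alg R) ≤ S := by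
    rw [Aschbacher.alg_toSubmodule, Submodule.span_le]
    rintro _ ⟨z, hz, rfl⟩
    exact hmem z hz
  rw [show Aschbacher.alg R = ⊤ from full_of_absIrr hR.abs, Algebra.top_toSubmodule] at hfull
  have h := Submodule.finrank_mono hfull
  have hS4 : Module.finrank F S ≤ 4 := by
    rw [hS]
    have h := finrank_span_finset_le_card (R := F) ({1, (x : M₂), (y : M₂), (x : M₂) * (y : M₂)} : Finset M₂)
    rw [Finset.coe_insert, Finset.coe_insert, Finset.coe_insert, Finset.coe_singleton, Set.finrank] at h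
    exact h.trans Finset.card_le_four
  rw [finrank_top, Module.finrank_matrix, natCard_index, Module.finrank_self, mul_one] at h
  have := hR.two_le
  nlinarith

/-- A non-scalar element has a non-commuting image under an automorphism of the group. -/
lemma exists_aut {x : GL₂} (hx : x ∈ R) (hns : x ∉ Sc) :
    ∃ θ : MulAut R, ((θ ⟨x, hx⟩ : R) : GL₂) * x ≠ x * ((θ ⟨x, hx⟩ : R) : GL₂) := by
  haveI := hR.nonemptyIdx
  obtain ⟨y, hy, hyx, hyy⟩ := hR.same_square hx hns
  obtain ⟨e, he, hxe⟩ := hR.sq_sign hx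
  rw [hxe] at hyy
  have he2 : e + e ≠ 0 := by
    rw [← two_mul]
    exact mul_ne_zero hR.two_ne fun h => by rw [h, mul_zero] at he; exact zero_ne_one he
  obtain ⟨M, hM⟩ : ∃ M : M₂, M = (x : M₂) + (y : M₂) := ⟨_, rfl⟩
  have hMM : M * M = (e + e) • (1 : M₂) := by
    rw [hM, add_mul, mul_add, mul_add, hxe, hyy, hyx, add_smul]
    abel
  have hg1 : M * ((e + e)⁻¹ • M) = 1 := by rw [mul_smul_comm, hMM, inv_smul_smul₀ he2]
  have hg2 : ((e + e)⁻¹ • M) * M = 1 := by rw [smul_mul_assoc, hMM, inv_smul_smul₀ he2]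
  obtain ⟨g, hg⟩ : ∃ g : GL₂, g = ⟨M, (e + e)⁻¹ • M, hg1, hg2⟩ := ⟨_, rfl⟩
  have hgv : ∀ z : GL₂, ((g * z * g⁻¹ : GL₂) : M₂) = (e + e)⁻¹ • (M * (z : M₂) * M) := fun z => by
    rw [Units.val_mul, Units.val_mul, hg]
    exact mul_smul_comm _ _ _
  have hgg : ∀ z : GL₂, g * (g * z * g⁻¹) * g⁻¹ = z := fun z => Units.ext (by
    rw [hgv, hgv, mul_smul_comm, smul_mul_assoc, ← mul_assoc, ← mul_assoc, hMM, mul_assoc, hMM, smul_mul_assoc, one_mul,
      mul_smul_comm, mul_one, smul_smul, smul_smul, smul_smul]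
    convert one_smul F (z : M₂) using 2
    field_simp
    exact div_self (by rwa [mul_add, mul_one]))
  have hmaps : ∀ z ∈ R, g * z * g⁻¹ ∈ R := by
    intro z hz
    obtain ⟨n, hn, hn1⟩ := hR.neg_mem
    have key : ∃ w ∈ R, M * (z : M₂) * M = (e + e) • (w : M₂) := by
      have hxy' : (x : M₂) * (y : M₂) = -((y : M₂) * (x : M₂)) := by rw [hyx, neg_neg]
      have eyy : (y : M₂) * ((x : M₂) * (y : M₂)) = -(e • (x : M₂)) := by
        rw [← mul_assoc, hyx, neg_mul, mul_assoc, hyy, mul_smul_comm, mul_one]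
      rcases hR.pair hx hz with h1 | h1 <;> rcases hR.pair hy hz with h2 | h2
      · -- commutes with both
        refine ⟨z, hz, ?_⟩
        rw [show M * (z : M₂) = (z : M₂) * M by rw [hM, add_mul, mul_add, h1, h2], mul_assoc, hMM, mul_smul_comm,
          mul_one]
      · obtain ⟨w, hw, hw'⟩ : ∃ w ∈ R, (e + e) • (w : M₂) = (z : M₂) * ((x : M₂) * (y : M₂) + (x : M₂) * (y : M₂)) := by
          rcases mul_self_eq_one_iff.mp he with h | h
          · exact ⟨z * (x * y), R.mul_mem hz (R.mul_mem hx hy), by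
              rw [h, add_smul, one_smul, Units.val_mul, Units.val_mul, mul_add]⟩
          · exact ⟨n * (z * (x * y)), R.mul_mem hn (R.mul_mem hz (R.mul_mem hx hy)), by
              rw [h, add_smul, neg_one_smul, Units.val_mul, hn1, Units.val_mul, Units.val_mul, neg_one_mul, neg_neg,
                mul_add]⟩
        refine ⟨w, hw, ?_⟩
        rw [hw', show M * (z : M₂) = (z : M₂) * ((x : M₂) - (y : M₂)) by
          rw [hM, add_mul, mul_sub, h1, h2, sub_neg_eq_add], mul_assoc]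
        congr 1
        rw [hM, sub_mul, mul_add, mul_add, hxe, hyy, hyx]
        abel
      · obtain ⟨w, hw, hw'⟩ : ∃ w ∈ R, (e + e) • (w : M₂) = (z : M₂) * ((y : M₂) * (x : M₂) + (y : M₂) * (x : M₂)) := by
          rcases mul_self_eq_one_iff.mp he with h | h
          · exact ⟨z * (y * x), R.mul_mem hz (R.mul_mem hy hx), by
              rw [h, add_smul, one_smul, Units.val_mul, Units.val_mul, mul_add]⟩
          · exact ⟨n * (z * (y * x)), R.mul_mem hn (R.mul_mem hz (R.mul_mem hy hx)), by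
              rw [h, add_smul, neg_one_smul, Units.val_mul, hn1, Units.val_mul, Units.val_mul, neg_one_mul, neg_neg,
                mul_add]⟩
        refine ⟨w, hw, ?_⟩
        rw [hw', show M * (z : M₂) = (z : M₂) * ((y : M₂) - (x : M₂)) by
          rw [hM, add_mul, mul_sub, h1, h2]; abel, mul_assoc]
        congr 1
        rw [hM, sub_mul, mul_add, mul_add, hxe, hyy, hxy']
        abel
      · refine ⟨n * z, R.mul_mem hn hz, ?_⟩
        rw [show M * (z : M₂) = -((z : M₂) * M) by rw [hM, add_mul, mul_add, h1, h2]; abel, neg_mul, mul_assoc, hMM,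
          mul_smul_comm, mul_one, Units.val_mul, hn1, neg_one_mul, smul_neg]
    obtain ⟨w, hw, hw'⟩ := key
    have : g * z * g⁻¹ = w := Units.ext (by rw [hgv, hw', inv_smul_smul₀ he2])
    rw [this]
    exact hw
  let θ : MulAut R :=
    { toFun := fun z => ⟨g * z * g⁻¹, hmaps z z.2⟩
      invFun := fun z => ⟨g * z * g⁻¹, hmaps z z.2⟩
      left_inv := fun z => Subtype.ext (hgg z)
      right_inv := fun z => Subtype.ext (hgg z)
      map_mul' := fun z w => Subtype.ext (by simp [mul_assoc]) }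
  refine ⟨θ, fun hc => hR.anti_not_scalar hyx ?_⟩
  have hθ : (g * x * g⁻¹ : GL₂) = y := Units.ext (by
    rw [hgv, show M * (x : M₂) = (y : M₂) * M by rw [hM, add_mul, mul_add, hxe, hyy]; abel, mul_assoc, hMM,
      mul_smul_comm, mul_one, inv_smul_smul₀ he2])
  change g * x * g⁻¹ * x = x * (g * x * g⁻¹) at hc
  rw [hθ] at hc
  have h1 := congrArg (fun u : GL₂ => (u : M₂)) hc
  simp only [Units.val_mul] at h1
  rw [hyx] at h1
  exfalso
  have h2 : (2 : F) • ((x : M₂) * (y : M₂)) = 0 := by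
    rw [two_smul]
    nth_rewrite 1 [← h1]
    exact neg_add_cancel _
  exact (x.isUnit.mul y.isUnit).ne_zero ((smul_eq_zero.mp h2).resolve_left hR.two_ne)

end SignGroup

/-- The data of a class six member. -/
theorem sign_group_c6 (hR : SignGroup R) : ∃ k, 2 * m = 2 ^ k ∧ IsSymplecticTypeGroup 2 R ∧
    Nat.card R = 2 ^ (1 + 2 * k) ∧ Nat.card (Subgroup.center R) = 2 ∧ IsOfMinusType k R := by
  classical
  haveI := hR.nonemptyIdx
  haveI : Finite GL₂ := inferInstance
  have h2 := hR.two_ne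
  obtain ⟨n, hn, hn1⟩ := hR.neg_mem
  have hne1 : n ≠ 1 := fun h => by
    have h' : (2 : F) • (1 : M₂) = 0 := by
      rw [two_smul]
      nth_rewrite 1 [show (1 : M₂) = -1 by rw [← hn1, h, Units.val_one]]
      exact neg_add_cancel _
    exact one_ne_zero ((smul_eq_zero.mp h').resolve_left h2)
  have hsgn : ∀ x ∈ R, x ∈ Sc → x = 1 ∨ x = n := fun x hx hs =>
    (hR.sign hx hs).imp (fun h => Units.ext (h.trans Units.val_one.symm)) fun h => Units.ext (h.trans hn1.symm)
  have hns : n ∈ Sc := hR.scalar_of (c := -1) (by rw [hn1, neg_one_smul])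
  obtain ⟨Z, hZ⟩ : ∃ Z : Subgroup R, Z = (scalars (Fin m ⊕ Fin m) F).subgroupOf R := ⟨_, rfl⟩
  have hZmem : ∀ x : R, x ∈ Z ↔ (x : GL₂) ∈ Sc := fun x => by rw [hZ]; exact Subgroup.mem_subgroupOf
  have hcenter : Subgroup.center R = Z := by
    ext x
    rw [hZmem]
    exact ⟨fun hx => hR.abs.mem_scalars fun y hy => (congrArg Subtype.val (Subgroup.mem_center_iff.mp hx ⟨y, hy⟩)).symm,
      fun hx => Subgroup.mem_center_iff.mpr fun y => Subtype.ext (scalars_comm hx y).symm⟩
  have hZcard : Nat.card Z = 2 := by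
    rw [Nat.card_eq_two_iff' (⟨1, Z.one_mem⟩ : Z)]
    refine ⟨⟨⟨n, hn⟩, (hZmem _).mpr hns⟩, fun h => hne1 (congrArg (fun u : Z => ((u : R) : GL₂)) h), fun u hu => ?_⟩
    rcases hsgn _ (u : R).2 ((hZmem _).mp u.2) with h | h
    · exact absurd (Subtype.ext (Subtype.ext h)) hu
    · exact Subtype.ext (Subtype.ext h)
  have htr : ∀ x ∈ R, x ∉ Sc → Matrix.trace (x : M₂) = 0 := by
    intro x hx hxs
    obtain ⟨y, hy, hyx⟩ := hR.partner hx hxs
    refine Aschbacher.trace_eq_zero_of_conj (y := y) (c := (-1 : F)) (fun h => h2 (by linear_combination -h)) ?_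
    rw [Units.val_mul, Units.val_mul, hyx, neg_mul, mul_assoc, Units.mul_inv, mul_one, neg_one_smul]
  have hfull : Aschbacher.alg R = ⊤ := full_of_absIrr hR.abs
  have hnF : ((2 * m : ℕ) : F) ≠ 0 := by
    intro h0
    have key : ∀ X : M₂, X ∈ Aschbacher.alg R → Matrix.trace X = 0 := by
      intro X hX
      rw [← Subalgebra.mem_toSubmodule, Aschbacher.alg_toSubmodule] at hX
      induction hX using Submodule.span_induction with
      | mem Y hY =>
        obtain ⟨x, hx, rfl⟩ := hY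
        dsimp only
        by_cases hxs : x ∈ Sc
        · obtain ⟨c, hc⟩ := (Cfsg.Geo.mem_scalars_iff _).mp hxs
          rw [hc, Matrix.trace_smul, Matrix.trace_one, natCard_index, h0, smul_zero]
        · exact htr x hx hxs
      | zero => exact Matrix.trace_zero ..
      | add A B _ _ hA hB => rw [Matrix.trace_add, hA, hB, add_zero]
      | smul c A _ hA => rw [Matrix.trace_smul, hA, smul_zero]
    obtain ⟨i⟩ := hR.nonemptyIdx
    simpa using key (Matrix.single i i 1) (hfull ▸ Algebra.mem_top)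
  haveI : Fintype (R ⧸ Z) := Fintype.ofFinite _
  let s : R ⧸ Z → GL₂ := fun u => ((Quotient.out u : R) : GL₂)
  have hdiv : ∀ u v, (s u)⁻¹ * s v ∈ Sc → u = v := fun u v h => by
    rw [← QuotientGroup.out_eq' u, ← QuotientGroup.out_eq' v]
    exact QuotientGroup.eq.2 ((hZmem _).mpr h)
  have hli : LinearIndependent F fun u => (s u : M₂) := by
    rw [Fintype.linearIndependent_iff]
    intro c hc v
    have h1 := congrArg (fun X => Matrix.trace (((s v)⁻¹ : GL₂).val * X)) hc
    simp only [Finset.mul_sum, Matrix.trace_sum, mul_smul_comm, Matrix.trace_smul, mul_zero, Matrix.trace_zero,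
      ← Units.val_mul] at h1
    rw [Finset.sum_eq_single v (fun u _ hu => by
        rw [htr _ (R.mul_mem (R.inv_mem (Quotient.out v : R).2) (Quotient.out u : R).2)
          fun h => hu (hdiv _ _ h).symm, smul_zero]) (by simp),
      inv_mul_cancel, Units.val_one, Matrix.trace_one, smul_eq_mul, natCard_index] at h1
    exact (mul_eq_zero.1 h1).resolve_right hnF
  have hspan : ⊤ ≤ Submodule.span F (Set.range fun u => (s u : M₂)) := by
    rw [← Algebra.top_toSubmodule, ← hfull, Aschbacher.alg_toSubmodule]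
    refine Submodule.span_le.2 ?_
    rintro _ ⟨x, hx, rfl⟩
    obtain ⟨u, hu⟩ : ∃ u : R ⧸ Z, u = QuotientGroup.mk (⟨x, hx⟩ : R) := ⟨_, rfl⟩
    have h1 : (s u)⁻¹ * x ∈ Sc := (hZmem _).mp (QuotientGroup.eq.1 ((QuotientGroup.out_eq' u).trans hu))
    obtain ⟨c, hc⟩ := (Cfsg.Geo.mem_scalars_iff _).mp h1
    have hxv : (x : M₂) = (c : F) • (s u : M₂) := by
      have h2' := congrArg ((s u : M₂) * ·) hc
      simp only [Units.val_mul, ← mul_assoc, Units.mul_inv, one_mul, mul_smul_comm, mul_one] at h2'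
      exact h2'
    change (x : M₂) ∈ Submodule.span F (Set.range fun u => (s u : M₂))
    rw [hxv]
    exact Submodule.smul_mem _ _ (Submodule.subset_span ⟨u, rfl⟩)
  have hQ : Fintype.card (R ⧸ Z) = 2 * m * (2 * m) := by
    have h := Module.finrank_eq_card_basis (Module.Basis.mk hli hspan)
    rw [Module.finrank_matrix, natCard_index, Module.finrank_self, mul_one] at h
    exact h.symm
  have hcard : Nat.card R = 2 * (2 * m * (2 * m)) := by
    rw [Subgroup.card_eq_card_quotient_mul_card_subgroup Z, hZcard, Nat.card_eq_fintype_card, hQ, mul_comm]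
  have hsq : ∀ x : R, x * x ∈ Z := fun x => (hZmem _).mpr (hR.sq x x.2)
  have h4 : ∀ x : R, x ^ 4 = 1 := fun x => by
    refine Subtype.ext (Units.ext ?_)
    rcases hR.sign (R.mul_mem x.2 x.2) (hR.sq x x.2) with h | h <;>
      · rw [Subgroup.coe_pow, show ((x : GL₂) ^ 4) = ((x : GL₂) * x) * ((x : GL₂) * x) by
          simp [pow_succ, mul_assoc], Units.val_mul, h]
        simp
  have hpg : IsPGroup 2 R := fun x => ⟨2, h4 x⟩
  haveI : Fact (Nat.Prime 2) := ⟨Nat.prime_two⟩
  obtain ⟨j, hj⟩ := IsPGroup.iff_card.mp hpg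
  obtain ⟨k, -, hk⟩ := (Nat.dvd_prime_pow Nat.prime_two).mp
    (show 2 * m ∣ 2 ^ j from ⟨2 * (2 * m), by rw [← hj, hcard]; ring⟩)
  refine ⟨k, hk, ⟨Nat.prime_two, hpg, fun A hA hAc => ?_, ?_⟩, ?_, hcenter ▸ hZcard, ?_⟩
  · haveI : IsCyclic Z := isCyclic_of_prime_card hZcard
    suffices hle : A ≤ Z from isCyclic_of_injective (Subgroup.inclusion hle) (Subgroup.inclusion_injective hle)
    intro x hx
    rw [hZmem]
    by_contra hxs
    obtain ⟨θ, hθ⟩ := hR.exists_aut x.2 hxs
    apply hθ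
    have hθx : θ x ∈ A := by
      have h := hA.fixed θ
      rw [← h] at hx
      exact hx
    exact congrArg (fun u : A => ((u : R) : GL₂)) (hAc.is_comm.comm ⟨θ x, hθx⟩ ⟨x, hx⟩)
  · rw [Nat.gcd_self]
    refine Nat.dvd_antisymm (Monoid.exponent_dvd_of_forall_pow_eq_one h4) ?_
    obtain ⟨i, hi, hi'⟩ := (Nat.dvd_prime_pow Nat.prime_two).1
      (show Monoid.exponent R ∣ 2 ^ 2 from Monoid.exponent_dvd_of_forall_pow_eq_one h4)
    rw [hi']
    refine Nat.pow_dvd_pow 2 (show 2 ≤ i from ?_)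
    by_contra hlt
    obtain ⟨x, hx, hxs⟩ := hR.exists_ns
    obtain ⟨y, hy, hyx⟩ := hR.partner hx hxs
    have hinv : ∀ z : R, z * z = 1 := fun z => by
      have h : Monoid.exponent R ∣ 2 := hi' ▸ (Nat.pow_dvd_pow 2 (show i ≤ 1 by omega)).trans (by norm_num)
      simpa [pow_two] using Monoid.exponent_dvd_iff_forall_pow_eq_one.1 h z
    have hcm : (⟨y, hy⟩ : R) * ⟨x, hx⟩ = ⟨x, hx⟩ * ⟨y, hy⟩ := by
      have e := hinv (⟨y, hy⟩ * ⟨x, hx⟩)
      calc (⟨y, hy⟩ : R) * ⟨x, hx⟩ = (⟨x, hx⟩ * ⟨x, hx⟩) * (⟨y, hy⟩ * ⟨x, hx⟩) * (⟨y, hy⟩ * ⟨y, hy⟩) := by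
            rw [hinv, hinv, one_mul, mul_one]
        _ = ⟨x, hx⟩ * (⟨x, hx⟩ * ⟨y, hy⟩ * (⟨x, hx⟩ * ⟨y, hy⟩)) * ⟨y, hy⟩ := by group
        _ = _ := by rw [hinv, mul_one]
    have h1 := congrArg (fun u : R => ((u : GL₂) : M₂)) hcm
    simp only [Subgroup.coe_mul, Units.val_mul] at h1
    rw [hyx] at h1
    have h2' : (2 : F) • ((x : M₂) * (y : M₂)) = 0 := by
      rw [two_smul]
      nth_rewrite 1 [← h1]
      exact neg_add_cancel _
    exact (x.isUnit.mul y.isUnit).ne_zero ((smul_eq_zero.mp h2').resolve_left h2)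
  · rw [hcard, hk, pow_add, pow_one, two_mul k, pow_add]
  · intro A hA hA1
    by_contra hlt
    push Not at hlt
    obtain ⟨B, hB⟩ : ∃ B, B = A.map R.subtype := ⟨_, rfl⟩
    have hBR : B ≤ R := by rintro _ hx; rw [hB] at hx; obtain ⟨x, -, rfl⟩ := hx; exact x.2
    have hBc : ∀ a ∈ B, ∀ b ∈ B, a * b = b * a := by
      intro a ha b hb
      rw [hB] at ha hb
      obtain ⟨a, ha, rfl⟩ := ha
      obtain ⟨b, hb, rfl⟩ := hb
      rw [← map_mul, ← map_mul]
      exact congrArg R.subtype (congrArg Subtype.val (hA.is_comm.comm ⟨a, ha⟩ ⟨b, hb⟩))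
    have hB1 : ∀ a ∈ B, a * a = 1 := by
      intro a ha
      rw [hB] at ha
      obtain ⟨a, ha, rfl⟩ := ha
      rw [← map_mul, hA1 a ha, map_one]
    have hspanB := finrank_span_invol_le h2 (hBR.trans hR.le) hBc hB1
    have hBcard : Nat.card B = Nat.card A := by rw [hB, Subgroup.card_map_of_injective R.subtype_injective]
    obtain ⟨W, hW⟩ : ∃ W : Subgroup B, W = (scalars (Fin m ⊕ Fin m) F).subgroupOf B := ⟨_, rfl⟩
    have hWmem : ∀ x : B, x ∈ W ↔ (x : GL₂) ∈ Sc := fun x => by rw [hW]; exact Subgroup.mem_subgroupOf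
    have hW2 : Nat.card W ≤ 2 := by
      rw [← hZcard]
      refine Nat.card_le_card_of_injective
        (fun x : W => (⟨⟨((x : B) : GL₂), hBR (x : B).2⟩, (hZmem _).mpr ((hWmem _).mp x.2)⟩ : Z)) fun x y h => ?_
      exact Subtype.ext (Subtype.ext (congrArg (fun u : Z => ((u : R) : GL₂)) h))
    haveI : Fintype (B ⧸ W) := Fintype.ofFinite _
    let emb : B ⧸ W → R ⧸ Z := fun u => QuotientGroup.mk (⟨((Quotient.out u : B) : GL₂), hBR (Quotient.out u : B).2⟩ : R)
    have hemb : Function.Injective emb := fun u v h => by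
      rw [← QuotientGroup.out_eq' u, ← QuotientGroup.out_eq' v]
      exact QuotientGroup.eq.2 ((hWmem _).mpr ((hZmem _).mp (QuotientGroup.eq.1 h) :))
    have hle : Fintype.card (B ⧸ W) ≤ m := by
      rw [← finrank_span_eq_card (hli.comp emb hemb)]
      refine le_trans (Submodule.finrank_mono (Submodule.span_le.2 ?_)) hspanB
      rintro _ ⟨u, rfl⟩
      obtain ⟨x, hx⟩ : ∃ x : R, x = Quotient.out (emb u) := ⟨_, rfl⟩
      have h1 : (x : GL₂)⁻¹ * ((Quotient.out u : B) : GL₂) ∈ Sc :=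
        (hZmem _).mp (QuotientGroup.eq.1 (show (QuotientGroup.mk x : R ⧸ Z) = emb u by rw [hx]; exact QuotientGroup.out_eq' _))
      obtain ⟨c, hc⟩ := (Cfsg.Geo.mem_scalars_iff _).mp h1
      have hxv : ((x : GL₂) : M₂) = (c⁻¹ : Fˣ) • (((Quotient.out u : B) : GL₂) : M₂) := by
        have h2' := congrArg (((x : GL₂) : M₂) * ·) hc
        simp only [Units.val_mul, ← mul_assoc, Units.mul_inv, one_mul, mul_smul_comm, mul_one] at h2'
        rw [h2', ← Units.smul_def, inv_smul_smul]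
      change ((Quotient.out (emb u) : R) : GL₂).val ∈ _
      rw [← hx, hxv, Units.smul_def]
      exact Submodule.smul_mem _ _ (Submodule.subset_span ⟨_, (Quotient.out u : B).2, rfl⟩)
    have hprod := Subgroup.card_eq_card_quotient_mul_card_subgroup W
    rw [hBcard, Nat.card_eq_fintype_card (α := B ⧸ W)] at hprod
    rw [pow_succ, ← hk] at hlt
    have := Nat.mul_le_mul hle hW2
    have := hR.two_le
    omega

/-- The normaliser of a sign group over a prime field is a member of class six. -/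
theorem sign_group_member (hR : SignGroup R) {p : ℕ} (hp : p.Prime) (hodd : Odd p) (hcard : Fintype.card F = p) :
    InSpClassD m F (subgroupNormalizer R ⊓ spGL m F) := by
  obtain ⟨k, hk, hst, hc, hz, hmin⟩ := sign_group_c6 hR
  exact Or.inl (Or.inr (Or.inr (Or.inr (Or.inr (Or.inr (Or.inl ⟨R, p, k, hk, hst, hR.abs,
    fun x hx => ⟨1, fun u v => by rw [Units.val_one, one_mul]; exact hR.le hx u v⟩, hp, hodd, hcard, hc, hz, hmin,
    rfl⟩))))))

end CfsgLib.Classical22.Asch
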