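/-
Two-by-two matrices over three elements with trace zero and determinant one, and the symplectic form of the plane.
-/
import Cfsg.Prelude.Def_GeometricClasses

set_option autoImplicit false
set_option maxHeartbeats 800000

namespace CfsgLib.Classical22.Asch

open Matrix

variable {F : Type*} [Field F]

/-- The alternating form of the plane. -/
def dPlane (x y : Fin 2 → F) : F := x 0 * y 1 - x 1 * y 0

/-- The two-by-two matrices of trace zero and determinant one. -/
def quatSet (F : Type*) [Field F] : Set (Matrix (Fin 2) (Fin 2) F) := {X | Matrix.trace X = 0 ∧ X.det = 1}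

lemma mem_quatSet {X : Matrix (Fin 2) (Fin 2) F} : X ∈ quatSet F ↔ X 0 0 + X 1 1 = 0 ∧ X 0 0 * X 1 1 - X 0 1 * X 1 0 = 1 := by
  rw [quatSet, Set.mem_ofPred_eq, Matrix.det_fin_two, Matrix.trace_fin_two]

lemma dPlane_mulVec (X : Matrix (Fin 2) (Fin 2) F) (x y : Fin 2 → F) :
    dPlane (X *ᵥ x) (X *ᵥ y) = X.det * dPlane x y := by
  simp [dPlane, Matrix.det_fin_two, Matrix.mulVec, dotProduct, Fin.sum_univ_two]
  ring

lemma isSymplecticForm_dPlane : Cfsg.Geo.IsSymplecticForm (dPlane : (Fin 2 → F) → (Fin 2 → F) → F) := by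
  refine ⟨⟨fun x y v => ?_, fun c x v => ?_, fun v x y => ?_, fun c v x => ?_⟩, fun v w => ?_, fun v => ?_, fun v hv => ?_⟩
  all_goals simp only [dPlane, Pi.add_apply, Pi.smul_apply, smul_eq_mul]
  any_goals ring
  by_cases h : v 0 = 0
  · have h1 : v 1 ≠ 0 := fun h1 => hv (funext fun i => by fin_cases i <;> simp_all)
    exact ⟨⟨Pi.single 0 1, by simp [h1]⟩, Pi.single 0 1, by simp [h1]⟩
  · exact ⟨⟨Pi.single 1 1, by simp [h]⟩, Pi.single 1 1, by simp [h]⟩

lemma quatSet_sq {X : Matrix (Fin 2) (Fin 2) F} (hX : X ∈ quatSet F) : X * X = -1 := by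
  obtain ⟨h1, h2⟩ := mem_quatSet.mp hX
  ext i j
  fin_cases i <;> fin_cases j <;> simp [Matrix.mul_apply, Fin.sum_univ_two]
  · linear_combination X 0 0 * h1 - h2
  · linear_combination X 0 1 * h1
  · linear_combination X 1 0 * h1
  · linear_combination X 1 1 * h1 - h2

lemma quatSet_cj {X : Matrix (Fin 2) (Fin 2) F} (hX : X ∈ quatSet F) (A : GL (Fin 2) F) :
    (A : Matrix (Fin 2) (Fin 2) F) * X * ((A⁻¹ : GL (Fin 2) F) : Matrix (Fin 2) (Fin 2) F) ∈ quatSet F :=
  ⟨(Matrix.trace_units_conj A X).trans hX.1, (Matrix.det_units_conj A X).trans hX.2⟩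

variable [Fintype F]

lemma three_values (hq : Fintype.card F = 3) (x : F) : x = 0 ∨ x = 1 ∨ x = -1 := by
  by_cases hx : x = 0
  · exact Or.inl hx
  have h := FiniteField.pow_card_sub_one_eq_one x hx
  rw [hq] at h
  exact Or.inr (mul_self_eq_one_iff.mp (by rw [← sq]; exact h))

lemma three_zero (hq : Fintype.card F = 3) : (3 : F) = 0 := by
  simpa [hq] using FiniteField.cast_card_eq_zero F

lemma two_nonzero_of_three (hq : Fintype.card F = 3) : (2 : F) ≠ 0 := fun h =>
  one_ne_zero (show (1 : F) = 0 by linear_combination three_zero hq - h)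

/-- Over three elements there are six such matrices. -/
lemma quatSet_cases (hq : Fintype.card F = 3) {X : Matrix (Fin 2) (Fin 2) F} (hX : X ∈ quatSet F) :
    ∃ ε : F, (ε = 1 ∨ ε = -1) ∧
      (X = ε • !![0, -1; 1, 0] ∨ X = ε • !![1, 1; 1, -1] ∨ X = ε • !![-1, 1; 1, 1]) := by
  obtain ⟨h1, h2⟩ := mem_quatSet.mp hX
  have h3 := three_zero hq
  have h11 : X 1 1 = -(X 0 0) := by linear_combination h1
  rw [h11] at h2
  obtain ⟨a, ha⟩ : ∃ a, a = X 0 0 := ⟨_, rfl⟩
  obtain ⟨b, hb⟩ : ∃ b, b = X 0 1 := ⟨_, rfl⟩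
  obtain ⟨c, hc⟩ : ∃ c, c = X 1 0 := ⟨_, rfl⟩
  rw [← ha, ← hb, ← hc] at h2
  have hX' : X = !![a, b; c, -a] := by
    ext i j; fin_cases i <;> fin_cases j <;> simp [ha, hb, hc, h11]
  subst hX'
  have hcne : (a * a + b * c + 1 : F) = 0 := by linear_combination -h2
  rcases three_values hq a with rfl | rfl | rfl <;> rcases three_values hq b with rfl | rfl | rfl <;>
    rcases three_values hq c with rfl | rfl | rfl <;>
    first
    | (exfalso; apply one_ne_zero (α := F); linear_combination hcne)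
    | (exfalso; apply one_ne_zero (α := F); linear_combination -hcne + h3)
    | (exfalso; apply one_ne_zero (α := F); linear_combination -hcne)
    | (exfalso; apply one_ne_zero (α := F); linear_combination hcne - h3)
    | (refine ⟨1, Or.inl rfl, ?_⟩; simp; done)
    | (refine ⟨-1, Or.inr rfl, ?_⟩; simp; done)

/-- Over three elements these matrices commute up to sign. -/
lemma quatSet_comm (hq : Fintype.card F = 3) {X Y : Matrix (Fin 2) (Fin 2) F} (hX : X ∈ quatSet F) (hY : Y ∈ quatSet F) :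
    X * Y = Y * X ∨ X * Y = -(Y * X) := by
  obtain ⟨ε, -, hX'⟩ := quatSet_cases hq hX
  obtain ⟨δ, -, hY'⟩ := quatSet_cases hq hY
  rcases hX' with rfl | rfl | rfl <;> rcases hY' with rfl | rfl | rfl <;>
    first
    | (left; rw [smul_mul_smul_comm, smul_mul_smul_comm, mul_comm ε δ]; done)
    | (right; rw [smul_mul_smul_comm, smul_mul_smul_comm, mul_comm δ ε, ← smul_neg]; congr 1
       ext i j; fin_cases i <;> fin_cases j <;> simp [Matrix.mul_apply, Fin.sum_univ_two]; done)

/-- These matrices span all two-by-two matrices. -/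
lemma quatSet_adjoin (hq : Fintype.card F = 3) : Algebra.adjoin F (quatSet F) = ⊤ := by
  have h2 := two_nonzero_of_three hq
  have h3 := three_zero hq
  have hI : (!![0, -1; 1, 0] : Matrix (Fin 2) (Fin 2) F) ∈ Algebra.adjoin F (quatSet F) :=
    Algebra.subset_adjoin (mem_quatSet.mpr (by simp))
  have hJ : (!![1, 1; 1, -1] : Matrix (Fin 2) (Fin 2) F) ∈ Algebra.adjoin F (quatSet F) :=
    Algebra.subset_adjoin (mem_quatSet.mpr ⟨by simp, by simp; linear_combination -h3⟩)
  have hK := Subalgebra.mul_mem _ hI hJ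
  refine Algebra.eq_top_iff.mpr fun X => ?_
  have e : X = ((X 0 0 + X 1 1) / 2) • (1 : Matrix (Fin 2) (Fin 2) F) + ((X 1 0 - X 0 1) / 2) • !![0, -1; 1, 0] +
      ((X 0 0 - X 1 1) / 4 + (X 0 1 + X 1 0) / 4) • !![1, 1; 1, -1] +
      ((X 0 1 + X 1 0) / 4 - (X 0 0 - X 1 1) / 4) • (!![0, -1; 1, 0] * !![1, 1; 1, -1]) := by
    have h4 : (4 : F) ≠ 0 := fun h => one_ne_zero (show (1 : F) = 0 by linear_combination h - h3)
    ext i j
    fin_cases i <;> fin_cases j <;> simp [Matrix.mul_apply, Fin.sum_univ_two] <;> field_simp <;> ring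
  rw [e]
  exact add_mem (add_mem (add_mem (Subalgebra.smul_mem _ (one_mem _) _) (Subalgebra.smul_mem _ hI _))
    (Subalgebra.smul_mem _ hJ _)) (Subalgebra.smul_mem _ hK _)

end CfsgLib.Classical22.Asch
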