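/-
A tensor product of the plane with a four-dimensional orthogonal space of plus type is a third tensor power of the
plane.
-/
import Cfsg.Agent.Lib.Classical22.Asch.SpQuat
import Cfsg.Agent.Lib.Classical22.Asch.SpWreath
import Cfsg.Agent.Lib.Aschbacher.TensorEmbed
import Cfsg.Agent.Lib.Classical22.TensorRefine

set_option autoImplicit false
set_option maxHeartbeats 800000

namespace CfsgLib.Classical22.Asch

open Matrix Cfsg Cfsg.Geo CfsgLib.Techniques.AschPrime CfsgLib.Transvec CfsgLib.Classical22.TensorMono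
  CfsgLib.Classical22.TensorRefine
open scoped MatrixGroups

variable {F : Type*} [Field F]

/-- A functional prescribed on two independent vectors of a non-degenerate space. -/
lemma dual_pair {ι : Type} [Fintype ι] [DecidableEq ι] {f : (ι → F) → (ι → F) → F} (hb : IsBilinearForm f)
    (hnd : IsNondegenerateForm f) {a b : ι → F} (hb0 : b ≠ 0) (hab : ∀ c : F, a - c • b ≠ 0) :
    ∃ w, f w a = 1 ∧ f w b = 0 := by
  obtain ⟨v, hv⟩ := (hnd b hb0).1
  obtain ⟨c, hc⟩ : ∃ c, c = f v a / f v b := ⟨_, rfl⟩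
  obtain ⟨x, hx⟩ := (hnd _ (hab c)).1
  obtain ⟨d, hd⟩ : ∃ d, d = f x (a - c • b) := ⟨_, rfl⟩
  have hd0 : d ≠ 0 := hd ▸ hx
  refine ⟨d⁻¹ • (x + (-(f x b / f v b)) • v), ?_, ?_⟩
  · rw [hb.smul_left, hb.add_left, hb.smul_left, inv_mul_eq_div, div_eq_one_iff_eq hd0, hd, sub_eq_add_neg,
      ← neg_smul, hb.add_right, hb.smul_right, hc]
    field_simp
  · rw [hb.smul_left, hb.add_left, hb.smul_left, inv_mul_eq_div, neg_mul, div_mul_cancel₀ _ hv, add_neg_cancel,
      zero_div]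

/-- A plus type orthogonal space of dimension four is a tensor square of the plane. -/
lemma plus_four_frame (h2 : (2 : F) ≠ 0) {f : (Fin 4 → F) → (Fin 4 → F) → F} (hf : IsSymmetricForm f)
    (hplus : IsPlusTypeOn (fun v => f v v) (⊤ : Submodule F (Fin 4 → F))) :
    ∃ Φ : (Fin 2 → F) →ₗ[F] (Fin 2 → F) →ₗ[F] (Fin 4 → F),
      (∀ b c b' c', f (Φ b c) (Φ b' c') = dPlane b b' * dPlane c c') ∧
      ∀ y, f y y = 0 → ∃ b c, y = Φ b c := by
  classical
  obtain ⟨U, -, hU, hdim⟩ := hplus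
  rw [finrank_top, Module.finrank_fin_fun] at hdim
  have hb := hf.bilinear
  have hU0 : ∀ u ∈ U, ∀ v ∈ U, f u v = 0 := by
    intro u hu v hv
    have h : f (u + v) (u + v) = 0 := hU _ (U.add_mem hu hv)
    rw [hb.add_left, hb.add_right, hb.add_right, show f u u = 0 from hU u hu, show f v v = 0 from hU v hv,
      hf.symm v u] at h
    have h' : (2 : F) * f u v = 0 := by linear_combination h
    exact (mul_eq_zero.mp h').resolve_left h2
  obtain ⟨β⟩ : Nonempty (Module.Basis (Fin 2) F U) := ⟨Module.finBasisOfFinrankEq F U (by omega)⟩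
  obtain ⟨u₁, hu₁⟩ : ∃ u, u = (β 0 : Fin 4 → F) := ⟨_, rfl⟩
  obtain ⟨u₂, hu₂⟩ : ∃ u, u = (β 1 : Fin 4 → F) := ⟨_, rfl⟩
  have hm1 : u₁ ∈ U := hu₁ ▸ (β 0).2
  have hm2 : u₂ ∈ U := hu₂ ▸ (β 1).2
  have hli : ∀ a c : F, a • u₁ + c • u₂ = 0 → a = 0 ∧ c = 0 := fun a c h => by
    have h' := Fintype.linearIndependent_iff.mp β.linearIndependent ![a, c] (Subtype.ext (by
      simpa [Fin.sum_univ_two, ← hu₁, ← hu₂] using h))
    exact ⟨h' 0, h' 1⟩
  obtain ⟨p, hp1, hp2⟩ := dual_pair hb hf.nondegenerate (a := u₁) (b := u₂)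
    (fun h => one_ne_zero (hli 0 1 (by simp [h])).2)
    (fun c h => one_ne_zero (hli 1 (-c) (by rw [one_smul, neg_smul, ← sub_eq_add_neg, h])).1)
  obtain ⟨r, hr2, hr1⟩ := dual_pair hb hf.nondegenerate (a := u₂) (b := u₁)
    (fun h => one_ne_zero (hli 1 0 (by simp [h])).1)
    (fun c h => one_ne_zero (hli (-c) 1 (by rw [one_smul, neg_smul, add_comm, ← sub_eq_add_neg, h])).2)
  obtain ⟨w₁, hw₁⟩ : ∃ w, w = p + (-(f p p) / 2) • u₁ := ⟨_, rfl⟩
  obtain ⟨w₂, hw₂⟩ : ∃ w, w = r + (-(f w₁ r)) • u₁ + (-(f r r) / 2) • u₂ := ⟨_, rfl⟩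
  have e11 : f u₁ u₁ = 0 := hU0 _ hm1 _ hm1
  have e12 : f u₁ u₂ = 0 := hU0 _ hm1 _ hm2
  have e21 : f u₂ u₁ = 0 := hU0 _ hm2 _ hm1
  have e22 : f u₂ u₂ = 0 := hU0 _ hm2 _ hm2
  have hp1' : f u₁ p = 1 := by rw [hf.symm, hp1]
  have hp2' : f u₂ p = 0 := by rw [hf.symm, hp2]
  have hr1' : f u₁ r = 0 := by rw [hf.symm, hr1]
  have hr2' : f u₂ r = 1 := by rw [hf.symm, hr2]
  have a11 : f w₁ u₁ = 1 := by rw [hw₁, hb.add_left, hb.smul_left, hp1, e11]; ring
  have a12 : f w₁ u₂ = 0 := by rw [hw₁, hb.add_left, hb.smul_left, hp2, e12]; ring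
  have a21 : f w₂ u₁ = 0 := by rw [hw₂]; simp only [hb.add_left, hb.smul_left, hr1, e11, e21]; ring
  have a22 : f w₂ u₂ = 1 := by rw [hw₂]; simp only [hb.add_left, hb.smul_left, hr2, e12, e22]; ring
  have b11 : f w₁ w₁ = 0 := by
    rw [hw₁]
    simp only [hb.add_left, hb.smul_left, hb.add_right, hb.smul_right, hp1, hp1', e11]
    field_simp
    ring
  have b12 : f w₁ w₂ = 0 := by
    rw [hw₂, hb.add_right, hb.add_right, hb.smul_right, hb.smul_right, a11, a12]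
    ring
  have b21 : f w₂ w₁ = 0 := by rw [hf.symm, b12]
  have b22 : f w₂ w₂ = 0 := by
    rw [hw₂]
    simp only [hb.add_left, hb.smul_left, hb.add_right, hb.smul_right, hr1, hr1', hr2, hr2', e11, e12, e21, e22]
    field_simp
    ring
  obtain ⟨Φ, hΦ⟩ : ∃ Φ : (Fin 2 → F) →ₗ[F] (Fin 2 → F) →ₗ[F] (Fin 4 → F), ∀ b c, Φ b c =
      (b 0 * c 0) • u₁ + (b 0 * c 1) • u₂ + (-(b 1 * c 0)) • w₂ + (b 1 * c 1) • w₁ := by
    refine ⟨LinearMap.mk₂ F (fun b c =>
      (b 0 * c 0) • u₁ + (b 0 * c 1) • u₂ + (-(b 1 * c 0)) • w₂ + (b 1 * c 1) • w₁) ?_ ?_ ?_ ?_, fun b c => rfl⟩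
    all_goals intros
    all_goals simp only [Pi.add_apply, Pi.smul_apply, smul_eq_mul]
    all_goals module
  have hlinear : ∀ (α δ η κ α' δ' η' κ' : F),
      f (α • u₁ + δ • u₂ + η • w₂ + κ • w₁) (α' • u₁ + δ' • u₂ + η' • w₂ + κ' • w₁) =
        α * κ' + κ * α' + δ * η' + η * δ' := by
    intros
    simp only [hb.add_left, hb.smul_left, hb.add_right, hb.smul_right, e11, e12, e21, e22, a11, a12, a21, a22, b11, b12,
      b21, b22, show f u₁ w₁ = 1 by rw [hf.symm, a11], show f u₁ w₂ = 0 by rw [hf.symm, a21],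
      show f u₂ w₁ = 0 by rw [hf.symm, a12], show f u₂ w₂ = 1 by rw [hf.symm, a22]]
    ring
  refine ⟨Φ, fun b c b' c' => by rw [hΦ, hΦ, hlinear]; simp only [dPlane]; ring, fun y hy => ?_⟩
  let L : (Fin 4 → F) →ₗ[F] (Fin 4 → F) := (LinearMap.proj 0).smulRight u₁ + (LinearMap.proj 1).smulRight u₂ +
    (LinearMap.proj 2).smulRight w₂ + (LinearMap.proj 3).smulRight w₁
  have hL : ∀ a, L a = a 0 • u₁ + a 1 • u₂ + a 2 • w₂ + a 3 • w₁ := fun a => rfl
  have hinj : Function.Injective L := (injective_iff_map_eq_zero L).mpr fun a ha => by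
    have key : ∀ α δ η κ : F, f (L a) (α • u₁ + δ • u₂ + η • w₂ + κ • w₁) = a 0 * κ + a 3 * α + a 1 * η + a 2 * δ :=
      fun _ _ _ _ => by rw [hL, hlinear]
    have h0 : ∀ x, f (L a) x = 0 := fun x => by rw [ha]; simpa using hb.smul_left 0 0 x
    funext i
    fin_cases i
    · simpa [h0] using (key 0 0 0 1).symm
    · simpa [h0] using (key 0 0 1 0).symm
    · simpa [h0] using (key 0 1 0 0).symm
    · simpa [h0] using (key 1 0 0 0).symm
  obtain ⟨a, rfl⟩ := LinearMap.injective_iff_surjective.mp hinj y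
  rw [hL, hlinear] at hy
  have hy' : a 0 * a 3 + a 1 * a 2 = 0 := (mul_eq_zero.mp
    (show (2 : F) * (a 0 * a 3 + a 1 * a 2) = 0 by linear_combination hy)).resolve_left h2
  by_cases h0 : a 0 = 0
  · by_cases h1 : a 1 = 0
    · exact ⟨![0, 1], ![-(a 2), a 3], by rw [hL, hΦ]; simp [h0, h1]⟩
    · have h2' : a 2 = 0 := (mul_eq_zero.mp (by rw [h0, zero_mul, zero_add] at hy'; exact hy')).resolve_left h1
      exact ⟨![a 1, a 3], ![0, 1], by rw [hL, hΦ]; simp [h0, h2']⟩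
  · refine ⟨![a 0, -(a 2)], ![1, a 1 / a 0], ?_⟩
    rw [hL, hΦ]
    simp only [Matrix.cons_val_zero, Matrix.cons_val_one, Matrix.cons_val_fin_one, mul_one, neg_neg, mul_div_cancel₀ _ h0]
    congr 2
    field_simp
    linear_combination hy'

/-- Similitudes of a tensor square of the plane respect the factors. -/
lemma plus_four_preserver {f : (Fin 4 → F) → (Fin 4 → F) → F}
    {Φ : (Fin 2 → F) →ₗ[F] (Fin 2 → F) →ₗ[F] (Fin 4 → F)}
    (hΦ : ∀ b c b' c', f (Φ b c) (Φ b' c') = dPlane b b' * dPlane c c') (hdec : ∀ y, f y y = 0 → ∃ b c, y = Φ b c)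
    {B : (Fin 4 → F) →ₗ[F] (Fin 4 → F)} {s : F} (hs : s ≠ 0) (hB : ∀ x y, f (B x) (B y) = s * f x y) :
    ∃ (π : Equiv.Perm (Fin 2)) (C : Fin 2 → GL (Fin 2) F), ∀ v : Fin 2 → Fin 2 → F,
      B (Φ (v 0) (v 1)) = Φ ((C 0 : Matrix (Fin 2) (Fin 2) F) *ᵥ v (π 0)) ((C 1 : Matrix (Fin 2) (Fin 2) F) *ᵥ v (π 1)) := by
  classical
  obtain ⟨e, he⟩ : ∃ e : Fin 2 → Fin 2 → F, ∀ i, e i = Pi.single i 1 := ⟨_, fun i => rfl⟩
  have hd : ∀ i, dPlane (e i) (e i) = 0 := fun i => by simp [dPlane]; ring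
  have himg : ∀ i j, ∃ b c, B (Φ (e i) (e j)) = Φ b c := fun i j => hdec _ (by rw [hB, hΦ, hd, zero_mul, mul_zero])
  choose b c hbc using himg
  have hrel : ∀ i j i' j', dPlane (b i j) (b i' j') * dPlane (c i j) (c i' j') =
      s * (dPlane (e i) (e i') * dPlane (e j) (e j')) := fun i j i' j' => by
    rw [← hΦ, ← hΦ, ← hB, hbc, hbc]
  have h01 : dPlane (e 0) (e 1) = 1 := by simp [dPlane, he]
  have h10 : dPlane (e 1) (e 0) = -1 := by simp [dPlane, he]
  obtain ⟨a, ha⟩ : ∃ a, a = b 0 0 := ⟨_, rfl⟩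
  obtain ⟨a', ha'⟩ : ∃ a, a = b 1 1 := ⟨_, rfl⟩
  obtain ⟨d, hdd⟩ : ∃ a, a = c 0 0 := ⟨_, rfl⟩
  obtain ⟨d', hdd'⟩ : ∃ a, a = c 1 1 := ⟨_, rfl⟩
  have hmain : dPlane a a' * dPlane d d' = s := by
    rw [ha, ha', hdd, hdd', hrel, h01, mul_one, mul_one]
  have hA : dPlane a a' ≠ 0 := fun h => by rw [h, zero_mul] at hmain; exact hs hmain.symm
  have hD : dPlane d d' ≠ 0 := fun h => by rw [h, mul_zero] at hmain; exact hs hmain.symm
  have hpar : ∀ {x x' y : Fin 2 → F}, dPlane x x' ≠ 0 → dPlane x y = 0 → ∃ μ : F, y = μ • x := by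
    intro x x' y hx hy
    refine ⟨dPlane y x' / dPlane x x', funext fun i => ?_⟩
    simp only [dPlane] at hx hy
    simp only [dPlane, Pi.smul_apply, smul_eq_mul]
    rw [div_mul_eq_mul_div, eq_div_iff hx]
    fin_cases i <;> simp only [Fin.zero_eta, Fin.mk_one, Fin.isValue]
    · linear_combination x' 0 * hy
    · linear_combination x' 1 * hy
  have hA' : dPlane a' a ≠ 0 := fun h => hA (by simp only [dPlane] at h ⊢; linear_combination -h)
  have hD' : dPlane d' d ≠ 0 := fun h => hD (by simp only [dPlane] at h ⊢; linear_combination -h)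
  -- each mixed image pairs one old factor with the other
  have hmix : ∀ i j, i ≠ j → (∃ κ : F, B (Φ (e i) (e j)) = κ • Φ a d') ∨ (∃ κ : F, B (Φ (e i) (e j)) = κ • Φ a' d) := by
    intro i j hij
    have h1 : dPlane a (b i j) * dPlane d (c i j) = 0 := by
      rw [ha, hdd, hrel]
      fin_cases i <;> fin_cases j <;> simp_all [dPlane, he]
    have h2 : dPlane a' (b i j) * dPlane d' (c i j) = 0 := by
      rw [ha', hdd', hrel]
      fin_cases i <;> fin_cases j <;> simp_all [dPlane, he]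
    by_cases hb0 : dPlane a (b i j) = 0
    · obtain ⟨μ, hμ⟩ := hpar hA hb0
      by_cases hμ0 : μ = 0
      · exact Or.inl ⟨0, by rw [hbc, hμ, hμ0, zero_smul, map_zero, LinearMap.zero_apply, zero_smul]⟩
      have : dPlane d' (c i j) = 0 := by
        refine (mul_eq_zero.mp h2).resolve_left fun h => ?_
        rw [hμ] at h
        refine mul_ne_zero hμ0 hA' ?_
        simp only [dPlane, Pi.smul_apply, smul_eq_mul] at h ⊢
        linear_combination h
      obtain ⟨ν, hν⟩ := hpar hD' this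
      exact Or.inl ⟨μ * ν, by rw [hbc, hμ, hν, map_smul, map_smul, LinearMap.smul_apply, smul_smul, mul_comm ν μ]⟩
    · obtain ⟨ν, hν⟩ := hpar hD ((mul_eq_zero.mp h1).resolve_left hb0)
      by_cases hν0 : ν = 0
      · exact Or.inl ⟨0, by rw [hbc, hν, hν0, zero_smul, map_zero, zero_smul]⟩
      have : dPlane a' (b i j) = 0 := by
        refine (mul_eq_zero.mp h2).resolve_right fun h => ?_
        rw [hν] at h
        refine mul_ne_zero hν0 hD' ?_
        simp only [dPlane, Pi.smul_apply, smul_eq_mul] at h ⊢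
        linear_combination h
      obtain ⟨μ, hμ⟩ := hpar hA' this
      exact Or.inr ⟨μ * ν, by rw [hbc, hμ, hν, map_smul, map_smul, LinearMap.smul_apply, smul_smul, mul_comm ν μ]⟩
  have hpair : f (B (Φ (e 0) (e 1))) (B (Φ (e 1) (e 0))) = -s := by
    rw [hB, hΦ, h01, h10]; ring
  have hsm : ∀ (κ μ : F) (x x' y y' : Fin 2 → F),
      f (κ • Φ x x') (μ • Φ y y') = κ * μ * (dPlane x y * dPlane x' y') := fun κ μ x x' y y' => by
    rw [← LinearMap.smul_apply, ← map_smul Φ, ← map_smul (Φ y), hΦ]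
    simp only [dPlane, Pi.smul_apply, smul_eq_mul]
    ring
  have hexp : ∀ v : Fin 2 → F, v = v 0 • e 0 + v 1 • e 1 := fun v => by
    funext i; fin_cases i <;> simp [he]
  have hBexp : ∀ v : Fin 2 → Fin 2 → F, B (Φ (v 0) (v 1)) = (v 0 0 * v 1 0) • Φ a d + (v 0 0 * v 1 1) • B (Φ (e 0) (e 1))
      + (v 0 1 * v 1 0) • B (Φ (e 1) (e 0)) + (v 0 1 * v 1 1) • Φ a' d' := fun v => by
    conv_lhs => rw [hexp (v 0), hexp (v 1)]
    simp only [map_add, map_smul, LinearMap.add_apply, LinearMap.smul_apply, hbc 0 0, hbc 1 1, ← ha, ← ha', ← hdd, ← hdd']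
    module
  have hgl : ∀ (x y : Fin 2 → F) (κ : F), κ ≠ 0 → dPlane x y ≠ 0 → ∃ C : GL (Fin 2) F, ∀ v : Fin 2 → F,
      (C : Matrix (Fin 2) (Fin 2) F) *ᵥ v = v 0 • x + (v 1 * κ) • y := fun x y κ hκ hxy => by
    refine ⟨Matrix.GeneralLinearGroup.mkOfDetNeZero !![x 0, κ * y 0; x 1, κ * y 1] ?_, fun v => funext fun i => ?_⟩
    · rw [Matrix.det_fin_two]
      simp only [dPlane] at hxy
      have := mul_ne_zero hκ hxy
      simpa [mul_sub, mul_comm, mul_left_comm, mul_assoc] using this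
    · fin_cases i <;> simp [Matrix.GeneralLinearGroup.mkOfDetNeZero, Matrix.mulVec, dotProduct, Fin.sum_univ_two] <;> ring
  have hkl : ∀ {κ μ δ : F}, κ * μ * (-δ) = -s → δ = s → κ * μ = 1 := by
    intro κ μ δ h hδ
    rw [hδ] at h
    exact mul_right_cancel₀ hs (by linear_combination -h)
  rcases hmix 0 1 (by decide) with ⟨κ, hκ⟩ | ⟨κ, hκ⟩ <;> rcases hmix 1 0 (by decide) with ⟨μ, hμ⟩ | ⟨μ, hμ⟩ <;>
    rw [hκ, hμ, hsm] at hpair
  · simp only [dPlane] at hpair
    exact absurd (show s = 0 by linear_combination hpair) hs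
  · have hκμ : κ * μ = 1 := hkl (δ := dPlane a a' * dPlane d d')
      (by simp only [dPlane] at hpair ⊢; linear_combination hpair) hmain
    obtain ⟨C₁, hC₁⟩ := hgl a a' μ (right_ne_zero_of_mul_eq_one hκμ) hA
    obtain ⟨C₂, hC₂⟩ := hgl d d' κ (left_ne_zero_of_mul_eq_one hκμ) hD
    refine ⟨1, ![C₁, C₂], fun v => ?_⟩
    simp only [Equiv.Perm.one_apply, Matrix.cons_val_zero, Matrix.cons_val_one, Matrix.cons_val_fin_one]
    rw [hBexp, hκ, hμ, hC₁, hC₂]
    simp only [map_add, map_smul, LinearMap.add_apply, LinearMap.smul_apply]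
    match_scalars
    all_goals first
      | linear_combination (v 0 1 * v 1 1) * hκμ
      | linear_combination (-(v 0 1 * v 1 1)) * hκμ
      | ring
  · have hκμ : κ * μ = 1 := hkl (δ := dPlane a a' * dPlane d d')
      (by simp only [dPlane] at hpair ⊢; linear_combination hpair) hmain
    obtain ⟨C₁, hC₁⟩ := hgl a a' κ (left_ne_zero_of_mul_eq_one hκμ) hA
    obtain ⟨C₂, hC₂⟩ := hgl d d' μ (right_ne_zero_of_mul_eq_one hκμ) hD
    refine ⟨Equiv.swap 0 1, ![C₁, C₂], fun v => ?_⟩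
    simp only [Equiv.swap_apply_left, Equiv.swap_apply_right, Matrix.cons_val_zero, Matrix.cons_val_one,
      Matrix.cons_val_fin_one]
    rw [hBexp, hκ, hμ, hC₁, hC₂]
    simp only [map_add, map_smul, LinearMap.add_apply, LinearMap.smul_apply]
    match_scalars
    all_goals first
      | linear_combination (v 0 1 * v 1 1) * hκμ
      | linear_combination (-(v 0 1 * v 1 1)) * hκμ
      | ring
  · simp only [dPlane] at hpair
    exact absurd (show s = 0 by linear_combination hpair) hs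

end CfsgLib.Classical22.Asch
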