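/-
A spanning set of isometries squaring to signs and commuting up to sign, stable under conjugation by a maximal
subgroup, makes it the normaliser of a group of symplectic type.
-/
import Cfsg.Agent.Lib.Classical22.Asch.SpC6
import Cfsg.Agent.Lib.Classical22.Asch.SpArith

set_option autoImplicit false
set_option maxHeartbeats 800000

namespace CfsgLib.Classical22.Asch

open Matrix Cfsg Cfsg.Geo CfsgLib.Techniques.AschPrime CfsgLib.Transvec
open scoped MatrixGroups commutatorElement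

variable {m : ℕ} {F : Type*} [Field F]

local notation "GL₂" => GL (Fin m ⊕ Fin m) F
local notation "M₂" => Matrix (Fin m ⊕ Fin m) (Fin m ⊕ Fin m) F

/-- Commuting up to scalars passes to the generated subgroup. -/
lemma closure_scalar_comm {T : Set GL₂} (h : ∀ x ∈ T, ∀ y ∈ T, ∃ z ∈ scalars (Fin m ⊕ Fin m) F, x * y = z * (y * x))
    {x y : GL₂} (hx : x ∈ Subgroup.closure T) (hy : y ∈ Subgroup.closure T) :
    ∃ z ∈ scalars (Fin m ⊕ Fin m) F, x * y = z * (y * x) := by
  induction hx, hy using Subgroup.closure_induction₂ with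
  | mem x y hx hy => exact h x hx y hy
  | one_left x _ => exact ⟨1, one_mem _, by simp⟩
  | one_right x _ => exact ⟨1, one_mem _, by simp⟩
  | mul_left x y z _ _ _ hx hy =>
    obtain ⟨a, ha, hxz⟩ := hx
    obtain ⟨b, hb, hyz⟩ := hy
    refine ⟨b * a, mul_mem hb ha, ?_⟩
    rw [mul_assoc x, hyz, ← mul_assoc x b, ← scalars_comm hb x, mul_assoc b x, ← mul_assoc x z y, hxz]
    simp only [mul_assoc]
  | mul_right y z x _ _ _ hy hz =>
    obtain ⟨a, ha, hxy⟩ := hy
    obtain ⟨b, hb, hxz⟩ := hz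
    refine ⟨a * b, mul_mem ha hb, ?_⟩
    rw [← mul_assoc x, hxy, mul_assoc a, mul_assoc y, hxz, ← mul_assoc y b, ← scalars_comm hb y]
    simp only [mul_assoc]
  | inv_left x y _ _ hx =>
    obtain ⟨a, ha, e⟩ := hx
    refine ⟨a⁻¹, inv_mem ha, ?_⟩
    have e' : y * x = a⁻¹ * (x * y) := by rw [e, inv_mul_cancel_left]
    calc x⁻¹ * y = x⁻¹ * (y * x) * x⁻¹ := by group
      _ = a⁻¹ * (y * x⁻¹) := by
        rw [e', ← mul_assoc x⁻¹, ← scalars_comm (inv_mem ha) x⁻¹]
        group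
  | inv_right x y _ _ hx =>
    obtain ⟨a, ha, e⟩ := hx
    refine ⟨a⁻¹, inv_mem ha, ?_⟩
    have e' : y * x = a⁻¹ * (x * y) := by rw [e, inv_mul_cancel_left]
    calc x * y⁻¹ = y⁻¹ * (y * x) * y⁻¹ := by group
      _ = a⁻¹ * (y⁻¹ * x) := by
        rw [e', ← mul_assoc y⁻¹, ← scalars_comm (inv_mem ha) y⁻¹]
        group

lemma neg_scalar [Nonempty (Fin m ⊕ Fin m)] : (-1 : GL₂) ∈ scalars (Fin m ⊕ Fin m) F :=
  mem_scalars_of_eq_smul (c := -1) (by rw [Units.val_neg, Units.val_one, neg_one_smul])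

variable [Fintype F]

/-- The class six data given by a spanning set of signed isometries which a maximal subgroup permutes. -/
theorem sp_sign_cases (hm : 2 ≤ m) {H : Subgroup GL₂} (hH : IsMaximalIn (spGL m F) H) {p : ℕ} (hp : p.Prime)
    (hodd : Odd p) (hcard : Fintype.card F = p) (S : Set M₂)
    (hiso : ∀ X ∈ S, ∀ u v, sympForm m F (X *ᵥ u) (X *ᵥ v) = sympForm m F u v)
    (hsq : ∀ X ∈ S, X * X = 1 ∨ X * X = -1) (hcomm : ∀ X ∈ S, ∀ Y ∈ S, X * Y = Y * X ∨ X * Y = -(Y * X))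
    (hfull : Algebra.adjoin F S = ⊤) (hinv : ∀ h ∈ H, ∀ X ∈ S, Aschbacher.cj h X ∈ S) :
    ∃ (R : Subgroup GL₂) (k : ℕ), 2 * m = 2 ^ k ∧ IsSymplecticTypeGroup 2 R ∧
      ActsAbsolutelyIrreducibly (matrixSet R) ∧ R ≤ similarityGroup (sympForm m F) ∧
      Nat.card R = 2 ^ (1 + 2 * k) ∧ Nat.card (Subgroup.center R) = 2 ∧ IsOfMinusType k R ∧
      H = subgroupNormalizer R ⊓ spGL m F := by
  classical
  haveI : Nonempty (Fin m ⊕ Fin m) := ⟨Sum.inl ⟨0, by omega⟩⟩
  have h2 : (2 : F) ≠ 0 := Ring.two_ne_zero fun h => by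
    have h' := FiniteField.even_card_iff_char_two.mp h
    rw [hcard] at h'
    exact Nat.not_even_iff_odd.mpr hodd (Nat.even_iff.mpr h')
  obtain ⟨T, hT⟩ : ∃ T : Set GL₂, T = {g : GL₂ | (g : M₂) ∈ S} := ⟨_, rfl⟩
  have hmemT : ∀ {g : GL₂}, g ∈ T ↔ (g : M₂) ∈ S := fun {g} => by rw [hT]; rfl
  have hunit : ∀ X ∈ S, ∃ g : GL₂, (g : M₂) = X := fun X hX => by
    rcases hsq X hX with h | h
    · exact ⟨⟨X, X, h, h⟩, rfl⟩
    · exact ⟨⟨X, -X, by rw [mul_neg, h, neg_neg], by rw [neg_mul, h, neg_neg]⟩, rfl⟩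
  obtain ⟨R, hRdef⟩ : ∃ R : Subgroup GL₂, R = Subgroup.closure T := ⟨_, rfl⟩
  have hc : ∀ x ∈ T, ∀ y ∈ T, ∃ z ∈ scalars (Fin m ⊕ Fin m) F, x * y = z * (y * x) := fun x hx y hy => by
    rcases hcomm _ (hmemT.mp hx) _ (hmemT.mp hy) with h | h
    · exact ⟨1, one_mem _, Units.ext (by simp [h])⟩
    · exact ⟨-1, neg_scalar, Units.ext (by simp [h])⟩
  have hR : SignGroup R := by
    refine ⟨?_, ?_, ?_, ?_, hm, h2⟩
    · rw [hRdef, Subgroup.closure_le]
      exact fun g hg => hiso _ (hmemT.mp hg)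
    · refine Aschbacher.Full.actsAbsolutelyIrreducibly (top_le_iff.mp ?_)
      rw [← hfull]
      refine Algebra.adjoin_le fun X hX => ?_
      obtain ⟨g, rfl⟩ := hunit X hX
      exact Aschbacher.coe_mem_alg (hRdef ▸ Subgroup.subset_closure (hmemT.mpr hX))
    · intro x hx
      rw [hRdef] at hx
      induction hx using Subgroup.closure_induction with
      | mem x hx =>
        rcases hsq _ (hmemT.mp hx) with h | h
        · rw [show x * x = 1 from Units.ext h]; exact one_mem _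
        · rw [show x * x = -1 from Units.ext (by rw [Units.val_mul, h, Units.val_neg, Units.val_one])]
          exact neg_scalar
      | one => rw [one_mul]; exact one_mem _
      | mul x y hx hy hxs hys =>
        obtain ⟨z, hz, e⟩ := closure_scalar_comm hc hy hx
        have e2 : x * y * (x * y) = z * (x * x * (y * y)) := by
          rw [mul_assoc x, ← mul_assoc y, e, ← mul_assoc x, ← mul_assoc x, ← scalars_comm hz x]
          simp only [mul_assoc]
        rw [e2]
        exact mul_mem hz (mul_mem hxs hys)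
      | inv x _ hxs => rw [← _root_.mul_inv_rev]; exact inv_mem hxs
    · intro x hx y hy
      rw [hRdef] at hx hy
      obtain ⟨z, hz, e⟩ := closure_scalar_comm hc hx hy
      rw [commutatorElement_def, e]
      simpa [mul_assoc] using hz
  have hle : H ≤ subgroupNormalizer R := by
    have hmap : ∀ h ∈ H, ∀ x ∈ R, h * x * h⁻¹ ∈ R := by
      intro h hh x hx
      rw [hRdef] at hx ⊢
      have h1 := Subgroup.mem_map_of_mem (MulAut.conj h).toMonoidHom hx
      rw [MonoidHom.map_closure] at h1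
      refine Subgroup.closure_mono ?_ h1
      rintro _ ⟨g, hg, rfl⟩
      refine hmemT.mpr ?_
      change ((h * g * h⁻¹ : GL₂) : M₂) ∈ S
      rw [← Aschbacher.cj_coe]
      exact hinv h hh _ (hmemT.mp hg)
    intro h hh
    rw [subgroupNormalizer, Subgroup.mem_normalizer_iff]
    refine fun x => ⟨hmap h hh x, fun hx => ?_⟩
    have := hmap h⁻¹ (H.inv_mem hh) _ hx
    simpa [mul_assoc] using this
  obtain ⟨k, hk, hst, hc', hz, hmin⟩ := sign_group_c6 hR
  exact ⟨R, k, hk, hst, hR.abs, fun x hx => ⟨1, fun u v => by rw [Units.val_one, one_mul]; exact hR.le hx u v⟩, hc', hz,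
    hmin, sp_max_eq hm hH (sign_group_member hR hp hodd hcard).toClass hle⟩

end CfsgLib.Classical22.Asch
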