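/-
In dimension eight a maximal tensor stabiliser with a four-dimensional factor of plus type is the stabiliser of a third
tensor power, or, over three elements, the normaliser of a group of symplectic type.
-/
import Cfsg.Agent.Lib.Classical22.Asch.SpPlusFour
import Cfsg.Agent.Lib.Classical22.Asch.SpSign

set_option autoImplicit false
set_option maxHeartbeats 1000000

namespace CfsgLib.Classical22.Asch

open Matrix Cfsg Cfsg.Geo CfsgLib.Techniques.AschPrime CfsgLib.Transvec CfsgLib.Classical22.TensorMono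
  CfsgLib.Classical22.TensorRefine
open scoped MatrixGroups

variable {F : Type*} [Field F]

lemma sum_three {β : Type*} [AddCommMonoid β] (g : (Fin 3 → Fin 2) → β) :
    ∑ a, g a = ∑ i, ∑ j, ∑ k, g ![i, j, k] := by
  rw [← Fintype.sum_prod_type', ← Fintype.sum_prod_type']
  exact Fintype.sum_equiv ⟨fun a => ((a 0, a 1), a 2), fun p => ![p.1.1, p.1.2, p.2],
    fun a => funext fun i => by fin_cases i <;> rfl, fun p => by simp⟩ _ _
    fun a => congrArg g (funext fun i => by fin_cases i <;> rfl)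

lemma inj_mul_inj {t s : ℕ} (j : Fin t) (X Y : Matrix (Fin s) (Fin s) F) : inj j X * inj j Y = inj j (X * Y) := by
  rw [inj_apply, inj_apply, inj_apply, wr_mul_one]
  congr 1
  funext i
  by_cases h : i = j
  · subst h; simp
  · simp [h]

lemma inj_comm_inj {t s : ℕ} {i j : Fin t} (hij : i ≠ j) (X Y : Matrix (Fin s) (Fin s) F) :
    inj i X * inj j Y = inj j Y * inj i X := by
  rw [inj_apply, inj_apply, wr_mul_one, wr_mul_one]
  congr 1
  funext k
  by_cases h : k = i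
  · subst h; simp [hij]
  · simp [h]

/-- A factor placed in given tensor coordinates, as a map of algebras. -/
def slotHom {ι : Type} [Fintype ι] [DecidableEq ι] {t s : ℕ} (e : ι ≃ (Fin t → Fin s)) (M : GL ι F) (j : Fin t) :
    Matrix (Fin s) (Fin s) F →ₐ[F] Matrix ι ι F :=
  (Aschbacher.cj M).toAlgHom.comp ((Matrix.reindexAlgEquiv F F e.symm).toAlgHom.comp
    (AlgHom.ofLinearMap (inj j) (inj_one j) fun X Y => (inj_mul_inj j X Y).symm))

lemma slotHom_apply {ι : Type} [Fintype ι] [DecidableEq ι] {t s : ℕ} (e : ι ≃ (Fin t → Fin s)) (M : GL ι F) (j : Fin t)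
    (X : Matrix (Fin s) (Fin s) F) :
    slotHom e M j X = Aschbacher.cj M (Matrix.reindexAlgEquiv F F e.symm (inj j X)) := rfl

/-- A subalgebra containing every factor is everything. -/
lemma slots_full {ι : Type} [Fintype ι] [DecidableEq ι] {t s : ℕ} (e : ι ≃ (Fin t → Fin s)) (M : GL ι F)
    (A : Subalgebra F (Matrix ι ι F)) (h : ∀ j X, slotHom e M j X ∈ A) : A = ⊤ := by
  classical
  obtain ⟨B, hB⟩ : ∃ B : Subalgebra F (Matrix (Fin t → Fin s) (Fin t → Fin s) F),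
      B = A.comap ((Aschbacher.cj M).toAlgHom.comp (Matrix.reindexAlgEquiv F F e.symm).toAlgHom) := ⟨_, rfl⟩
  have hall : ∀ Z, Z ∈ B := by
    intro Z
    rw [Matrix.matrix_eq_sum_single Z]
    refine Subalgebra.sum_mem _ fun x _ => Subalgebra.sum_mem _ fun y _ => ?_
    rw [show Matrix.single x y (Z x y) = Z x y • Matrix.single x y (1 : F) by rw [Matrix.smul_single, smul_eq_mul, mul_one]]
    refine Subalgebra.smul_mem _ ?_ _
    rw [← Aschbacher.pw_single, Aschbacher.pw_eq_prodF_slot]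
    refine list_prod_mem fun z hz => ?_
    obtain ⟨j, rfl⟩ := List.mem_ofFn.1 hz
    rw [hB, Subalgebra.mem_comap]
    exact h j _
  refine Algebra.eq_top_iff.mpr fun Z => ?_
  have := hall (Matrix.reindexAlgEquiv F F e (Aschbacher.cj M⁻¹ Z))
  rw [hB, Subalgebra.mem_comap] at this
  simpa [Aschbacher.cj_self_inv] using this

local notation "ι₈" => (Fin 4 ⊕ Fin 4)

variable [Fintype F]

/-- A maximal tensor stabiliser with a plus type factor of dimension four. -/
theorem eight_plus_cases {H : Subgroup (GL ι₈ F)} (hH : IsMaximalIn (spGL 4 F) H) (hodd : Odd (Fintype.card F))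
    {e : ι₈ ≃ Fin 2 × Fin 4} {P : GL ι₈ F} {f₁ : (Fin 2 → F) → (Fin 2 → F) → F} {f₂ : (Fin 4 → F) → (Fin 4 → F) → F}
    (hf₁ : IsSymplecticForm f₁) (hf₂ : IsSymmetricForm f₂)
    (hplus : IsPlusTypeOn (fun v => f₂ v v) (⊤ : Submodule F (Fin 4 → F)))
    (hT : IsTensorFormStructure id (sympForm 4 F) f₁ f₂ e P) (heq : H = tensorProductSubgroup 2 4 e P ⊓ spGL 4 F) :
    (5 ≤ Fintype.card F ∧ ∃ (e' : ι₈ ≃ (Fin 3 → Fin 2)) (M : GL ι₈ F) (f : (Fin 2 → F) → (Fin 2 → F) → F),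
      IsSymplecticForm f ∧ IsTensorPowerFormStructure id (sympForm 4 F) f e' M ∧
      H = tensorWreathSubgroup 2 3 e' M ⊓ spGL 4 F) ∨
    (Fintype.card F = 3 ∧ ∃ R : Subgroup (GL ι₈ F), IsSymplecticTypeGroup 2 R ∧
      ActsAbsolutelyIrreducibly (matrixSet R) ∧ R ≤ similarityGroup (sympForm 4 F) ∧ Nat.card R = 128 ∧
      Nat.card (Subgroup.center R) = 2 ∧ IsOfMinusType 3 R ∧ H = subgroupNormalizer R ⊓ spGL 4 F) := by
  classical
  have hf := isSymplecticForm_sympForm (F := F) 4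
  have h2 : (2 : F) ≠ 0 := Ring.two_ne_zero fun h => by
    have h' := FiniteField.even_card_iff_char_two.mp h
    exact Nat.not_even_iff_odd.mpr hodd (Nat.even_iff.mpr h')
  obtain ⟨c, hc, hcT⟩ := hT
  obtain ⟨τ, hτ⟩ : ∃ τ : (Fin 2 → F) →ₗ[F] (Fin 4 → F) →ₗ[F] (ι₈ → F), ∀ u y,
      τ u y = (P : Matrix ι₈ ι₈ F) *ᵥ ((fun p => u p.1 * y p.2) ∘ e) := by
    refine ⟨LinearMap.mk₂ F (fun u y => (P : Matrix ι₈ ι₈ F) *ᵥ ((fun p => u p.1 * y p.2) ∘ e)) ?_ ?_ ?_ ?_,
      fun u y => rfl⟩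
    · intro a b y; rw [← Matrix.mulVec_add]; congr 1; funext l; simp [add_mul]
    · intro k a y; rw [← Matrix.mulVec_smul]; congr 1; funext l; simp [mul_assoc]
    · intro a y z; rw [← Matrix.mulVec_add]; congr 1; funext l; simp [mul_add]
    · intro k a y; rw [← Matrix.mulVec_smul]; congr 1; funext l; simp [mul_left_comm]
  obtain ⟨k, hk⟩ : ∃ k, k = f₁ (Pi.single 0 1) (Pi.single 1 1) := ⟨_, rfl⟩
  have hexp : ∀ v : Fin 2 → F, v = v 0 • Pi.single 0 1 + v 1 • Pi.single 1 1 := fun v => by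
    funext i; fin_cases i <;> simp
  have hf₁d : ∀ u u', f₁ u u' = k * dPlane u u' := fun u u' => by
    conv_lhs => rw [hexp u, hexp u']
    rw [hf₁.bilinear.add_left, hf₁.bilinear.smul_left, hf₁.bilinear.smul_left, hf₁.bilinear.add_right,
      hf₁.bilinear.add_right, hf₁.bilinear.smul_right, hf₁.bilinear.smul_right, hf₁.bilinear.smul_right,
      hf₁.bilinear.smul_right, hf₁.alternating, hf₁.alternating, hf₁.skew (Pi.single 1 1), ← hk, dPlane]
    ring
  have hk0 : k ≠ 0 := fun h => by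
    obtain ⟨x, hx⟩ := (hf₁.nondegenerate (Pi.single 0 1) (by simp)).2
    rw [hf₁d, h, zero_mul] at hx
    exact hx rfl
  have hform : ∀ u y u' y', sympForm 4 F (τ u y) (τ u' y') = c * k * (dPlane u u' * f₂ y y') := fun u y u' y' => by
    rw [hτ, hτ, hcT, formOfGram_kronecker id (fun _ _ => rfl),
      ← form_eq (σ := id) hf₁.bilinear.add_left hf₁.bilinear.smul_left hf₁.bilinear.add_right hf₁.bilinear.smul_right,
      ← form_eq (σ := id) hf₂.bilinear.add_left hf₂.bilinear.smul_left hf₂.bilinear.add_right hf₂.bilinear.smul_right,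
      hf₁d]
    ring
  have hck : c * k ≠ 0 := mul_ne_zero hc hk0
  obtain ⟨Φ, hΦ, hdec⟩ := plus_four_frame h2 hf₂ hplus
  -- the coordinates of the tensor power
  obtain ⟨T₀, hT₀⟩ : ∃ T₀ : (Fin 3 → Fin 2) → (ι₈ → F), ∀ a,
      T₀ a = τ (Pi.single (a 0) 1) (Φ (Pi.single (a 1) 1) (Pi.single (a 2) 1)) := ⟨_, fun a => rfl⟩
  obtain ⟨e'⟩ : Nonempty (ι₈ ≃ (Fin 3 → Fin 2)) := ⟨Fintype.equivOfCardEq (by simp)⟩
  obtain ⟨M₀, hM₀⟩ : ∃ M₀ : Matrix ι₈ ι₈ F, M₀ = Matrix.of fun r i => T₀ (e' i) r := ⟨_, rfl⟩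
  have hM₀x : ∀ x : (Fin 3 → Fin 2) → F, M₀ *ᵥ (x ∘ e') = ∑ a, x a • T₀ a := fun x => by
    funext r
    simp only [hM₀, Matrix.mulVec, dotProduct, Matrix.of_apply, Function.comp_apply, Finset.sum_apply, Pi.smul_apply,
      smul_eq_mul]
    exact Fintype.sum_equiv e' _ _ fun i => mul_comm _ _
  have hpure : ∀ v : Fin 3 → Fin 2 → F, M₀ *ᵥ (pureVec v ∘ e') = τ (v 0) (Φ (v 1) (v 2)) := fun v => by
    conv_rhs => rw [hexp (v 0), hexp (v 1), hexp (v 2)]
    rw [hM₀x, sum_three]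
    simp only [Fin.sum_univ_two, pureVec, Fin.prod_univ_three, hT₀, Matrix.cons_val_zero, Matrix.cons_val_one,
      Matrix.cons_val_two, Matrix.tail_cons, Matrix.head_cons, map_add, map_smul, LinearMap.add_apply,
      LinearMap.smul_apply]
    module
  have hgram : ∀ a b, sympForm 4 F (T₀ a) (T₀ b) = c * k * ∏ i, gramMatrix dPlane (a i) (b i) := fun a b => by
    simp only [hT₀, hform, hΦ, Fin.prod_univ_three, gramMatrix]
    ring
  have hMform : ∀ x y : (Fin 3 → Fin 2) → F, sympForm 4 F (M₀ *ᵥ (x ∘ e')) (M₀ *ᵥ (y ∘ e')) =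
      c * k * ∑ a, ∑ b, x a * (∏ i, gramMatrix dPlane (a i) (b i)) * id (y b) := fun x y => by
    rw [hM₀x, hM₀x, ← Transvec.toBilin_apply hf.bilinear]
    simp only [map_sum, LinearMap.coe_sum, Finset.sum_apply, map_smul, LinearMap.smul_apply, smul_eq_mul,
      Finset.mul_sum]
    rw [Finset.sum_comm]
    refine Finset.sum_congr rfl fun a _ => Finset.sum_congr rfl fun b _ => ?_
    rw [Transvec.toBilin_apply, hgram, id]
    ring
  obtain ⟨M, hM⟩ : ∃ M : GL ι₈ F, (M : Matrix ι₈ ι₈ F) = M₀ := by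
    refine ⟨Matrix.GeneralLinearGroup.mkOfDetNeZero M₀ fun h0 => ?_, rfl⟩
    obtain ⟨v, hv0, hv⟩ := Matrix.exists_mulVec_eq_zero_iff.mpr h0
    refine hv0 (funext fun i => ?_)
    obtain ⟨b, hb⟩ : ∃ b : Fin 3 → Fin 2, b = fun j => 1 - e' i j := ⟨_, rfl⟩
    have h1 := hMform (v ∘ e'.symm) (Pi.single b 1)
    rw [show (v ∘ e'.symm) ∘ e' = v from funext fun j => by simp, hv, zero_left' hf, eq_comm, mul_eq_zero] at h1
    have h2' := h1.resolve_left hck
    rw [Finset.sum_eq_single (e' i)] at h2'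
    · rw [Finset.sum_eq_single b (fun x _ hx => by simp [hx]) (by simp)] at h2'
      simp only [Function.comp_apply, Equiv.symm_apply_apply, Pi.single_eq_same, id, mul_one] at h2'
      refine (mul_eq_zero.mp h2').resolve_right ?_
      refine Finset.prod_ne_zero_iff.mpr fun j _ => ?_
      rw [hb, gramMatrix]
      dsimp only
      generalize e' i j = u
      fin_cases u <;> simp [dPlane]
    · intro a _ ha
      rw [Finset.sum_eq_single b (fun x _ hx => by simp [hx]) (by simp)]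
      obtain ⟨j, hj⟩ := Function.ne_iff.mp ha
      have hab : a j = b j := by
        rw [hb]
        dsimp only
        generalize e' i j = u at hj ⊢
        generalize a j = w at hj ⊢
        revert hj
        revert u w
        decide
      rw [Finset.prod_eq_zero (Finset.mem_univ j)
        (by rw [gramMatrix, hab]; exact isSymplecticForm_dPlane.alternating _), mul_zero, zero_mul]
    · simp
  obtain ⟨Tm, hTm⟩ : ∃ Tm : ((Fin 3 → Fin 2) → F) →ₗ[F] (ι₈ → F), ∀ x, Tm x = M₀ *ᵥ (x ∘ e') :=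
    ⟨(Matrix.toLin' M₀).comp (LinearMap.funLeft F F e'), fun x => by simp [LinearMap.funLeft_apply]; rfl⟩
  have hfact : ∀ g : GL ι₈ F, g ∈ H → ∃ (π : Equiv.Perm (Fin 3)) (As : Fin 3 → GL (Fin 2) F),
      ((glReindex e' (M⁻¹ * g * M) : GL (Fin 3 → Fin 2) F) : Matrix (Fin 3 → Fin 2) (Fin 3 → Fin 2) F) =
        wr π fun i => (As i : Matrix (Fin 2) (Fin 2) F) := by
    intro g hg
    rw [heq] at hg
    obtain ⟨hgT, hgI⟩ := hg
    obtain ⟨A, B, -, -, hAB⟩ := tensor_mem e P hgT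
    have hact : ∀ u y, (g : Matrix ι₈ ι₈ F) *ᵥ τ u y = τ (A u) (B y) := fun u y => by rw [hτ, hτ, hAB]
    have key : ∀ u u' y y', dPlane (A u) (A u') * f₂ (B y) (B y') = dPlane u u' * f₂ y y' := fun u u' y y' => by
      have h : sympForm 4 F ((g : Matrix ι₈ ι₈ F) *ᵥ τ u y) ((g : Matrix ι₈ ι₈ F) *ᵥ τ u' y') =
          sympForm 4 F (τ u y) (τ u' y') := hgI _ _
      rw [hact, hact, hform, hform] at h
      exact mul_left_cancel₀ hck h
    obtain ⟨δ, hδ⟩ : ∃ δ, δ = dPlane (A (Pi.single 0 1)) (A (Pi.single 1 1)) := ⟨_, rfl⟩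
    have hδ1 : ∀ y y', δ * f₂ (B y) (B y') = f₂ y y' := fun y y' => by
      have h01 : dPlane (Pi.single 0 1 : Fin 2 → F) (Pi.single 1 1) = 1 := by simp [dPlane]
      rw [hδ, key, h01, one_mul]
    have hδ0 : δ ≠ 0 := fun h => by
      obtain ⟨x, hx⟩ := (hf₂.nondegenerate (Pi.single 0 1) (by simp)).1
      rw [← hδ1, h, zero_mul] at hx
      exact hx rfl
    obtain ⟨π₂, C, hC⟩ := plus_four_preserver hΦ hdec (s := δ⁻¹) (inv_ne_zero hδ0) (fun y y' => by
      rw [← hδ1 y y', inv_mul_cancel_left₀ hδ0])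
    obtain ⟨C₀, hC₀⟩ : ∃ C₀ : GL (Fin 2) F, ∀ u, (C₀ : Matrix (Fin 2) (Fin 2) F) *ᵥ u = A u := by
      refine ⟨Matrix.GeneralLinearGroup.mkOfDetNeZero (LinearMap.toMatrix' A) ?_, fun u => ?_⟩
      · intro h0
        apply hδ0
        rw [hδ, ← h0, Matrix.det_fin_two, dPlane]
        simp only [LinearMap.toMatrix'_apply]
        have e0 : ∀ j : Fin 2, (fun j' => if j' = j then (1 : F) else 0) = Pi.single j 1 := fun j => by
          funext x; simp [Pi.single_apply]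
        try simp only [e0]
        ring
      · change LinearMap.toMatrix' A *ᵥ u = A u
        rw [← Matrix.toLin'_apply, Matrix.toLin'_toMatrix']
    have hπ' : ∀ p : Equiv.Perm (Fin 2), p = 1 ∨ p = Equiv.swap 0 1 := by decide
    have hπ := hπ' π₂
    obtain ⟨π, hπ0, hπ1, hπ2⟩ : ∃ π : Equiv.Perm (Fin 3), π 0 = 0 ∧ π 1 = (π₂ 0).succ ∧ π 2 = (π₂ 1).succ := by
      rcases hπ with rfl | rfl
      · exact ⟨1, rfl, rfl, rfl⟩
      · exact ⟨Equiv.swap 1 2, by decide, by decide, by decide⟩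
    refine ⟨π, ![C₀, C 0, C 1], ?_⟩
    obtain ⟨W, hW⟩ : ∃ W : Matrix (Fin 3 → Fin 2) (Fin 3 → Fin 2) F,
        W = wr π fun i => ((![C₀, C 0, C 1] : Fin 3 → GL (Fin 2) F) i : Matrix (Fin 2) (Fin 2) F) := ⟨_, rfl⟩
    rw [← hW]
    have hmap : (Matrix.toLin' (g : Matrix ι₈ ι₈ F)).comp Tm = Tm.comp (Matrix.toLin' W) := by
      refine LinearMap.ext_on span_pureVec ?_
      rintro _ ⟨v, rfl⟩
      simp only [LinearMap.comp_apply, Matrix.toLin'_apply, hTm, hW, wr_mulVec_pureVec, hpure, hact, hπ0, hπ1, hπ2,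
        Matrix.cons_val_zero, Matrix.cons_val_one, Matrix.cons_val_two, Matrix.tail_cons, Matrix.head_cons, hC₀]
      exact congrArg _ (hC ![v 1, v 2]) |>.trans (by
        rcases hπ with rfl | rfl <;> simp)
    refine Matrix.ext_of_mulVec_single fun a => ?_
    have h1 := LinearMap.congr_fun hmap (Pi.single a 1)
    simp only [LinearMap.comp_apply, Matrix.toLin'_apply, hTm, ← hM] at h1
    have h2' := congrArg (fun w => (((M⁻¹ : GL ι₈ F) : Matrix ι₈ ι₈ F) *ᵥ w) ∘ e'.symm) h1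
    simp only [Matrix.mulVec_mulVec, Units.inv_mul, one_mulVec, Function.comp_assoc, Equiv.self_comp_symm,
      Function.comp_id] at h2'
    rw [← h2']
    change (Matrix.reindexAlgEquiv F F e' ((M⁻¹ * g * M : GL ι₈ F) : Matrix ι₈ ι₈ F)) *ᵥ _ = _
    rw [Matrix.reindexAlgEquiv_apply, Matrix.reindex_apply, Matrix.submatrix_mulVec_equiv, Equiv.symm_symm]
    simp [mul_assoc, Units.val_mul]
  have hTPFS : IsTensorPowerFormStructure id (sympForm 4 F) dPlane e' M := ⟨c * k, hck, fun x y => by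
    rw [hM]; exact hMform x y⟩
  have hback : ∀ g : GL ι₈ F, g = M * glReindex e'.symm (glReindex e' (M⁻¹ * g * M)) * M⁻¹ := fun g => by
    have : glReindex (F := F) e'.symm (glReindex e' (M⁻¹ * g * M)) = M⁻¹ * g * M := Units.ext (by
      change Matrix.reindexAlgEquiv F F e'.symm (Matrix.reindexAlgEquiv F F e' _) = _
      simp [Matrix.reindexAlgEquiv_apply])
    rw [this]; group
  have hwr : ∀ g ∈ H, ∃ (σ : Equiv.Perm (Fin 3)) (gs : Fin 3 → GL (Fin 2) F), ∀ j X,
      Aschbacher.cj (glReindex e' (M⁻¹ * g * M)) (inj j X) = inj (σ j) (Aschbacher.cj (gs j) X) := by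
    intro g hg
    obtain ⟨π, As, hAs⟩ := hfact g hg
    refine ⟨π.symm, fun j => As (π.symm j), fun j X => ?_⟩
    rw [Aschbacher.cj_apply, hAs, wr_conj, ← hAs, mul_assoc, Units.mul_inv, mul_one]
    rfl
  by_cases h5 : 5 ≤ Fintype.card F
  · refine Or.inl ⟨h5, e', M, dPlane, isSymplecticForm_dPlane, hTPFS, ?_⟩
    refine sp_max_eq (by norm_num) hH (Or.inr (Or.inr (Or.inr (Or.inr
      ⟨2, 3, e', M, dPlane, hodd, by decide, le_rfl, by omega, isSymplecticForm_dPlane, hTPFS, rfl⟩)))) fun g hg => ?_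
    obtain ⟨σ, gs, h⟩ := hwr g hg
    exact ⟨_, ⟨_, Aschbacher.mem_tensorWreathStandard (by norm_num) (by norm_num) σ gs h, rfl⟩, (hback g).symm⟩
  obtain ⟨j, hj⟩ := hodd
  have hq : Fintype.card F = 3 := by have := Fintype.one_lt_card (α := F); omega
  refine Or.inr ⟨hq, ?_⟩
  obtain ⟨L, hL⟩ : ∃ L : Fin 3 → Matrix (Fin 2) (Fin 2) F →ₐ[F] Matrix ι₈ ι₈ F, L = slotHom e' M := ⟨_, rfl⟩
  obtain ⟨S, hS⟩ : ∃ S : Set (Matrix ι₈ ι₈ F), S = {Z | ∃ i, ∃ X ∈ quatSet F, L i X = Z} := ⟨_, rfl⟩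
  have hiso : ∀ X ∈ S, ∀ u v, sympForm 4 F (X *ᵥ u) (X *ᵥ v) = sympForm 4 F u v := by
    rw [hS]
    rintro _ ⟨i, X, hX, rfl⟩
    obtain ⟨N, hN⟩ : ∃ N, N = L i X := ⟨_, rfl⟩
    have hNM : ∀ x, N *ᵥ Tm x = Tm (inj i X *ᵥ x) := fun x => by
      rw [hN, hL, slotHom_apply, Aschbacher.cj_apply, hTm, hTm, ← hM, Matrix.mulVec_mulVec, mul_assoc, Units.inv_mul,
        mul_one, ← Matrix.mulVec_mulVec, Matrix.reindexAlgEquiv_apply, Matrix.reindex_apply,
        Matrix.submatrix_mulVec_equiv, Equiv.symm_symm]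
      simp [Function.comp_assoc]
    obtain ⟨b, hb⟩ : ∃ b : ((Fin 3 → Fin 2) → F) →ₗ[F] ((Fin 3 → Fin 2) → F) →ₗ[F] F, ∀ x y,
        b x y = sympForm 4 F (N *ᵥ Tm x) (N *ᵥ Tm y) - sympForm 4 F (Tm x) (Tm y) :=
      ⟨(toBilin hf.bilinear).compl₁₂ ((Matrix.toLin' N).comp Tm) ((Matrix.toLin' N).comp Tm) -
        (toBilin hf.bilinear).compl₁₂ Tm Tm, fun x y => by simp [Transvec.toBilin_apply]⟩
    have hzero : b = 0 := by
      refine LinearMap.ext_on span_pureVec ?_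
      rintro _ ⟨v, rfl⟩
      refine LinearMap.ext_on span_pureVec ?_
      rintro _ ⟨w, rfl⟩
      rw [hb, hNM, hNM, inj_apply, wr_mulVec_pureVec, wr_mulVec_pureVec]
      simp only [hTm, hpure, hform, hΦ, LinearMap.zero_apply, Equiv.Perm.one_apply]
      have hdet : ∀ l, (Function.update (fun _ => (1 : Matrix (Fin 2) (Fin 2) F)) i X l).det = 1 := fun l => by
        by_cases h : l = i
        · subst h; rw [Function.update_self]; exact hX.2
        · rw [Function.update_of_ne h, Matrix.det_one]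
      rw [dPlane_mulVec, dPlane_mulVec, dPlane_mulVec, hdet, hdet, hdet]
      ring
    intro u v
    have hsur : ∀ w, ∃ x, Tm x = w := fun w => ⟨(((M⁻¹ : GL ι₈ F) : Matrix ι₈ ι₈ F) *ᵥ w) ∘ e'.symm, by
      rw [hTm, ← hM, Function.comp_assoc, Equiv.symm_comp_self, Function.comp_id, Matrix.mulVec_mulVec, Units.mul_inv,
        one_mulVec]⟩
    obtain ⟨x, rfl⟩ := hsur u
    obtain ⟨y, rfl⟩ := hsur v
    have := LinearMap.congr_fun (LinearMap.congr_fun hzero x) y
    rw [hb, LinearMap.zero_apply, LinearMap.zero_apply, sub_eq_zero] at this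
    rw [← hN]
    exact this
  have hsq : ∀ X ∈ S, X * X = 1 ∨ X * X = -1 := by
    rw [hS]
    rintro _ ⟨i, X, hX, rfl⟩
    exact Or.inr (by rw [← map_mul, quatSet_sq hX, map_neg, map_one])
  have hcomm : ∀ X ∈ S, ∀ Y ∈ S, X * Y = Y * X ∨ X * Y = -(Y * X) := by
    rw [hS]
    rintro _ ⟨i, X, hX, rfl⟩ _ ⟨i', Y, hY, rfl⟩
    by_cases h : i = i'
    · subst h
      rcases quatSet_comm hq hX hY with h | h
      · exact Or.inl (by rw [← map_mul, h, map_mul])
      · exact Or.inr (by rw [← map_mul, h, map_neg, map_mul])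
    · refine Or.inl ?_
      rw [hL, slotHom_apply, slotHom_apply, ← map_mul, ← map_mul, inj_comm_inj h, map_mul, map_mul]
  have hfull : Algebra.adjoin F S = ⊤ := by
    refine slots_full e' M _ fun i X => ?_
    have h1 : X ∈ (Algebra.adjoin F S).comap (L i) := by
      refine Algebra.adjoin_le ?_ (quatSet_adjoin hq ▸ Algebra.mem_top : X ∈ Algebra.adjoin F (quatSet F))
      intro Y hY
      exact Algebra.subset_adjoin (hS ▸ ⟨i, Y, hY, rfl⟩)
    rw [← hL]
    exact h1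
  have hinv : ∀ h ∈ H, ∀ X ∈ S, Aschbacher.cj h X ∈ S := by
    rw [hS]
    rintro g hg _ ⟨i, X, hX, rfl⟩
    obtain ⟨σ, gs, h⟩ := hwr g hg
    refine ⟨σ i, _, quatSet_cj hX (gs i), ?_⟩
    rw [hL, slotHom_apply, slotHom_apply, ← Aschbacher.cj_apply, ← h]
    conv_rhs => rw [hback g]
    rw [Aschbacher.cj_mul, Aschbacher.cj_mul, Aschbacher.cj_inv_self]
    refine congrArg _ ?_
    rw [Aschbacher.cj_apply, Aschbacher.cj_apply, map_mul, map_mul]
    rfl
  obtain ⟨R, n, hn, hst, habs, hsim, hcard, hcen, hmin, hR⟩ := sp_sign_cases (by norm_num) hH Nat.prime_three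
    (by decide) hq S hiso hsq hcomm hfull hinv
  obtain rfl : n = 3 := Nat.pow_right_injective (le_refl 2) (by simpa using hn.symm)
  exact ⟨R, hst, habs, hsim, by simpa using hcard, hcen, hmin, hR⟩

end CfsgLib.Classical22.Asch
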