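/-
Over small fields some symplectic members lie in others: planes over two elements, tensor products over three elements.
-/
import Cfsg.Agent.Lib.Classical22.Asch.SpArith
import Cfsg.Agent.S5667

set_option autoImplicit false
set_option maxHeartbeats 800000

namespace CfsgLib.Classical22.Asch

open Matrix Cfsg Cfsg.Geo CfsgLib.Techniques.AschPrime CfsgLib.Transvec CfsgLib.Classical22.TensorRefine
open scoped MatrixGroups

variable {m : ℕ} {F : Type*} [Field F]

local notation "V₂" => (Fin m ⊕ Fin m → F)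
local notation "M₂" => Matrix (Fin m ⊕ Fin m) (Fin m ⊕ Fin m) F

/-- Pairwise orthogonal non-degenerate subspaces of the right total dimension form a decomposition. -/
theorem orth_decomp_of {t k : ℕ} {D : Fin t → Submodule F V₂} (ht : 2 ≤ t) (hk : 0 < k)
    (hdim : ∀ i, Module.finrank F (D i) = k) (hnd : ∀ i, IsNondegenerateOn (sympForm m F) (D i))
    (horth : ∀ i j, i ≠ j → AreOrthogonalFor (sympForm m F) (D i) (D j)) (htk : t * k = 2 * m) :
    IsNondegenerateMDecomposition (sympForm m F) k D := by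
  classical
  have hf := isSymplecticForm_sympForm (F := F) m
  have hzero : ∀ (s : Finset (Fin t)) (v : Fin t → V₂), (∀ i ∈ s, v i ∈ D i) → (∑ i ∈ s, v i = 0) →
      ∀ i ∈ s, v i = 0 := by
    intro s v hv hsum i hi
    by_contra h0
    obtain ⟨x, hx, hxv⟩ := (hnd i (v i) (hv i hi) h0).1
    apply hxv
    have h1 : toBilin hf.bilinear x (∑ j ∈ s, v j) = 0 := by rw [hsum, map_zero]
    rw [map_sum, Finset.sum_eq_single i] at h1
    · exact h1
    · intro j hj hji
      rw [Transvec.toBilin_apply]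
      exact horth i j (Ne.symm hji) x hx (v j) (hv j hj)
    · exact fun h => absurd hi h
  have hind : iSupIndep D := (iSupIndep_iff_finsetSum_eq_zero_imp_eq_zero D).mpr hzero
  refine ⟨⟨ht, hk, hdim, hind, ?_⟩, hnd, horth⟩
  let S : (Π i, D i) →ₗ[F] V₂ := ∑ i, (D i).subtype.comp (LinearMap.proj i)
  have hS : ∀ x, S x = ∑ i, (x i : V₂) := fun x => by simp [S]
  have hinj : Function.Injective S := (injective_iff_map_eq_zero S).mpr fun x hx => funext fun i => Subtype.ext
    (hzero Finset.univ (fun i => (x i : V₂)) (fun i _ => (x i).2) (by rw [← hS, hx]) i (Finset.mem_univ i))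
  have hsurj : Function.Surjective S := (LinearMap.injective_iff_surjective_of_finrank_eq_finrank (by
    rw [Module.finrank_pi_fintype, Module.finrank_fintype_fun_eq_card, natCard_index]
    simp [hdim, htk])).mp hinj
  rw [eq_top_iff]
  intro v _
  obtain ⟨x, rfl⟩ := hsurj v
  rw [hS]
  exact Submodule.sum_mem _ fun i _ => Submodule.mem_iSup_of_mem i (x i).2

/-- Over two elements a stabiliser of a decomposition into planes fixes a quadratic form. -/
theorem planes_two_quad [Fintype F] {t : ℕ} {D : Fin t → Submodule F V₂}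
    (hD : IsNondegenerateMDecomposition (sympForm m F) 2 D) (hq : Fintype.card F = 2) :
    ∃ Q : V₂ → F, IsNondegenerateQuadraticForm Q ∧ (∀ u v, QuadraticMap.polar Q u v = sympForm m F u v) ∧
      decompositionStabilizer D ⊓ spGL m F ≤ quadSimilarityGroup Q := by
  classical
  have hf := isSymplecticForm_sympForm (F := F) m
  have h01 : ∀ x : F, x = 0 ∨ x = 1 := by
    intro x
    by_cases hx : x = 0
    · exact Or.inl hx
    · have := FiniteField.pow_card_sub_one_eq_one x hx
      rw [hq] at this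
      exact Or.inr (by simpa using this)
  have h2 : (2 : F) = 0 := by simpa [hq] using FiniteField.cast_card_eq_zero F
  have hex : ∀ v : V₂, ∃ w : Fin t → V₂, (∀ i, w i ∈ D i) ∧ ∑ i, w i = v := by
    intro v
    have hv : v ∈ iSup D := by rw [hD.decomp.iSup_eq_top]; exact Submodule.mem_top
    induction hv using Submodule.iSup_induction' with
    | mem i x hx => exact ⟨Pi.single i x, fun j => by
        by_cases h : j = i
        · subst h; simpa using hx
        · simp [h], by simp⟩
    | zero => exact ⟨0, fun i => (D i).zero_mem, by simp⟩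
    | add x y _ _ hx hy =>
      obtain ⟨a, ha, rfl⟩ := hx
      obtain ⟨b, hb, rfl⟩ := hy
      exact ⟨a + b, fun i => (D i).add_mem (ha i) (hb i), Finset.sum_add_distrib⟩
  choose w hw hwsum using hex
  have huniq : ∀ (v : V₂) (u : Fin t → V₂), (∀ i, u i ∈ D i) → ∑ i, u i = v → ∀ i, w v i = u i := by
    intro v u hu hsum i
    have h := (iSupIndep_iff_finsetSum_eq_zero_imp_eq_zero D).mp hD.decomp.indep Finset.univ (fun i => w v i - u i)
      (fun i _ => (D i).sub_mem (hw v i) (hu i)) (by rw [Finset.sum_sub_distrib, hwsum, hsum, sub_self]) i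
      (Finset.mem_univ i)
    exact sub_eq_zero.mp h
  let q : V₂ → F := fun x => if x = 0 then 0 else 1
  have hplane : ∀ i, ∀ u ∈ D i, ∀ v ∈ D i, q (u + v) = q u + q v + sympForm m F u v := by
    intro i u hu v hv
    by_cases hu0 : u = 0
    · simp [q, hu0, zero_left' hf]
    by_cases hv0 : v = 0
    · simp [q, hv0, zero_right' hf]
    by_cases huv : u = v
    · subst huv
      have hz : u + u = 0 := by rw [← two_smul F u, h2, zero_smul]
      simp only [q, hz, hu0, if_true, if_false, hf.alternating, add_zero]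
      linear_combination -h2
    have hsum0 : u + v ≠ 0 := fun h => huv (by
      have hz : v + v = 0 := by rw [← two_smul F v, h2, zero_smul]
      exact add_right_cancel (h.trans hz.symm))
    have hne : sympForm m F u v ≠ 0 := by
      intro h0
      obtain ⟨x, hx, hxu⟩ := (hD.nondegenerate i u hu hu0).1
      have hli : LinearIndependent F ![(⟨u, hu⟩ : D i), ⟨v, hv⟩] := by
        rw [LinearIndependent.pair_iff]
        intro a b hab
        have hab' : a • u + b • v = 0 := congrArg Subtype.val hab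
        rcases h01 a with rfl | rfl <;> rcases h01 b with rfl | rfl <;> simp_all
      have htop := hli.span_eq_top_of_card_eq_finrank (by rw [Fintype.card_fin, hD.decomp.finrank_eq i])
      have hmem : (⟨x, hx⟩ : D i) ∈ Submodule.span F (Set.range ![(⟨u, hu⟩ : D i), ⟨v, hv⟩]) := htop ▸ Submodule.mem_top
      rw [Matrix.range_cons, Matrix.range_cons, Matrix.range_empty, Set.union_empty, Set.singleton_union,
        Submodule.mem_span_pair] at hmem
      obtain ⟨a, b, hab⟩ := hmem
      have hab' : a • u + b • v = x := congrArg Subtype.val hab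
      apply hxu
      rw [← hab', add_left' hf, smul_left' hf, smul_left' hf, hf.alternating, hf.skew v u, h0]
      ring
    simp only [q, hu0, hv0, hsum0, if_false, (h01 (sympForm m F u v)).resolve_left hne]
    linear_combination -h2
  obtain ⟨Q, hQ⟩ : ∃ Q : V₂ → F, ∀ v, Q v = ∑ i, q (w v i) := ⟨_, fun v => rfl⟩
  have hpol : ∀ u v, QuadraticMap.polar Q u v = sympForm m F u v := by
    intro u v
    have hadd : ∀ i, w (u + v) i = w u i + w v i :=
      huniq _ _ (fun i => (D i).add_mem (hw u i) (hw v i)) (by rw [Finset.sum_add_distrib, hwsum, hwsum])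
    have hfuv : sympForm m F u v = ∑ i, sympForm m F (w u i) (w v i) := by
      conv_lhs => rw [← hwsum u, ← hwsum v, ← Transvec.toBilin_apply hf.bilinear, map_sum]
      refine Finset.sum_congr rfl fun i _ => ?_
      rw [map_sum, LinearMap.sum_apply, Finset.sum_eq_single i]
      · rw [Transvec.toBilin_apply]
      · intro j _ hji
        rw [Transvec.toBilin_apply]
        exact hD.orthogonal j i hji _ (hw u j) _ (hw v i)
      · exact fun h => absurd (Finset.mem_univ i) h
    rw [QuadraticMap.polar, hQ, hQ, hQ, hfuv, ← Finset.sum_sub_distrib, ← Finset.sum_sub_distrib]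
    refine Finset.sum_congr rfl fun i _ => ?_
    rw [hadd, hplane i _ (hw u i) _ (hw v i)]
    ring
  have hzero : Q 0 = 0 := by
    rw [hQ]
    refine Finset.sum_eq_zero fun i _ => ?_
    rw [huniq 0 0 (fun i => (D i).zero_mem) (by simp) i]
    simp [q]
  refine ⟨Q, ⟨fun a v => ?_, ?_, ?_⟩, hpol, ?_⟩
  · rcases h01 a with rfl | rfl <;> simp [hzero]
  · rw [funext fun u => funext fun v => hpol u v]; exact hf.bilinear
  · rw [funext fun u => funext fun v => hpol u v]; exact hf.nondegenerate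
  · rintro g ⟨⟨σ, hσ⟩, -⟩
    refine ⟨1, fun v => ?_⟩
    have hcomp := huniq ((g : M₂) *ᵥ v) (fun i => (g : M₂) *ᵥ w v (σ.symm i)) (fun i => by
      have h := Submodule.mem_map_of_mem (f := Matrix.toLin' (g : M₂)) (hw v (σ.symm i))
      rwa [hσ, Equiv.apply_symm_apply, Matrix.toLin'_apply] at h) (by
      rw [← Matrix.mulVec_sum, Equiv.sum_comp σ.symm (w v), hwsum])
    rw [hQ, hQ, Units.val_one, one_mul]
    simp only [hcomp]
    rw [← Equiv.sum_comp σ]
    refine Finset.sum_congr rfl fun i _ => ?_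
    rw [Equiv.symm_apply_apply]
    by_cases h : w v i = 0
    · simp [q, h]
    · simp [q, h, CfsgLib.Transvec.mulVec_ne_zero g h]

/-- A monomial criterion for orthonormal triples over three elements. -/
lemma triple_mono [Fintype F] (hq : Fintype.card F = 3) {fA : (Fin 3 → F) → (Fin 3 → F) → F}
    (hb : IsBilinearForm fA) {u : Fin 3 → (Fin 3 → F)} (hu : ∀ i j, fA (u i) (u j) = if i = j then 1 else 0)
    {v : Fin 3 → (Fin 3 → F)} {s : F} (hs : s ≠ 0) (hv : ∀ i j, fA (v i) (v j) = if i = j then s else 0) (i : Fin 3) :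
    ∃ (k : Fin 3) (d : F), v i = d • u k := by
  classical
  have h3 : (3 : F) = 0 := by simpa [hq] using FiniteField.cast_card_eq_zero F
  have hsq : ∀ a : F, a ≠ 0 → a ^ 2 = 1 := fun a ha => by
    have := FiniteField.pow_card_sub_one_eq_one a ha
    rwa [hq] at this
  let L : (Fin 3 → F) →ₗ[F] (Fin 3 → F) :=
    (LinearMap.proj 0).smulRight (u 0) + (LinearMap.proj 1).smulRight (u 1) + (LinearMap.proj 2).smulRight (u 2)
  have hL : ∀ α, L α = α 0 • u 0 + α 1 • u 1 + α 2 • u 2 := fun α => rfl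
  have hLu : ∀ α k, fA (L α) (u k) = α k := fun α k => by
    rw [hL, hb.add_left, hb.add_left, hb.smul_left, hb.smul_left, hb.smul_left, hu, hu, hu]
    fin_cases k <;> simp
  have hLi : Function.Injective L := fun α β h => funext fun k => by rw [← hLu α k, ← hLu β k, h]
  choose α hα using fun i => LinearMap.injective_iff_surjective.1 hLi (v i)
  have hdot : ∀ i j, α i 0 * α j 0 + α i 1 * α j 1 + α i 2 * α j 2 = if i = j then s else 0 := by
    intro i j
    rw [← hv i j, ← hα i, ← hα j, hL (α j), hb.add_right, hb.add_right, hb.smul_right, hb.smul_right, hb.smul_right,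
      hLu, hLu, hLu]
    ring
  have hs1 : s = 1 := by
    have hM : Matrix.of α * (Matrix.of α)ᵀ = Matrix.diagonal fun _ => s := by
      ext i j
      simp [Matrix.mul_apply, Fin.sum_univ_three, hdot, Matrix.diagonal_apply]
    have h := congrArg Matrix.det hM
    rw [Matrix.det_mul, Matrix.det_transpose, Matrix.det_diagonal, Finset.prod_const, Finset.card_univ,
      Fintype.card_fin, ← sq] at h
    have hd : (Matrix.of α).det ≠ 0 := fun h0 => by
      rw [h0, zero_pow (by norm_num)] at h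
      exact pow_ne_zero 3 hs h.symm
    rw [hsq _ hd] at h
    linear_combination (-h) - s * hsq s hs
  have hnorm : α i 0 ^ 2 + α i 1 ^ 2 + α i 2 ^ 2 = 1 := by
    have := hdot i i
    rw [if_pos rfl, hs1] at this
    linear_combination this
  have hvi : v i = α i 0 • u 0 + α i 1 • u 1 + α i 2 • u 2 := by rw [← hα, hL]
  by_cases h0 : α i 0 = 0 <;> by_cases h1 : α i 1 = 0 <;> by_cases h2 : α i 2 = 0
  · rw [h0, h1, h2] at hnorm; norm_num at hnorm
  · exact ⟨2, α i 2, by rw [hvi, h0, h1]; simp⟩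
  · exact ⟨1, α i 1, by rw [hvi, h0, h2]; simp⟩
  · rw [h0, hsq _ h1, hsq _ h2] at hnorm
    exact absurd (show (1 : F) = 0 by linear_combination hnorm) one_ne_zero
  · exact ⟨0, α i 0, by rw [hvi, h1, h2]; simp⟩
  · rw [h1, hsq _ h0, hsq _ h2] at hnorm
    exact absurd (show (1 : F) = 0 by linear_combination hnorm) one_ne_zero
  · rw [h2, hsq _ h0, hsq _ h1] at hnorm
    exact absurd (show (1 : F) = 0 by linear_combination hnorm) one_ne_zero
  · rw [hsq _ h0, hsq _ h1, hsq _ h2] at hnorm
    exact absurd (show (1 : F) = 0 by linear_combination h3 - hnorm) one_ne_zero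

/-- Over three elements a tensor product with a ternary orthogonal factor permutes three orthogonal subspaces. -/
theorem tensor_three_decomp [Fintype F] (hm : 0 < m) (hq : Fintype.card F = 3) {n₁ : ℕ}
    {e : (Fin m ⊕ Fin m) ≃ Fin n₁ × Fin 3} {P : GL (Fin m ⊕ Fin m) F}
    {f₁ : (Fin n₁ → F) → (Fin n₁ → F) → F} {f₂ : (Fin 3 → F) → (Fin 3 → F) → F}
    (hf₁ : IsSymplecticForm f₁) (hf₂ : IsSymmetricForm f₂)
    (hT : IsTensorFormStructure id (sympForm m F) f₁ f₂ e P) :
    ∃ D : Fin 3 → Submodule F V₂, IsNondegenerateMDecomposition (sympForm m F) n₁ D ∧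
      tensorProductSubgroup n₁ 3 e P ⊓ spGL m F ≤ decompositionStabilizer D := by
  classical
  have hf := isSymplecticForm_sympForm (F := F) m
  have hcard : 2 * m = n₁ * 3 := (tensor_params e hf₁).2.symm
  have hsq : ∀ a : F, a ≠ 0 → a ^ 2 = 1 := fun a ha => by
    have := FiniteField.pow_card_sub_one_eq_one a ha
    rwa [hq] at this
  obtain ⟨c, hc, hcT⟩ := hT
  obtain ⟨ε, u, hε, hu⟩ := Cfsg.Agent.S5667.equal_norm_basis hq hf₂
  obtain ⟨fA, hfA⟩ : ∃ fA : (Fin 3 → F) → (Fin 3 → F) → F, ∀ x y, fA x y = ε * f₂ x y := ⟨_, fun x y => rfl⟩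
  have hbA : IsBilinearForm fA :=
    ⟨fun x y v => by rw [hfA, hfA, hfA, hf₂.bilinear.add_left, mul_add],
     fun a x v => by rw [hfA, hfA, hf₂.bilinear.smul_left]; ring,
     fun v x y => by rw [hfA, hfA, hfA, hf₂.bilinear.add_right, mul_add],
     fun a v x => by rw [hfA, hfA, hf₂.bilinear.smul_right]; ring⟩
  have hu' : ∀ i j, fA (u i) (u j) = if i = j then 1 else 0 := fun i j => by
    rw [hfA, hu]
    split_ifs
    · rw [← sq, hsq ε hε]
    · rw [mul_zero]
  obtain ⟨τ, hτ⟩ : ∃ τ : (Fin 3 → F) →ₗ[F] (Fin n₁ → F) →ₗ[F] V₂, ∀ u y,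
      τ u y = (P : M₂) *ᵥ ((fun p => y p.1 * u p.2) ∘ e) := by
    refine ⟨LinearMap.mk₂ F (fun u y => (P : M₂) *ᵥ ((fun p => y p.1 * u p.2) ∘ e)) ?_ ?_ ?_ ?_, fun u y => rfl⟩
    · intro a b y; rw [← Matrix.mulVec_add]; congr 1; funext l; simp [mul_add]
    · intro k a y; rw [← Matrix.mulVec_smul]; congr 1; funext l; simp [mul_left_comm]
    · intro a y z; rw [← Matrix.mulVec_add]; congr 1; funext l; simp [add_mul]
    · intro k a y; rw [← Matrix.mulVec_smul]; congr 1; funext l; simp [mul_assoc]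
  have hform : ∀ a a' y y', sympForm m F (τ a y) (τ a' y') = c * ε * (fA a a' * f₁ y y') := fun a a' y y' => by
    rw [hτ, hτ, hcT, formOfGram_kronecker id (fun _ _ => rfl),
      ← form_eq (σ := id) hf₁.bilinear.add_left hf₁.bilinear.smul_left hf₁.bilinear.add_right hf₁.bilinear.smul_right,
      ← form_eq (σ := id) hf₂.bilinear.add_left hf₂.bilinear.smul_left hf₂.bilinear.add_right hf₂.bilinear.smul_right,
      hfA]
    linear_combination (-(c * f₁ y y' * f₂ a a')) * hsq ε hε
  have hcε : c * ε ≠ 0 := mul_ne_zero hc hε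
  have hinj : ∀ i, Function.Injective (τ (u i)) := fun i => (injective_iff_map_eq_zero _).mpr fun y hy => by
    by_contra h0
    obtain ⟨y', hy'⟩ := (hf₁.nondegenerate y h0).2
    have h := hform (u i) (u i) y y'
    rw [hy, hu', if_pos rfl, one_mul, zero_left' hf] at h
    exact mul_ne_zero hcε hy' h.symm
  obtain ⟨D, hD⟩ : ∃ D : Fin 3 → Submodule F V₂, ∀ i, D i = LinearMap.range (τ (u i)) := ⟨_, fun i => rfl⟩
  have hdim : ∀ i, Module.finrank F (D i) = n₁ := fun i => by
    rw [hD, LinearMap.finrank_range_of_inj (hinj i), Module.finrank_fin_fun]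
  refine ⟨D, orth_decomp_of (by norm_num) (by omega) hdim (fun i => ?_) (fun i j hij => ?_) (by omega), ?_⟩
  · rintro w hw hw0
    rw [hD] at hw
    obtain ⟨y, rfl⟩ := hw
    have hy0 : y ≠ 0 := fun h => hw0 (by rw [h, map_zero])
    obtain ⟨⟨a, ha⟩, b, hb⟩ := hf₁.nondegenerate y hy0
    refine ⟨⟨τ (u i) a, by rw [hD]; exact ⟨a, rfl⟩, ?_⟩, τ (u i) b, by rw [hD]; exact ⟨b, rfl⟩, ?_⟩ <;>
      rw [hform, hu', if_pos rfl, one_mul]
    · exact mul_ne_zero hcε ha
    · exact mul_ne_zero hcε hb
  · rw [hD, hD]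
    rintro _ ⟨y, rfl⟩ _ ⟨y', rfl⟩
    rw [hform, hu', if_neg hij, zero_mul, mul_zero]
  rintro g ⟨hg, hgI⟩
  obtain ⟨A, B, -, -, hAB⟩ := tensor_mem e P hg
  have hact : ∀ a y, (g : M₂) *ᵥ τ a y = τ (B a) (A y) := fun a y => by rw [hτ, hτ, hAB]
  have key : ∀ i j y y', fA (B (u i)) (B (u j)) * f₁ (A y) (A y') = fA (u i) (u j) * f₁ y y' := by
    intro i j y y'
    have h : sympForm m F ((g : M₂) *ᵥ τ (u i) y) ((g : M₂) *ᵥ τ (u j) y') = sympForm m F (τ (u i) y) (τ (u j) y') :=
      hgI _ _
    rw [hact, hact, hform, hform] at h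
    exact mul_left_cancel₀ hcε h
  obtain ⟨y₀, hy₀⟩ : ∃ y : Fin n₁ → F, y ≠ 0 := ⟨Pi.single ⟨0, by omega⟩ 1, by simp⟩
  obtain ⟨y₂, h02⟩ := (hf₁.nondegenerate y₀ hy₀).2
  have hA0 : f₁ (A y₀) (A y₂) ≠ 0 := fun h => by
    have := key 0 0 y₀ y₂
    rw [h, mul_zero, hu', if_pos rfl, one_mul] at this
    exact h02 this.symm
  obtain ⟨s, hs⟩ : ∃ s, s = f₁ y₀ y₂ / f₁ (A y₀) (A y₂) := ⟨_, rfl⟩
  have hs0 : s ≠ 0 := hs ▸ div_ne_zero h02 hA0
  have hv : ∀ i j, fA (B (u i)) (B (u j)) = if i = j then s else 0 := by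
    intro i j
    have h := key i j y₀ y₂
    rw [hu'] at h
    split_ifs at h ⊢ with hij
    · rw [hs, eq_div_iff hA0]; rw [one_mul] at h; exact h
    · rw [zero_mul] at h; exact (mul_eq_zero.1 h).resolve_right hA0
  choose π d hπ using triple_mono hq hbA hu' (v := fun i => B (u i)) hs0 hv
  have hd : ∀ i, d i ≠ 0 := fun i h => by
    have := hv i i
    rw [show B (u i) = d i • u (π i) from hπ i, h, hbA.smul_left, zero_mul, if_pos rfl] at this
    exact hs0 this.symm
  have hπi : Function.Injective π := fun i j hij => by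
    by_contra hne
    have := hv i j
    rw [show B (u i) = d i • u (π i) from hπ i, show B (u j) = d j • u (π j) from hπ j, hij, hbA.smul_left,
      hbA.smul_right, hu', if_pos rfl, if_neg hne, mul_one, mul_eq_zero] at this
    exact this.elim (hd i) (hd j)
  refine ⟨Equiv.ofBijective π (Finite.injective_iff_bijective.1 hπi), fun i => Submodule.eq_of_le_of_finrank_eq ?_ ?_⟩
  · rintro _ ⟨x, hx, rfl⟩
    rw [hD] at hx
    obtain ⟨y, rfl⟩ := hx
    rw [Matrix.toLin'_apply, hact, show B (u i) = d i • u (π i) from hπ i, map_smul, LinearMap.smul_apply,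
      ← map_smul, hD]
    exact ⟨_, rfl⟩
  · rw [Techniques.AschPrime.finrank_map_gl, hdim, hdim]

end CfsgLib.Classical22.Asch

namespace CfsgLib.Classical22.Asch

open Matrix Cfsg Cfsg.Geo CfsgLib.Techniques.AschPrime CfsgLib.Transvec
open scoped MatrixGroups

variable {m : ℕ} {F : Type*} [Field F] [Fintype F]

/-- A maximal decomposition into planes needs three elements, or is a quadratic member. -/
theorem planes_cases (hm : 2 ≤ m) {H : Subgroup (GL (Fin m ⊕ Fin m) F)} (hH : IsMaximalIn (spGL m F) H) {t : ℕ}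
    {D : Fin t → Submodule F (Fin m ⊕ Fin m → F)} (hD : IsNondegenerateMDecomposition (sympForm m F) 2 D)
    (heq : H = decompositionStabilizer D ⊓ spGL m F) :
    3 ≤ Fintype.card F ∨ (¬ Odd (Fintype.card F) ∧ ∃ Q : (Fin m ⊕ Fin m → F) → F, IsNondegenerateQuadraticForm Q ∧
      (∀ u v, QuadraticMap.polar Q u v = sympForm m F u v) ∧ H = quadSimilarityGroup Q ⊓ spGL m F) := by
  by_cases h3 : 3 ≤ Fintype.card F
  · exact Or.inl h3
  have h1 := Fintype.one_lt_card (α := F)
  have hq : Fintype.card F = 2 := by omega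
  obtain ⟨Q, hQ, hpol, hle⟩ := planes_two_quad hD hq
  have heven : ¬ Odd (Fintype.card F) := by rw [hq]; decide
  exact Or.inr ⟨heven, Q, hQ, hpol, sp_max_eq hm hH
    (Or.inl (Or.inr (Or.inr (Or.inr (Or.inr (Or.inr (Or.inr ⟨Q, heven, hQ, hpol, rfl⟩)))))))
    (heq.le.trans hle)⟩

/-- A maximal tensor product with a ternary factor needs five elements, or permutes three subspaces. -/
theorem tensor_three_cases (hm : 2 ≤ m) {H : Subgroup (GL (Fin m ⊕ Fin m) F)} (hH : IsMaximalIn (spGL m F) H)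
    (hodd : Odd (Fintype.card F)) {n₁ : ℕ} {e : (Fin m ⊕ Fin m) ≃ Fin n₁ × Fin 3} {P : GL (Fin m ⊕ Fin m) F}
    {f₁ : (Fin n₁ → F) → (Fin n₁ → F) → F} {f₂ : (Fin 3 → F) → (Fin 3 → F) → F} (hf₁ : IsSymplecticForm f₁)
    (hf₂ : IsSymmetricForm f₂) (hT : IsTensorFormStructure id (sympForm m F) f₁ f₂ e P)
    (heq : H = tensorProductSubgroup n₁ 3 e P ⊓ spGL m F) :
    5 ≤ Fintype.card F ∨ (3 ≤ Fintype.card F ∧ ∃ D : Fin 3 → Submodule F (Fin m ⊕ Fin m → F),
      IsNondegenerateMDecomposition (sympForm m F) n₁ D ∧ H = decompositionStabilizer D ⊓ spGL m F) := by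
  by_cases h5 : 5 ≤ Fintype.card F
  · exact Or.inl h5
  have h1 := Fintype.one_lt_card (α := F)
  obtain ⟨j, hj⟩ := hodd
  have hq : Fintype.card F = 3 := by omega
  obtain ⟨D, hD, hle⟩ := tensor_three_decomp (by omega) hq hf₁ hf₂ hT
  exact Or.inr ⟨by omega, D, hD, sp_max_eq hm hH
    (Or.inl (Or.inr (Or.inr (Or.inl ⟨3, n₁, D, hD, rfl⟩)))) (heq.le.trans hle)⟩

end CfsgLib.Classical22.Asch
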