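/-
In dimension four over three elements the stabiliser of two complementary totally singular planes stabilises two
orthogonal non-degenerate planes.
-/
import Cfsg.Agent.Lib.Classical22.Asch.SpSmall
import Cfsg.Agent.Lib.Classical22.Asch.SpPlusFour

set_option autoImplicit false
set_option maxHeartbeats 800000

namespace CfsgLib.Classical22.Asch

open Matrix Cfsg Cfsg.Geo CfsgLib.Techniques.AschPrime CfsgLib.Transvec
open scoped MatrixGroups

variable {F : Type*} [Field F] [Fintype F]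

local notation "V₄" => (Fin 2 ⊕ Fin 2 → F)
local notation "M₄" => Matrix (Fin 2 ⊕ Fin 2) (Fin 2 ⊕ Fin 2) F

/-- Two complementary totally singular planes give two orthogonal planes permuted by their stabiliser. -/
theorem lagrangian_pair_three (hq : Fintype.card F = 3) {D : Fin 2 → Submodule F V₄}
    (hD : IsMDecomposition 2 D) (hts : ∀ i, IsTotallySingularFor (sympForm 2 F) (D i)) :
    ∃ D' : Fin 2 → Submodule F V₄, IsNondegenerateMDecomposition (sympForm 2 F) 2 D' ∧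
      decompositionStabilizer D ⊓ spGL 2 F ≤ decompositionStabilizer D' := by
  classical
  have hf := isSymplecticForm_sympForm (F := F) 2
  have hb := hf.bilinear
  have h3 := three_zero hq
  have h2 := two_nonzero_of_three hq
  have hsplit : ∀ v, ∃ x ∈ D 0, ∃ y ∈ D 1, x + y = v := fun v => by
    rw [← Submodule.mem_sup]
    have h : v ∈ iSup D := by rw [hD.iSup_eq_top]; exact Submodule.mem_top
    refine SetLike.le_def.mp (iSup_le fun i => ?_) h
    fin_cases i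
    · exact le_sup_left
    · exact le_sup_right
  have hext : ∀ z, (∀ x ∈ D 0, sympForm 2 F x z = 0) → (∀ y ∈ D 1, sympForm 2 F y z = 0) → z = 0 := by
    intro z hx hy
    by_contra h0
    obtain ⟨v, hv⟩ := (hf.nondegenerate z h0).1
    obtain ⟨x, hx', y, hy', rfl⟩ := hsplit v
    exact hv (by rw [hb.add_left, hx x hx', hy y hy', add_zero])
  obtain ⟨β⟩ : Nonempty (Module.Basis (Fin 2) F (D 0)) := ⟨Module.finBasisOfFinrankEq F (D 0) (hD.finrank_eq 0)⟩
  obtain ⟨u, hu⟩ : ∃ u : Fin 2 → V₄, ∀ i, u i = (β i : V₄) := ⟨_, fun i => rfl⟩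
  have huD : ∀ i, u i ∈ D 0 := fun i => hu i ▸ (β i).2
  have hli : ∀ a c : F, a • u 0 + c • u 1 = 0 → a = 0 ∧ c = 0 := fun a c h => by
    have h' := Fintype.linearIndependent_iff.mp β.linearIndependent ![a, c] (Subtype.ext (by
      simpa [Fin.sum_univ_two, ← hu] using h))
    exact ⟨h' 0, h' 1⟩
  have hdual : ∀ {p r : V₄}, p ∈ D 0 → r ∈ D 0 → r ≠ 0 → (∀ c : F, p - c • r ≠ 0) →
      ∃ w ∈ D 1, sympForm 2 F p w = 1 ∧ sympForm 2 F r w = 0 := by
    intro p r hp hr hr0 hpr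
    obtain ⟨w, hw1, hw2⟩ := dual_pair hb hf.nondegenerate hr0 hpr
    obtain ⟨x, hx, y, hy, rfl⟩ := hsplit w
    rw [hb.add_left, hts 0 x hx p hp, zero_add] at hw1
    rw [hb.add_left, hts 0 x hx r hr, zero_add] at hw2
    exact ⟨-y, (D 1).neg_mem hy, by rw [← neg_one_smul F y, hb.smul_right, hf.skew p y, hw1]; ring,
      by rw [← neg_one_smul F y, hb.smul_right, hf.skew r y, hw2]; ring⟩
  obtain ⟨w₀, hw₀D, e00, e10⟩ := hdual (huD 0) (huD 1) (fun h => one_ne_zero (hli 0 1 (by simp [h])).2)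
    (fun c h => one_ne_zero (hli 1 (-c) (by rw [one_smul, neg_smul, ← sub_eq_add_neg, h])).1)
  obtain ⟨w₁, hw₁D, e11, e01⟩ := hdual (huD 1) (huD 0) (fun h => one_ne_zero (hli 1 0 (by simp [h])).1)
    (fun c h => one_ne_zero (hli (-c) 1 (by rw [one_smul, neg_smul, add_comm, ← sub_eq_add_neg, h])).2)
  have hts0 := hts 0
  have hts1 := hts 1
  have c00 : sympForm 2 F (u 0) (u 1) = 0 := hts0 _ (huD 0) _ (huD 1)
  have c11 : sympForm 2 F w₀ w₁ = 0 := hts1 _ hw₀D _ hw₁D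
  have d00 : sympForm 2 F w₀ (u 0) = -1 := by rw [hf.skew, e00]
  have d01 : sympForm 2 F w₀ (u 1) = 0 := by rw [hf.skew, e10, neg_zero]
  have d10 : sympForm 2 F w₁ (u 0) = 0 := by rw [hf.skew, e01, neg_zero]
  have d11 : sympForm 2 F w₁ (u 1) = -1 := by rw [hf.skew, e11]
  have c00' : sympForm 2 F (u 1) (u 0) = 0 := by rw [hf.skew, c00, neg_zero]
  have c11' : sympForm 2 F w₁ w₀ = 0 := by rw [hf.skew, c11, neg_zero]
  have hexp0 : ∀ x ∈ D 0, x = sympForm 2 F x w₀ • u 0 + sympForm 2 F x w₁ • u 1 := by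
    intro x hx
    obtain ⟨i, j, rfl⟩ : ∃ i j : F, i • u 0 + j • u 1 = x := by
      refine ⟨β.repr ⟨x, hx⟩ 0, β.repr ⟨x, hx⟩ 1, ?_⟩
      have h := congrArg Subtype.val (β.sum_repr ⟨x, hx⟩)
      simp only [Fin.sum_univ_two, Submodule.coe_add, Submodule.coe_smul, ← hu] at h
      exact h
    congr 2 <;> (simp only [hb.add_left, hb.smul_left, e00, e01, e10, e11]; ring)
  have hexp1 : ∀ y ∈ D 1, y = sympForm 2 F (u 0) y • w₀ + sympForm 2 F (u 1) y • w₁ := by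
    intro y hy
    rw [← sub_eq_zero]
    refine hext _ (fun x hx => ?_) fun y' hy' => hts1 y' hy' _
      ((D 1).sub_mem hy ((D 1).add_mem ((D 1).smul_mem _ hw₀D) ((D 1).smul_mem _ hw₁D)))
    rw [hexp0 x hx, sub_eq_add_neg, ← neg_one_smul F (_ + _)]
    simp only [hb.add_left, hb.add_right, hb.smul_left, hb.smul_right, e00, e01, e10, e11]
    ring
  obtain ⟨a, ha⟩ : ∃ a : F → V₄, ∀ c, a c = u 0 + c • w₁ := ⟨_, fun c => rfl⟩
  obtain ⟨b, hbd⟩ : ∃ b : F → V₄, ∀ c, b c = u 1 + (-c) • w₀ := ⟨_, fun c => rfl⟩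
  obtain ⟨A, hA⟩ : ∃ A : F → Submodule F V₄, ∀ c, A c = Submodule.span F {a c, b c} := ⟨_, fun c => rfl⟩
  have hcomb : ∀ c x, x ∈ A c ↔ ∃ p r : F, p • a c + r • b c = x := fun c x => by rw [hA, Submodule.mem_span_pair]
  have hpair : ∀ c c' p r p' r', sympForm 2 F (p • a c + r • b c) (p' • a c' + r' • b c') =
      (c + c') * (r * p' - p * r') := by
    intros
    simp only [ha, hbd, hb.add_left, hb.add_right, hb.smul_left, hb.smul_right, hf.alternating, e00, e01, e10, e11, d00,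
      d01, d10, d11, c00, c00', c11, c11']
    ring
  have hndA : ∀ c : F, c ≠ 0 → IsNondegenerateOn (sympForm 2 F) (A c) ∧ Module.finrank F (A c) = 2 := by
    intro c hc
    have hcc : c + c ≠ 0 := by rw [← two_mul]; exact mul_ne_zero h2 hc
    refine ⟨fun w hw hw0 => ?_, ?_⟩
    · obtain ⟨p, r, rfl⟩ := (hcomb c w).mp hw
      by_cases hr : r = 0
      · have hp : p ≠ 0 := fun hp => hw0 (by rw [hp, hr, zero_smul, zero_smul, add_zero])
        refine ⟨⟨_, (hcomb c _).mpr ⟨0, 1, rfl⟩, ?_⟩, ⟨_, (hcomb c _).mpr ⟨0, 1, rfl⟩, ?_⟩⟩ <;>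
          rw [hpair, hr] <;> simp [hcc, hp]
      · refine ⟨⟨_, (hcomb c _).mpr ⟨1, 0, rfl⟩, ?_⟩, ⟨_, (hcomb c _).mpr ⟨1, 0, rfl⟩, ?_⟩⟩ <;>
          rw [hpair] <;> simp [hcc, hr]
    · have hli' : LinearIndependent F ![a c, b c] := by
        rw [LinearIndependent.pair_iff]
        intro p r h
        have h1 := hpair c c p r 1 0
        have h2' := hpair c c p r 0 1
        rw [h, zero_left' hf, mul_one, mul_zero, sub_zero, eq_comm, mul_eq_zero] at h1
        rw [h, zero_left' hf, mul_zero, mul_one, zero_sub, eq_comm, mul_eq_zero, neg_eq_zero] at h2'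
        exact ⟨h2'.resolve_left hcc, h1.resolve_left hcc⟩
      have := finrank_span_eq_card hli'
      rw [Matrix.range_cons, Matrix.range_cons, Matrix.range_empty, Set.union_empty, Set.singleton_union] at this
      rw [hA]
      simpa using this
  obtain ⟨s, hs⟩ : ∃ s : Fin 2 → F, s = ![1, -1] := ⟨_, rfl⟩
  have hs0 : ∀ i, s i ≠ 0 := fun i => by fin_cases i <;> simp [hs]
  refine ⟨fun i => A (s i), orth_decomp_of le_rfl (by norm_num) (fun i => (hndA _ (hs0 i)).2)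
    (fun i => (hndA _ (hs0 i)).1) (fun i j hij => ?_) (by norm_num), ?_⟩
  · intro x hx y hy
    obtain ⟨p, r, rfl⟩ := (hcomb _ x).mp hx
    obtain ⟨p', r', rfl⟩ := (hcomb _ y).mp hy
    have : s i + s j = 0 := by fin_cases i <;> fin_cases j <;> simp [hs] at hij ⊢
    rw [hpair, this, zero_mul]
  rintro g ⟨⟨σ, hσ⟩, hg⟩
  have hmap : ∀ i, ∀ v ∈ D i, (g : M₄) *ᵥ v ∈ D (σ i) := fun i v hv => by
    rw [← hσ i, ← Matrix.toLin'_apply]
    exact Submodule.mem_map_of_mem hv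
  have hgf : ∀ x y, sympForm 2 F ((g : M₄) *ᵥ x) ((g : M₄) *ᵥ y) = sympForm 2 F x y := hg
  -- the image of the standard frame
  obtain ⟨U₀, hU₀⟩ : ∃ v, v = (g : M₄) *ᵥ u 0 := ⟨_, rfl⟩
  obtain ⟨U₁, hU₁⟩ : ∃ v, v = (g : M₄) *ᵥ u 1 := ⟨_, rfl⟩
  obtain ⟨W₀, hW₀⟩ : ∃ v, v = (g : M₄) *ᵥ w₀ := ⟨_, rfl⟩
  obtain ⟨W₁, hW₁⟩ : ∃ v, v = (g : M₄) *ᵥ w₁ := ⟨_, rfl⟩
  have f00 : sympForm 2 F U₀ W₀ = 1 := by rw [hU₀, hW₀, hgf, e00]
  have f01 : sympForm 2 F U₀ W₁ = 0 := by rw [hU₀, hW₁, hgf, e01]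
  have f10 : sympForm 2 F U₁ W₀ = 0 := by rw [hU₁, hW₀, hgf, e10]
  have f11 : sympForm 2 F U₁ W₁ = 1 := by rw [hU₁, hW₁, hgf, e11]
  obtain ⟨ε, hε, hAmap⟩ : ∃ ε : F, (ε = 1 ∨ ε = -1) ∧ ∀ c : F, (c = 1 ∨ c = -1) →
      ∀ x ∈ A c, (g : M₄) *ᵥ x ∈ A (ε * c) := by
    have hsig : ∀ p : Equiv.Perm (Fin 2), (p 0 = 0 ∧ p 1 = 1) ∨ (p 0 = 1 ∧ p 1 = 0) := by decide
    rcases hsig σ with ⟨h0, h1⟩ | ⟨h0, h1⟩
    · have m0 : U₀ ∈ D 0 := by have := hmap 0 _ (huD 0); rwa [h0, ← hU₀] at this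
      have m1 : U₁ ∈ D 0 := by have := hmap 0 _ (huD 1); rwa [h0, ← hU₁] at this
      have n0 : W₀ ∈ D 1 := by have := hmap 1 _ hw₀D; rwa [h1, ← hW₀] at this
      have n1 : W₁ ∈ D 1 := by have := hmap 1 _ hw₁D; rwa [h1, ← hW₁] at this
      obtain ⟨p, hp⟩ : ∃ p, p = sympForm 2 F U₀ w₀ := ⟨_, rfl⟩
      obtain ⟨q, hq'⟩ : ∃ q, q = sympForm 2 F U₀ w₁ := ⟨_, rfl⟩
      obtain ⟨r, hr⟩ : ∃ r, r = sympForm 2 F U₁ w₀ := ⟨_, rfl⟩
      obtain ⟨t, ht⟩ : ∃ t, t = sympForm 2 F U₁ w₁ := ⟨_, rfl⟩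
      obtain ⟨x, hx⟩ : ∃ x, x = sympForm 2 F (u 0) W₀ := ⟨_, rfl⟩
      obtain ⟨y, hy⟩ : ∃ y, y = sympForm 2 F (u 1) W₀ := ⟨_, rfl⟩
      obtain ⟨z, hz⟩ : ∃ z, z = sympForm 2 F (u 0) W₁ := ⟨_, rfl⟩
      obtain ⟨w, hw⟩ : ∃ w, w = sympForm 2 F (u 1) W₁ := ⟨_, rfl⟩
      have eU0 : U₀ = p • u 0 + q • u 1 := hp ▸ hq' ▸ hexp0 _ m0
      have eU1 : U₁ = r • u 0 + t • u 1 := hr ▸ ht ▸ hexp0 _ m1
      have eW0 : W₀ = x • w₀ + y • w₁ := hx ▸ hy ▸ hexp1 _ n0
      have eW1 : W₁ = z • w₀ + w • w₁ := hz ▸ hw ▸ hexp1 _ n1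
      simp only [eU0, eU1, eW0, eW1, hb.add_left, hb.add_right, hb.smul_left, hb.smul_right, e00, e01, e10, e11] at f00 f01 f10 f11
      have hδ : (p * t - q * r) * (x * w - y * z) = 1 := by
        linear_combination (r * z + t * w) * f00 - (r * x + t * y) * f01 + f11
      refine ⟨x * w - y * z, ?_, fun c hc v hv => ?_⟩
      · rcases three_values hq (x * w - y * z) with h | h | h
        · rw [h, mul_zero] at hδ; exact absurd hδ zero_ne_one
        · exact Or.inl h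
        · exact Or.inr h
      obtain ⟨i, j, rfl⟩ := (hcomb c v).mp hv
      refine (hcomb _ _).mpr ⟨i * p + j * r, i * q + j * t, ?_⟩
      rw [mulVec_add, mulVec_smul, mulVec_smul, ha, hbd, ha, hbd, mulVec_add, mulVec_add, mulVec_smul, mulVec_smul, ← hU₀,
        ← hU₁, ← hW₀, ← hW₁, eU0, eU1, eW0, eW1]
      have k1 : p * (x * w - y * z) = w := by linear_combination w * f00 - y * f01
      have k2 : q * (x * w - y * z) = -z := by linear_combination x * f01 - z * f00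
      have k3 : r * (x * w - y * z) = -y := by linear_combination w * f10 - y * f11
      have k4 : t * (x * w - y * z) = x := by linear_combination x * f11 - z * f10
      match_scalars
      all_goals first
        | linear_combination (c * i) * k1 + (c * j) * k3
        | linear_combination (c * i) * k2 + (c * j) * k4
        | linear_combination -(c * i) * k2 - (c * j) * k4
        | ring
    · have m0 : U₀ ∈ D 1 := by have := hmap 0 _ (huD 0); rwa [h0, ← hU₀] at this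
      have m1 : U₁ ∈ D 1 := by have := hmap 0 _ (huD 1); rwa [h0, ← hU₁] at this
      have n0 : W₀ ∈ D 0 := by have := hmap 1 _ hw₀D; rwa [h1, ← hW₀] at this
      have n1 : W₁ ∈ D 0 := by have := hmap 1 _ hw₁D; rwa [h1, ← hW₁] at this
      obtain ⟨p, hp⟩ : ∃ p, p = sympForm 2 F (u 0) U₀ := ⟨_, rfl⟩
      obtain ⟨q, hq'⟩ : ∃ q, q = sympForm 2 F (u 1) U₀ := ⟨_, rfl⟩
      obtain ⟨r, hr⟩ : ∃ r, r = sympForm 2 F (u 0) U₁ := ⟨_, rfl⟩
      obtain ⟨t, ht⟩ : ∃ t, t = sympForm 2 F (u 1) U₁ := ⟨_, rfl⟩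
      obtain ⟨x, hx⟩ : ∃ x, x = sympForm 2 F W₀ w₀ := ⟨_, rfl⟩
      obtain ⟨y, hy⟩ : ∃ y, y = sympForm 2 F W₀ w₁ := ⟨_, rfl⟩
      obtain ⟨z, hz⟩ : ∃ z, z = sympForm 2 F W₁ w₀ := ⟨_, rfl⟩
      obtain ⟨w, hw⟩ : ∃ w, w = sympForm 2 F W₁ w₁ := ⟨_, rfl⟩
      have eU0 : U₀ = p • w₀ + q • w₁ := hp ▸ hq' ▸ hexp1 _ m0
      have eU1 : U₁ = r • w₀ + t • w₁ := hr ▸ ht ▸ hexp1 _ m1
      have eW0 : W₀ = x • u 0 + y • u 1 := hx ▸ hy ▸ hexp0 _ n0
      have eW1 : W₁ = z • u 0 + w • u 1 := hz ▸ hw ▸ hexp0 _ n1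
      simp only [eU0, eU1, eW0, eW1, hb.add_left, hb.add_right, hb.smul_left, hb.smul_right, d00, d01, d10, d11] at f00 f01 f10 f11
      have hδ : (p * t - q * r) * (x * w - y * z) = 1 := by
        linear_combination (-(r * z + t * w)) * f00 + (r * x + t * y) * f01 + f11
      refine ⟨p * t - q * r, ?_, fun c hc v hv => ?_⟩
      · rcases three_values hq (p * t - q * r) with h | h | h
        · rw [h, zero_mul] at hδ; exact absurd hδ zero_ne_one
        · exact Or.inl h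
        · exact Or.inr h
      obtain ⟨i, j, rfl⟩ := (hcomb c v).mp hv
      refine (hcomb _ _).mpr ⟨i * (c * z) - j * (c * x), i * (c * w) - j * (c * y), ?_⟩
      rw [mulVec_add, mulVec_smul, mulVec_smul, ha, hbd, ha, hbd, mulVec_add, mulVec_add, mulVec_smul, mulVec_smul, ← hU₀,
        ← hU₁, ← hW₀, ← hW₁, eU0, eU1, eW0, eW1]
      have hcc : c * c = 1 := by rcases hc with rfl | rfl <;> ring
      have k1 : z * (p * t - q * r) = q := by linear_combination q * f11 - t * f01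
      have k2 : w * (p * t - q * r) = -p := by linear_combination r * f01 - p * f11
      have k3 : x * (p * t - q * r) = -t := by linear_combination q * f10 - t * f00
      have k4 : y * (p * t - q * r) = r := by linear_combination r * f00 - p * f10
      match_scalars
      all_goals first
        | linear_combination (i * q + j * t) * hcc + (c * c * i) * k1 - (c * c * j) * k3
        | linear_combination (i * p + j * r) * hcc - (c * c * i) * k2 + (c * c * j) * k4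
        | ring
  have hσ' : ∃ σ' : Equiv.Perm (Fin 2), ∀ i, s (σ' i) = ε * s i := by
    rcases hε with rfl | rfl
    · exact ⟨1, fun i => (one_mul _).symm⟩
    · exact ⟨Equiv.swap 0 1, fun i => by fin_cases i <;> simp [hs]⟩
  obtain ⟨σ', hσ'⟩ := hσ'
  refine ⟨σ', fun i => Submodule.eq_of_le_of_finrank_eq ?_ ?_⟩
  · rintro _ ⟨v, hv, rfl⟩
    rw [Matrix.toLin'_apply]
    dsimp only
    rw [hσ']
    exact hAmap _ (by fin_cases i <;> simp [hs]) v hv
  · rw [Techniques.AschPrime.finrank_map_gl, (hndA _ (hs0 _)).2, (hndA _ (hs0 _)).2]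

end CfsgLib.Classical22.Asch
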