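/-
In dimension four over three elements the normaliser of a quadratic field with skew generator is the normaliser of a
group of symplectic type.
-/
import Cfsg.Agent.Lib.Classical22.Asch.SpPlusFour
import Cfsg.Agent.Lib.Classical22.Asch.SpSign

set_option autoImplicit false
set_option maxHeartbeats 800000

namespace CfsgLib.Classical22.Asch

open Matrix Cfsg Cfsg.Geo CfsgLib.Techniques.AschPrime CfsgLib.Transvec
open scoped MatrixGroups Kronecker

variable {F : Type*} [Field F] [Fintype F]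

local notation "ι₄" => (Fin 2 ⊕ Fin 2)
local notation "V₄" => (Fin 2 ⊕ Fin 2 → F)
local notation "M₄" => Matrix (Fin 2 ⊕ Fin 2) (Fin 2 ⊕ Fin 2) F
local notation "M₂" => Matrix (Fin 2) (Fin 2) F
local notation "Mp" => Matrix (Fin 2 × Fin 2) (Fin 2 × Fin 2) F
local notation "rho" => (!![(0 : F), -1; 1, 0] : Matrix (Fin 2) (Fin 2) F)

/-- The orthogonal two-by-two matrices of trace zero. -/
def orthSet (F : Type*) [Field F] : Set (Matrix (Fin 2) (Fin 2) F) := {Y | Yᵀ * Y = 1 ∧ Matrix.trace Y = 0}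

/-- Over three elements there are six of them. -/
lemma orthSet_cases (hq : Fintype.card F = 3) {Y : M₂} (hY : Y ∈ orthSet F) :
    ∃ ε : F, (ε = 1 ∨ ε = -1) ∧ (Y = ε • rho ∨ Y = ε • !![1, 0; 0, -1] ∨ Y = ε • !![0, 1; 1, 0]) := by
  have h3 := three_zero hq
  obtain ⟨a, b, c, rfl⟩ : ∃ a b c, Y = !![a, b; c, -a] := by
    refine ⟨Y 0 0, Y 0 1, Y 1 0, ?_⟩
    have h := hY.2
    rw [Matrix.trace_fin_two] at h
    ext i j
    fin_cases i <;> fin_cases j <;> simp
    linear_combination h
  have e00 := congrFun (congrFun hY.1 0) 0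
  have e01 := congrFun (congrFun hY.1 0) 1
  have e11 := congrFun (congrFun hY.1 1) 1
  simp [Matrix.mul_apply, Fin.sum_univ_two] at e00 e01 e11
  rcases three_values hq a with rfl | rfl | rfl <;> rcases three_values hq b with rfl | rfl | rfl <;>
    rcases three_values hq c with rfl | rfl | rfl <;>
    first
    | (exfalso; apply one_ne_zero (α := F); linear_combination e00 + h3)
    | (exfalso; apply one_ne_zero (α := F); linear_combination -e00)
    | (exfalso; apply one_ne_zero (α := F); linear_combination e00)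
    | (exfalso; apply one_ne_zero (α := F); linear_combination e11)
    | (exfalso; apply one_ne_zero (α := F); linear_combination -e11)
    | (exfalso; apply one_ne_zero (α := F); linear_combination e01)
    | (exfalso; apply one_ne_zero (α := F); linear_combination -e01)
    | (exfalso; apply one_ne_zero (α := F); linear_combination e01 + h3)
    | (exfalso; apply one_ne_zero (α := F); linear_combination -e01 + h3)
    | (refine ⟨1, Or.inl rfl, ?_⟩; simp; done)
    | (refine ⟨-1, Or.inr rfl, ?_⟩; simp; done)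

lemma orthSet_sq (hq : Fintype.card F = 3) {Y : M₂} (hY : Y ∈ orthSet F) : Y * Y = 1 ∨ Y * Y = -1 := by
  obtain ⟨ε, hε, hY'⟩ := orthSet_cases hq hY
  have hεε : ε * ε = 1 := by rcases hε with rfl | rfl <;> ring
  rcases hY' with rfl | rfl | rfl
  · right; rw [smul_mul_smul_comm, hεε, one_smul]
    ext i j; fin_cases i <;> fin_cases j <;> simp [Matrix.mul_apply, Fin.sum_univ_two]
  all_goals
    left; rw [smul_mul_smul_comm, hεε, one_smul]
    ext i j; fin_cases i <;> fin_cases j <;> simp [Matrix.mul_apply, Fin.sum_univ_two]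

lemma orthSet_comm (hq : Fintype.card F = 3) {X Y : M₂} (hX : X ∈ orthSet F) (hY : Y ∈ orthSet F) :
    X * Y = Y * X ∨ X * Y = -(Y * X) := by
  obtain ⟨ε, -, hX'⟩ := orthSet_cases hq hX
  obtain ⟨δ, -, hY'⟩ := orthSet_cases hq hY
  rcases hX' with rfl | rfl | rfl <;> rcases hY' with rfl | rfl | rfl <;>
    first
    | (left; rw [smul_mul_smul_comm, smul_mul_smul_comm, mul_comm ε δ]; done)
    | (right; rw [smul_mul_smul_comm, smul_mul_smul_comm, mul_comm δ ε, ← smul_neg]; congr 1
       ext i j; fin_cases i <;> fin_cases j <;> simp [Matrix.mul_apply, Fin.sum_univ_two]; done)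

lemma orthSet_adjoin (hq : Fintype.card F = 3) : Algebra.adjoin F (orthSet F) = ⊤ := by
  have h2 := two_nonzero_of_three hq
  have hS : (!![1, 0; 0, -1] : M₂) ∈ Algebra.adjoin F (orthSet F) := Algebra.subset_adjoin
    ⟨by ext i j; fin_cases i <;> fin_cases j <;> simp [Matrix.mul_apply, Fin.sum_univ_two],
      by simp [Matrix.trace_fin_two]⟩
  have hR : rho ∈ Algebra.adjoin F (orthSet F) := Algebra.subset_adjoin
    ⟨by ext i j; fin_cases i <;> fin_cases j <;> simp [Matrix.mul_apply, Fin.sum_univ_two],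
      by simp [Matrix.trace_fin_two]⟩
  have hK := Subalgebra.mul_mem _ hS hR
  refine Algebra.eq_top_iff.mpr fun X => ?_
  have e : X = ((X 0 0 + X 1 1) / 2) • (1 : M₂) + ((X 0 0 - X 1 1) / 2) • !![1, 0; 0, -1] +
      ((X 1 0 - X 0 1) / 2) • rho + (-(X 0 1 + X 1 0) / 2) • (!![1, 0; 0, -1] * rho) := by
    ext i j
    fin_cases i <;> fin_cases j <;> simp [Matrix.mul_apply, Fin.sum_univ_two] <;> field_simp <;> ring
  rw [e]
  exact add_mem (add_mem (add_mem (Subalgebra.smul_mem _ (one_mem _) _) (Subalgebra.smul_mem _ hS _))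
    (Subalgebra.smul_mem _ hR _)) (Subalgebra.smul_mem _ hK _)

omit [Fintype F] in
/-- A matrix commuting with the first factor acts on the second. -/
lemma eq_one_kron {Z : Mp} (h : ∀ X : M₂, Z * (X ⊗ₖ (1 : M₂)) = (X ⊗ₖ (1 : M₂)) * Z) :
    Z = (1 : M₂) ⊗ₖ Matrix.of fun k l => Z (0, k) (0, l) := by
  ext ⟨i, k⟩ ⟨j, l⟩
  have h2 := congrFun (congrFun (h (Matrix.single 0 i 1)) (0, k)) (j, l)
  fin_cases i <;> fin_cases j <;> fin_cases k <;> fin_cases l <;>
    simp [Matrix.mul_apply, Fintype.sum_prod_type, Fin.sum_univ_two] at h2 ⊢ <;>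
    first
    | exact h2
    | exact h2.symm

omit [Fintype F] in
/-- A matrix commuting with the rotation of the second factor. -/
lemma eq_of_comm_rho {Z : Mp} (h : Z * ((1 : M₂) ⊗ₖ rho) = ((1 : M₂) ⊗ₖ rho) * Z) :
    ∃ A B : M₂, Z = A ⊗ₖ (1 : M₂) + B ⊗ₖ rho := by
  refine ⟨Matrix.of fun i j => Z (i, 0) (j, 0), Matrix.of fun i j => Z (i, 1) (j, 0), ?_⟩
  ext ⟨i, k⟩ ⟨j, l⟩
  have h1 := congrFun (congrFun h (i, 0)) (j, 0)
  have h2 := congrFun (congrFun h (i, 0)) (j, 1)
  have h3 := congrFun (congrFun h (i, 1)) (j, 0)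
  have h4 := congrFun (congrFun h (i, 1)) (j, 1)
  fin_cases i <;> fin_cases j <;>
    simp [Matrix.mul_apply, Fintype.sum_prod_type, Fin.sum_univ_two, Matrix.one_apply] at h1 h2 h3 h4 <;>
    fin_cases k <;> fin_cases l <;> simp_all

omit [Fintype F] in
lemma kron_one_inj {A A' : M₂} (h : A ⊗ₖ (1 : M₂) = A' ⊗ₖ (1 : M₂)) : A = A' := by
  ext i j
  simpa [Matrix.one_apply] using congrFun (congrFun h (i, 0)) (j, 0)

omit [Fintype F] in
lemma one_kron_inj {A A' : M₂} (h : (1 : M₂) ⊗ₖ A = (1 : M₂) ⊗ₖ A') : A = A' := by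
  ext i j
  simpa [Matrix.one_apply] using congrFun (congrFun h (0, i)) (0, j)

omit [Fintype F] in
/-- A skew adjoint element of the centraliser of the rotation squaring to minus one. -/
lemma skew_in_centraliser (h2 : (2 : F) ≠ 0) {Z : Mp} (hc : Z * ((1 : M₂) ⊗ₖ rho) = ((1 : M₂) ⊗ₖ rho) * Z)
    (hiso : Zᵀ * (rho ⊗ₖ (1 : M₂)) * Z = rho ⊗ₖ (1 : M₂)) (hsq : Z * Z = -1) :
    (∃ A ∈ quatSet F, Z = A ⊗ₖ (1 : M₂)) ∨ (∃ b : F, Z = b • ((1 : M₂) ⊗ₖ rho)) := by
  have hskew : Zᵀ * (rho ⊗ₖ (1 : M₂)) = -((rho ⊗ₖ (1 : M₂)) * Z) := by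
    have h := congrArg (fun W => W * Z) hiso
    simp only [mul_assoc] at h
    rw [hsq, mul_neg, mul_one, mul_neg, neg_eq_iff_eq_neg] at h
    exact h
  obtain ⟨A, B, rfl⟩ := eq_of_comm_rho hc
  have e1 := congrFun (congrFun hskew (0, 0)) (1, 0)
  have e2 := congrFun (congrFun hskew (1, 1)) (0, 0)
  have e3 := congrFun (congrFun hskew (0, 1)) (0, 0)
  have e4 := congrFun (congrFun hskew (1, 1)) (1, 0)
  simp [Matrix.mul_apply, Fintype.sum_prod_type, Fin.sum_univ_two, Matrix.one_apply] at e1 e2 e3 e4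
  have hA : A 0 0 + A 1 1 = 0 := by
    first | linear_combination e1 | linear_combination -e1
  have hB : B 0 0 = B 1 1 := by
    first | linear_combination e2 | linear_combination -e2
  have hB1 : B 1 0 = 0 := by
    refine (mul_eq_zero.mp (?_ : (2 : F) * B 1 0 = 0)).resolve_left h2
    first | linear_combination e3 | linear_combination -e3
  have hB2 : B 0 1 = 0 := by
    refine (mul_eq_zero.mp (?_ : (2 : F) * B 0 1 = 0)).resolve_left h2
    first | linear_combination e4 | linear_combination -e4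
  have hBs : B = B 0 0 • (1 : M₂) := by
    ext i j; fin_cases i <;> fin_cases j <;> simp [hB1, hB2, hB]
  have f1 := congrFun (congrFun hsq (0, 0)) (0, 0)
  have f2 := congrFun (congrFun hsq (0, 1)) (0, 0)
  have f3 := congrFun (congrFun hsq (0, 1)) (1, 0)
  have f4 := congrFun (congrFun hsq (1, 1)) (0, 0)
  simp [Matrix.mul_apply, Fintype.sum_prod_type, Fin.sum_univ_two, Matrix.one_apply, hB1, hB2, ← hB] at f1 f2 f3 f4
  by_cases hb : B 0 0 = 0
  · left
    refine ⟨A, mem_quatSet.mpr ⟨hA, ?_⟩, by rw [hBs, hb, zero_smul, Matrix.zero_kronecker, add_zero]⟩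
    rw [hb] at f1
    have h11 : A 1 1 = -(A 0 0) := by linear_combination hA
    rw [h11]
    linear_combination -f1
  · right
    have h2b : ∀ x : F, 2 * B 0 0 * x = 0 → x = 0 := fun x hx =>
      (mul_eq_zero.mp hx).resolve_left (mul_ne_zero h2 hb)
    have a00 : A 0 0 = 0 := h2b _ (by first | linear_combination f2 | linear_combination -f2)
    have a01 : A 0 1 = 0 := h2b _ (by first | linear_combination f3 | linear_combination -f3)
    have a10 : A 1 0 = 0 := h2b _ (by first | linear_combination f4 | linear_combination -f4)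
    have hA0 : A = 0 := by
      ext i j; fin_cases i <;> fin_cases j <;> simp [a00, a01, a10]
      linear_combination hA - a00
    exact ⟨B 0 0, by rw [hA0, Matrix.zero_kronecker, zero_add]; conv_lhs => rw [hBs, Matrix.smul_kronecker]⟩

end CfsgLib.Classical22.Asch
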