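/-
Over three elements a maximal normaliser of a quadratic field with skew generator in dimension four is the normaliser of
a group of symplectic type.
-/
import Cfsg.Agent.Lib.Classical22.Asch.SpFourField

set_option autoImplicit false
set_option maxHeartbeats 1000000

namespace CfsgLib.Classical22.Asch

open Matrix Cfsg Cfsg.Geo CfsgLib.Techniques.AschPrime CfsgLib.Transvec
open scoped MatrixGroups Kronecker

variable {F : Type*} [Field F] [Fintype F]

local notation "ι₄" => (Fin 2 ⊕ Fin 2)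
local notation "V₄" => (Fin 2 ⊕ Fin 2 → F)
local notation "M₄" => Matrix (Fin 2 ⊕ Fin 2) (Fin 2 ⊕ Fin 2) F
local notation "M₂" => Matrix (Fin 2) (Fin 2) F
local notation "Mp" => Matrix (Fin 2 × Fin 2) (Fin 2 × Fin 2) F
local notation "rho" => (!![(0 : F), -1; 1, 0] : Matrix (Fin 2) (Fin 2) F)

/-- A skew square root of minus one generating the field. -/
lemma exists_skew_root (hq : Fintype.card F = 3) {K : Subalgebra F M₄} (hK : IsFieldSubalgebra 2 K)
    (hac : IsAdjointClosedFor (sympForm 2 F) K) (hns : ¬ IsSelfAdjointFor (sympForm 2 F) K) :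
    ∃ i : M₄, i ∈ K ∧ i * i = -1 ∧ AdjPair (sympForm 2 F) i (-i) ∧ ∀ j ∈ K, j * j = -1 → j = i ∨ j = -i := by
  classical
  have h2 := two_nonzero_of_three hq
  have hf := isSymplecticForm_sympForm (F := F) 2
  haveI : Nonempty ι₄ := ⟨Sum.inl 0⟩
  have hroot : ∀ {x y : M₄}, x ∈ K → y ∈ K → x * x = y * y → x = y ∨ x = -y := by
    intro x y hx hy h
    by_cases h0 : x - y = 0
    · exact Or.inl (sub_eq_zero.mp h0)
    obtain ⟨z, hz, hxz⟩ := hK.inv _ (K.sub_mem hx hy) h0
    have hmul : (x + y) * (x - y) = 0 := by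
      rw [add_mul, mul_sub, mul_sub, hK.comm y hy x hx, h]
      abel
    refine Or.inr (eq_neg_of_add_eq_zero_left ?_)
    have := congrArg (fun w => w * z) hmul
    simpa [mul_assoc, hxz] using this
  obtain ⟨x, hx, hxs⟩ : ∃ x ∈ K, ∀ c : F, x ≠ c • 1 := by
    by_contra! hno
    have hbot : K = ⊥ := le_bot_iff.mp fun x hx => by
      obtain ⟨c, rfl⟩ := hno x hx
      exact Subalgebra.smul_mem _ (one_mem _) _
    have h1 : Module.finrank F K = 2 := hK.finrank_eq
    rw [hbot, Subalgebra.finrank_bot] at h1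
    omega
  have hspan : Subalgebra.toSubmodule K = Submodule.span F {(1 : M₄), x} := by
    refine (Submodule.eq_of_le_of_finrank_le ?_ ?_).symm
    · rw [Submodule.span_le]
      rintro _ (rfl | rfl)
      · exact K.one_mem
      · exact hx
    · have hli : LinearIndependent F ![(1 : M₄), x] := by
        rw [LinearIndependent.pair_iff]
        intro a b h
        by_cases hb : b = 0
        · rw [hb, zero_smul, add_zero, smul_eq_zero] at h
          exact ⟨h.resolve_right one_ne_zero, hb⟩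
        · exfalso
          refine hxs (-a / b) ?_
          have h' := congrArg (fun w => b⁻¹ • w) (eq_neg_of_add_eq_zero_right h)
          try dsimp only at h'
          rw [inv_smul_smul₀ hb] at h'
          rw [h', smul_neg, smul_smul, ← neg_smul]
          congr 1
          ring
      have h := finrank_span_eq_card hli
      rw [Matrix.range_cons, Matrix.range_cons, Matrix.range_empty, Set.union_empty, Set.singleton_union] at h
      rw [h, Fintype.card_fin]
      exact hK.finrank_eq.le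
  have hrep : ∀ k ∈ K, ∃ a b : F, a • (1 : M₄) + b • x = k := fun k hk => by
    rw [← Subalgebra.mem_toSubmodule, hspan, Submodule.mem_span_pair] at hk
    exact hk
  obtain ⟨α, β, hαβ⟩ : ∃ α β : F, β • (1 : M₄) + α • x = x * x := by
    obtain ⟨β, α, h⟩ := hrep _ (K.mul_mem hx hx)
    exact ⟨α, β, h⟩
  obtain ⟨i, hi⟩ : ∃ i, i = (2 : F) • x - α • (1 : M₄) := ⟨_, rfl⟩
  have hiK : i ∈ K := hi ▸ K.sub_mem (K.smul_mem hx _) (K.smul_mem K.one_mem _)
  have hii : i * i = (α * α + 4 * β) • (1 : M₄) := by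
    rw [hi, sub_mul, mul_sub, mul_sub, smul_mul_smul_comm, smul_mul_smul_comm, smul_mul_smul_comm, smul_mul_smul_comm,
      ← hαβ]
    simp only [mul_one, one_mul]
    module
  have hins : ∀ c : F, i ≠ c • 1 := fun c h => by
    refine hxs ((c + α) / 2) ?_
    have h' : (2 : F) • x = (c + α) • (1 : M₄) := by rw [add_smul, ← h, hi, sub_add_cancel]
    rw [← inv_smul_smul₀ h2 x, h', smul_smul]
    congr 1
    ring
  have hD : i * i = -1 := by
    rcases three_values hq (α * α + 4 * β) with h | h | h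
    · exfalso
      have hz : i * i = 0 * 0 := by rw [hii, h, zero_smul, zero_mul]
      rcases hroot hiK K.zero_mem hz with h' | h'
      · exact hins 0 (by rw [h', zero_smul])
      · exact hins 0 (by rw [h', zero_smul, neg_zero])
    · exfalso
      rcases hroot hiK K.one_mem (by rw [hii, h, one_smul, one_mul]) with h' | h'
      · exact hins 1 (by rw [h', one_smul])
      · exact hins (-1) (by rw [h', neg_one_smul])
    · rw [hii, h, neg_one_smul]
  obtain ⟨i', hi'K, hadj⟩ := hac i hiK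
  have hpair : AdjPair (sympForm 2 F) i i' := hadj
  have hi'2 : i' * i' = -1 := by
    have e1 : AdjPair (sympForm 2 F) (i * i) (i' * i') := hpair.mul hpair
    rw [hD] at e1
    have e2 := (adj_one (f := sympForm 2 F)).smul hf.bilinear (-1 : F)
    rw [neg_one_smul] at e2
    exact e1.unique hf.bilinear hf.nondegenerate e2
  refine ⟨i, hiK, hD, ?_, fun j hj hj2 => hroot hj hiK (hj2.trans hD.symm)⟩
  rcases hroot hi'K hiK (hi'2.trans hD.symm) with h | h
  · exfalso
    refine hns fun k hk u v => ?_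
    obtain ⟨a, b, rfl⟩ := hrep k hk
    have hxx : x = (2 : F)⁻¹ • i + (α / 2) • (1 : M₄) := by
      rw [hi, smul_sub, inv_smul_smul₀ h2, smul_smul, show (2 : F)⁻¹ * α = α / 2 by ring, sub_add_cancel]
    have hsx : AdjPair (sympForm 2 F) x x := by
      rw [h] at hpair
      rw [hxx]
      exact (hpair.smul hf.bilinear _).add hf.bilinear ((adj_one (f := sympForm 2 F)).smul hf.bilinear _)
    exact (((adj_one (f := sympForm 2 F)).smul hf.bilinear a).add hf.bilinear (hsx.smul hf.bilinear b)) u v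
  · rw [← h]; exact hpair

/-- A frame in which the form is an alternating times a standard symmetric form and the root is a rotation. -/
lemma exists_root_frame (hq : Fintype.card F = 3) {i : M₄} (hii : i * i = -1)
    (hadj : AdjPair (sympForm 2 F) i (-i)) :
    ∃ v : Fin 2 × Fin 2 → V₄, (∀ p q, sympForm 2 F (v p) (v q) = (rho ⊗ₖ (1 : M₂)) p q * (-1)) ∧
      ∀ a, i *ᵥ v (a, 0) = v (a, 1) ∧ i *ᵥ v (a, 1) = -v (a, 0) := by
  classical
  have h2 := two_nonzero_of_three hq
  have h3 := three_zero hq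
  have hf := isSymplecticForm_sympForm (F := F) 2
  have hb := hf.bilinear
  have hneg : ∀ u, i *ᵥ (i *ᵥ u) = -u := fun u => by rw [mulVec_mulVec, hii, neg_mulVec, one_mulVec]
  have hnegr : ∀ u w, sympForm 2 F u (-w) = -sympForm 2 F u w := fun u w => by
    rw [← neg_one_smul F w, hb.smul_right, neg_one_mul]
  have hnegl : ∀ u w, sympForm 2 F (-u) w = -sympForm 2 F u w := fun u w => by
    rw [← neg_one_smul F u, hb.smul_left, neg_one_mul]
  have hsw : ∀ u w, sympForm 2 F (i *ᵥ u) w = -sympForm 2 F u (i *ᵥ w) := fun u w => by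
    rw [hadj u w, neg_mulVec, hnegr]
  have hiu : ∀ u w, sympForm 2 F (i *ᵥ u) (i *ᵥ w) = sympForm 2 F u w := fun u w => by
    rw [hsw, hneg, hnegr, neg_neg]
  have hB : ∀ u w, sympForm 2 F u (i *ᵥ w) = sympForm 2 F w (i *ᵥ u) := fun u w => by
    rw [hf.skew, hsw, neg_neg]
  have hq_i : ∀ u, sympForm 2 F (i *ᵥ u) (i *ᵥ (i *ᵥ u)) = sympForm 2 F u (i *ᵥ u) := fun u => hiu u (i *ᵥ u)
  have hi0 : ∀ u, u ≠ 0 → ∀ c : F, i *ᵥ u - c • u ≠ 0 := by
    intro u hu c h
    rw [sub_eq_zero] at h
    have h' := hneg u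
    rw [h, mulVec_smul, h, smul_smul] at h'
    have hcc : (c * c + 1) • u = 0 := by rw [add_smul, h', one_smul, neg_add_cancel]
    have hc1 := (smul_eq_zero.mp hcc).resolve_right hu
    rcases three_values hq c with rfl | rfl | rfl
    · exact one_ne_zero (show (1 : F) = 0 by linear_combination hc1)
    · exact h2 (by linear_combination hc1)
    · exact h2 (by linear_combination hc1)
  -- an isotropic vector
  obtain ⟨e, he0, hee⟩ : ∃ e : V₄, e ≠ 0 ∧ sympForm 2 F e (i *ᵥ e) = 0 := by
    obtain ⟨u, hu⟩ : ∃ u : V₄, u ≠ 0 := ⟨Pi.single (Sum.inl 0) 1, by simp⟩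
    by_cases ha : sympForm 2 F u (i *ᵥ u) = 0
    · exact ⟨u, hu, ha⟩
    obtain ⟨U, hU⟩ : ∃ U : Submodule F V₄, U = Submodule.span F {u, i *ᵥ u} := ⟨_, rfl⟩
    have hUd : Module.finrank F U ≤ 2 := by
      rw [hU]
      refine le_trans (finrank_span_le_card ({u, i *ᵥ u} : Set V₄)) ?_
      simp only [Set.toFinset_insert, Set.toFinset_singleton]
      exact Finset.card_le_two
    obtain ⟨w, hw, hw0⟩ := (perp hf U).exists_mem_ne_zero_of_ne_bot fun h0 => by
      have h := finrank_perp hf U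
      rw [h0, finrank_bot, natCard_index] at h
      omega
    rw [mem_perp_iff hf] at hw
    have hwu : sympForm 2 F u w = 0 := by
      rw [hf.skew, hw u (hU ▸ Submodule.subset_span (Set.mem_insert _ _)), neg_zero]
    have hwiu : sympForm 2 F (i *ᵥ u) w = 0 := by
      rw [hf.skew, hw (i *ᵥ u) (hU ▸ Submodule.subset_span (Set.mem_insert_of_mem _ rfl)), neg_zero]
    have hu_iw : sympForm 2 F u (i *ᵥ w) = 0 := by
      have := hsw u w
      rw [hwiu] at this
      linear_combination this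
    by_cases hb' : sympForm 2 F w (i *ᵥ w) = 0
    · exact ⟨w, hw0, hb'⟩
    obtain ⟨a, hadef⟩ : ∃ a, a = sympForm 2 F u (i *ᵥ u) := ⟨_, rfl⟩
    obtain ⟨b, hbdef⟩ : ∃ b, b = sympForm 2 F w (i *ᵥ w) := ⟨_, rfl⟩
    have hwiu' : sympForm 2 F w (i *ᵥ u) = 0 := by rw [hB, hu_iw]
    have hwu' : sympForm 2 F w u = 0 := by rw [hf.skew, hwu, neg_zero]
    have hiu_u : sympForm 2 F (i *ᵥ u) u = -a := by rw [hsw, hadef]
    have hiuiw : sympForm 2 F (i *ᵥ u) (i *ᵥ w) = 0 := by rw [hiu, hwu]
    have hab : b = a ∨ b = -a := by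
      rcases three_values hq a with ha' | ha' | ha'
      · exact absurd (hadef.symm.trans ha') ha
      all_goals rcases three_values hq b with hb'' | hb'' | hb''
      all_goals first
        | (exact absurd (hbdef.symm.trans hb'') hb')
        | (left; rw [ha', hb'']; done)
        | (right; rw [ha', hb'']; done)
        | (right; rw [ha', hb'', neg_neg]; done)
    rcases hab with hab | hab
    · refine ⟨u + i *ᵥ u + w, fun h => hb' ?_, ?_⟩
      · have h' := congrArg (fun x => sympForm 2 F x (i *ᵥ w)) h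
        rw [hb.add_left, hb.add_left, hu_iw, hiuiw, zero_left' hf, zero_add, zero_add] at h'
        exact h'
      · rw [mulVec_add, mulVec_add, hneg]
        simp only [hb.add_left, hb.add_right, hnegr, hu_iw, hiuiw, hwiu', hwu', hf.alternating, ← hadef, ← hbdef, hiu_u]
        rw [hab]
        linear_combination a * h3
    · refine ⟨u + w, fun h => hb' ?_, ?_⟩
      · have h' := congrArg (fun x => sympForm 2 F x (i *ᵥ w)) h
        rw [hb.add_left, hu_iw, zero_left' hf, zero_add] at h'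
        exact h'
      · rw [mulVec_add]
        simp only [hb.add_left, hb.add_right, hu_iw, hwiu', ← hadef, ← hbdef]
        rw [hab]
        ring
  have hie0 : i *ᵥ e ≠ 0 := fun h => hi0 e he0 0 (by rw [zero_smul, sub_zero, h])
  obtain ⟨w, hw1, hw2⟩ := dual_pair hb hf.nondegenerate hie0 (a := e) (b := i *ᵥ e) fun c h => by
    rw [sub_eq_zero] at h
    have h' := congrArg (fun x => i *ᵥ x) h
    simp only [mulVec_smul, hneg, smul_neg] at h'
    exact hi0 e he0 (-c) (by rw [h', neg_smul, sub_neg_eq_add, neg_add_cancel])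
  obtain ⟨f', hf'⟩ : ∃ f' : V₄, f' = -w := ⟨_, rfl⟩
  have p1 : sympForm 2 F e f' = 1 := by rw [hf', hnegr, hf.skew, hw1, neg_neg]
  have p2 : sympForm 2 F (i *ᵥ e) f' = 0 := by rw [hf', hnegr, hf.skew, hw2, neg_zero, neg_zero]
  obtain ⟨β, hβ⟩ : ∃ β, β = sympForm 2 F f' (i *ᵥ f') := ⟨_, rfl⟩
  obtain ⟨f₁, hf₁⟩ : ∃ f₁ : V₄, f₁ = f' + β • (i *ᵥ e) := ⟨_, rfl⟩
  have hee' : sympForm 2 F (i *ᵥ e) e = 0 := by rw [hsw, hee, neg_zero]
  have p2' : sympForm 2 F e (i *ᵥ f') = 0 := by
    have := hsw e f'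
    rw [p2] at this
    linear_combination this
  have a1 : sympForm 2 F e f₁ = 1 := by rw [hf₁, hb.add_right, hb.smul_right, p1, hee]; ring
  have a2 : sympForm 2 F e (i *ᵥ f₁) = 0 := by
    rw [hf₁, mulVec_add, mulVec_smul, hneg, hb.add_right, hb.smul_right, hnegr, hf.alternating, p2']
    ring
  have a3 : sympForm 2 F f₁ (i *ᵥ f₁) = 0 := by
    have q1 : sympForm 2 F f' e = -1 := by rw [hf.skew, p1]
    have q2 : sympForm 2 F (i *ᵥ e) (i *ᵥ f') = 1 := by rw [hiu, p1]
    have q3 : sympForm 2 F (i *ᵥ e) e = 0 := hee'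
    rw [hf₁, mulVec_add, mulVec_smul, hneg]
    simp only [hb.add_left, hb.add_right, hb.smul_left, hb.smul_right, hnegr, q1, q2, q3, ← hβ]
    linear_combination β * h3
  have b1 : sympForm 2 F f₁ e = -1 := by rw [hf.skew, a1]
  have b2 : sympForm 2 F (i *ᵥ f₁) e = 0 := by rw [hf.skew, a2, neg_zero]
  have b3 : sympForm 2 F (i *ᵥ f₁) f₁ = 0 := by rw [hf.skew, a3, neg_zero]
  have a4 : sympForm 2 F f₁ (i *ᵥ e) = 0 := by rw [hB, a2]
  have b4 : sympForm 2 F (i *ᵥ e) f₁ = 0 := by rw [hf.skew, a4, neg_zero]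
  refine ⟨fun p => ![![e, i *ᵥ e], ![f₁, i *ᵥ f₁]] p.1 p.2, fun p q => ?_, fun a => ?_⟩
  · obtain ⟨p₁, p₂⟩ := p
    obtain ⟨q₁, q₂⟩ := q
    fin_cases p₁ <;> fin_cases p₂ <;> fin_cases q₁ <;> fin_cases q₂ <;>
      simp [Matrix.one_apply, hiu, a1, a2, a3, a4, b1, b2, b3, b4, hee, hee', hf.alternating]
  · fin_cases a <;> exact ⟨rfl, hneg _⟩

end CfsgLib.Classical22.Asch
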