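/-
The exceptions over three elements among the geometric subgroups of the four-dimensional symplectic group.
-/
import Cfsg.Agent.Lib.Classical22.Asch.SpFourSign
import Cfsg.Agent.Lib.Classical22.Asch.SpFourLagr

set_option autoImplicit false
set_option maxHeartbeats 1000000

namespace CfsgLib.Classical22.Asch

open Matrix Cfsg Cfsg.Geo CfsgLib.Techniques.AschPrime CfsgLib.Transvec
open scoped MatrixGroups Kronecker

variable {F : Type*} [Field F] [Fintype F]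

local notation "ι₄" => (Fin 2 ⊕ Fin 2)
local notation "V₄" => (Fin 2 ⊕ Fin 2 → F)
local notation "M₄" => Matrix (Fin 2 ⊕ Fin 2) (Fin 2 ⊕ Fin 2) F
local notation "M₂" => Matrix (Fin 2) (Fin 2) F
local notation "Mp" => Matrix (Fin 2 × Fin 2) (Fin 2 × Fin 2) F
local notation "rho" => (!![(0 : F), -1; 1, 0] : Matrix (Fin 2) (Fin 2) F)

/-- A maximal stabiliser of two complementary totally singular planes needs five elements. -/
theorem four_lagrangian_cases {H : Subgroup (GL ι₄ F)} (hH : IsMaximalIn (spGL 2 F) H) (hodd : Odd (Fintype.card F))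
    {D : Fin 2 → Submodule F V₄} (hD : IsMDecomposition 2 D) (hts : ∀ i, IsTotallySingularFor (sympForm 2 F) (D i))
    (heq : H = decompositionStabilizer D ⊓ spGL 2 F) :
    5 ≤ Fintype.card F ∨ ∃ D' : Fin 2 → Submodule F V₄, IsNondegenerateMDecomposition (sympForm 2 F) 2 D' ∧
      H = decompositionStabilizer D' ⊓ spGL 2 F := by
  by_cases h5 : 5 ≤ Fintype.card F
  · exact Or.inl h5
  obtain ⟨j, hj⟩ := hodd
  have hq : Fintype.card F = 3 := by have := Fintype.one_lt_card (α := F); omega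
  obtain ⟨D', hD', hle⟩ := lagrangian_pair_three hq hD hts
  exact Or.inr ⟨D', hD', sp_max_eq le_rfl hH (Or.inl (Or.inr (Or.inr (Or.inl ⟨2, 2, D', hD', rfl⟩))))
    (heq.le.trans hle)⟩

/-- A maximal normaliser of a quadratic field with skew generator needs five elements. -/
theorem four_field_cases {H : Subgroup (GL ι₄ F)} (hH : IsMaximalIn (spGL 2 F) H) (hodd : Odd (Fintype.card F))
    {K : Subalgebra F M₄} (hK : IsFieldSubalgebra 2 K) (hac : IsAdjointClosedFor (sympForm 2 F) K)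
    (hns : ¬ IsSelfAdjointFor (sympForm 2 F) K) (heq : H = subalgebraNormalizer K ⊓ spGL 2 F) :
    5 ≤ Fintype.card F ∨ (Fintype.card F = 3 ∧ ∃ R : Subgroup (GL ι₄ F), IsSymplecticTypeGroup 2 R ∧
      ActsAbsolutelyIrreducibly (matrixSet R) ∧ R ≤ similarityGroup (sympForm 2 F) ∧ Nat.card R = 32 ∧
      Nat.card (Subgroup.center R) = 2 ∧ IsOfMinusType 2 R ∧ H = subgroupNormalizer R ⊓ spGL 2 F) := by
  classical
  by_cases h5 : 5 ≤ Fintype.card F
  · exact Or.inl h5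
  obtain ⟨j, hj⟩ := hodd
  have hq : Fintype.card F = 3 := by have := Fintype.one_lt_card (α := F); omega
  have h2 := two_nonzero_of_three hq
  refine Or.inr ⟨hq, ?_⟩
  have hf := isSymplecticForm_sympForm (F := F) 2
  obtain ⟨i, hiK, hii, hadj, huniq⟩ := exists_skew_root hq hK hac hns
  obtain ⟨v, hvform, hvi⟩ := exists_root_frame hq hii hadj
  obtain ⟨G, hG⟩ : ∃ G : Mp, G = rho ⊗ₖ (1 : M₂) := ⟨_, rfl⟩
  obtain ⟨e⟩ : Nonempty (ι₄ ≃ Fin 2 × Fin 2) := ⟨Fintype.equivOfCardEq (by simp)⟩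
  obtain ⟨M₀, hM₀⟩ : ∃ M₀ : M₄, M₀ = Matrix.of fun r k => v (e k) r := ⟨_, rfl⟩
  have hcol : ∀ p, M₀ *ᵥ (Pi.single p 1 ∘ e) = v p := fun p => by
    funext r
    simp only [hM₀, Matrix.mulVec, dotProduct, Matrix.of_apply, Function.comp_apply]
    rw [Finset.sum_eq_single (e.symm p) (fun k _ hk => by
      rw [Pi.single_eq_of_ne (fun h => hk (by rw [← h, Equiv.symm_apply_apply])), mul_zero]) (by simp)]
    simp
  have hM₀x : ∀ x : Fin 2 × Fin 2 → F, M₀ *ᵥ (x ∘ e) = ∑ p, x p • v p := fun x => by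
    funext r
    simp only [hM₀, Matrix.mulVec, dotProduct, Matrix.of_apply, Function.comp_apply, Finset.sum_apply, Pi.smul_apply,
      smul_eq_mul]
    exact Fintype.sum_equiv e _ _ fun k => mul_comm _ _
  have hMform : ∀ x y : Fin 2 × Fin 2 → F, sympForm 2 F (M₀ *ᵥ (x ∘ e)) (M₀ *ᵥ (y ∘ e)) = -(x ⬝ᵥ (G *ᵥ y)) := by
    intro x y
    rw [hM₀x, hM₀x, ← Transvec.toBilin_apply hf.bilinear]
    simp only [map_sum, LinearMap.coe_sum, Finset.sum_apply, map_smul, LinearMap.smul_apply, smul_eq_mul, dotProduct,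
      Matrix.mulVec, Finset.mul_sum, ← Finset.sum_neg_distrib]
    rw [Finset.sum_comm]
    refine Finset.sum_congr rfl fun p _ => Finset.sum_congr rfl fun q _ => ?_
    rw [Transvec.toBilin_apply, hvform, ← hG]
    ring
  have hGG : G * G = -1 := by
    rw [hG, ← Matrix.mul_kronecker_mul, mul_one, show rho * rho = (-1 : F) • (1 : M₂) by
      ext i j; fin_cases i <;> fin_cases j <;> simp [Matrix.mul_apply, Fin.sum_univ_two],
      Matrix.smul_kronecker, Matrix.one_kronecker_one, neg_one_smul]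
  obtain ⟨M, hM⟩ : ∃ M : GL ι₄ F, (M : M₄) = M₀ := by
    refine ⟨Matrix.GeneralLinearGroup.mkOfDetNeZero M₀ fun h0 => ?_, rfl⟩
    obtain ⟨u, hu0, hu⟩ := Matrix.exists_mulVec_eq_zero_iff.mpr h0
    refine hu0 (funext fun k => ?_)
    have h1 := hMform (u ∘ e.symm) (G *ᵥ Pi.single (e k) 1)
    rw [show (u ∘ e.symm) ∘ e = u from funext fun l => by simp, hu, zero_left' hf, mulVec_mulVec, hGG, neg_mulVec,
      one_mulVec, dotProduct_neg, neg_neg, dotProduct_single, mul_one, Function.comp_apply, Equiv.symm_apply_apply] at h1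
    exact h1.symm
  obtain ⟨Ψ, hΨ⟩ : ∃ Ψ : Mp ≃ₐ[F] M₄,
      Ψ = (Matrix.reindexAlgEquiv F F e.symm).trans (Aschbacher.cj M) := ⟨_, rfl⟩
  have hΨx : ∀ (W : Mp) x, Ψ W *ᵥ (M₀ *ᵥ (x ∘ e)) = M₀ *ᵥ ((W *ᵥ x) ∘ e) := fun W x => by
    rw [hΨ, AlgEquiv.trans_apply, Aschbacher.cj_apply, ← hM, Matrix.mulVec_mulVec, mul_assoc, Units.inv_mul, mul_one,
      ← Matrix.mulVec_mulVec, Matrix.reindexAlgEquiv_apply, Matrix.reindex_apply, Matrix.submatrix_mulVec_equiv,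
      Equiv.symm_symm]
    simp [Function.comp_assoc]
  have hMsur : ∀ w, ∃ x : Fin 2 × Fin 2 → F, M₀ *ᵥ (x ∘ e) = w := fun w =>
    ⟨(((M⁻¹ : GL ι₄ F) : M₄) *ᵥ w) ∘ e.symm, by
      rw [Function.comp_assoc, Equiv.symm_comp_self, Function.comp_id, Matrix.mulVec_mulVec, ← hM, Units.mul_inv,
        one_mulVec]⟩
  have hisoT : ∀ W : Mp, Wᵀ * G * W = G → ∀ x y, sympForm 2 F (Ψ W *ᵥ x) (Ψ W *ᵥ y) = sympForm 2 F x y := by
    intro W hW x y
    obtain ⟨x, rfl⟩ := hMsur x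
    obtain ⟨y, rfl⟩ := hMsur y
    rw [hΨx, hΨx, hMform, hMform]
    conv_rhs => rw [← hW]
    rw [← Matrix.mulVec_mulVec, ← Matrix.mulVec_mulVec, Matrix.dotProduct_mulVec x Wᵀ, Matrix.vecMul_transpose]
  have hisoF : ∀ W : Mp, (∀ x y, sympForm 2 F (Ψ W *ᵥ x) (Ψ W *ᵥ y) = sympForm 2 F x y) → Wᵀ * G * W = G := by
    intro W hW
    refine Matrix.ext fun p q => ?_
    have h := hW (M₀ *ᵥ (Pi.single p 1 ∘ e)) (M₀ *ᵥ (Pi.single q 1 ∘ e))
    rw [hΨx, hΨx, hMform, hMform, neg_inj] at h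
    rw [show (W *ᵥ Pi.single p 1) = Pi.single p 1 ᵥ* Wᵀ from (Matrix.vecMul_transpose W _).symm,
      ← Matrix.dotProduct_mulVec, Matrix.mulVec_mulVec, Matrix.mulVec_mulVec, mul_assoc] at h
    rw [mul_assoc]
    simpa [single_dotProduct, mul_assoc] using h
  obtain ⟨ρ', hρ'⟩ : ∃ ρ' : Mp, ρ' = (1 : M₂) ⊗ₖ rho := ⟨_, rfl⟩
  have hΨi : Ψ ρ' = i := by
    have hvec : ∀ x, Ψ ρ' *ᵥ x = i *ᵥ x := by
      intro x
      obtain ⟨x, rfl⟩ := hMsur x
      rw [hΨx, hM₀x, hM₀x, hρ', Matrix.mulVec_sum]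
      simp only [mulVec_smul, Fintype.sum_prod_type, Fin.sum_univ_two, (hvi _).1, (hvi _).2, Matrix.mulVec, dotProduct,
        Matrix.kroneckerMap_apply]
      simp
      module
    exact Matrix.ext_of_mulVec_single fun k => hvec _
  have hconj : ∀ g ∈ H, Aschbacher.cj g i = i ∨ Aschbacher.cj g i = -i := by
    intro g hg
    rw [heq] at hg
    refine huniq _ ((hg.1 i).mp hiK) ?_
    rw [← map_mul, hii, map_neg, map_one]
  obtain ⟨L₀, hL₀⟩ : ∃ L₀ : M₂ →ₐ[F] M₄, ∀ X, L₀ X = Ψ (X ⊗ₖ (1 : M₂)) := by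
    refine ⟨Ψ.toAlgHom.comp (AlgHom.ofLinearMap
      { toFun := fun X => X ⊗ₖ (1 : M₂)
        map_add' := fun X Y => Matrix.add_kronecker X Y _
        map_smul' := fun c X => Matrix.smul_kronecker c X _ } Matrix.one_kronecker_one
      fun X Y => ?_), fun X => rfl⟩
    change (X * Y) ⊗ₖ (1 : M₂) = (X ⊗ₖ (1 : M₂)) * (Y ⊗ₖ (1 : M₂))
    rw [← Matrix.mul_kronecker_mul, one_mul]
  obtain ⟨L₁, hL₁⟩ : ∃ L₁ : M₂ →ₐ[F] M₄, ∀ X, L₁ X = Ψ ((1 : M₂) ⊗ₖ X) := by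
    refine ⟨Ψ.toAlgHom.comp (AlgHom.ofLinearMap
      { toFun := fun X => (1 : M₂) ⊗ₖ X
        map_add' := fun X Y => Matrix.kronecker_add _ X Y
        map_smul' := fun c X => Matrix.kronecker_smul c _ X } Matrix.one_kronecker_one
      fun X Y => ?_), fun X => rfl⟩
    change (1 : M₂) ⊗ₖ (X * Y) = ((1 : M₂) ⊗ₖ X) * ((1 : M₂) ⊗ₖ Y)
    rw [← Matrix.mul_kronecker_mul, one_mul]
  have hT01 : ∀ X Y, L₀ X * L₁ Y = L₁ Y * L₀ X := fun X Y => by
    rw [hL₀, hL₁, ← map_mul, ← map_mul, ← Matrix.mul_kronecker_mul, ← Matrix.mul_kronecker_mul, one_mul, mul_one,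
      one_mul, mul_one]
  have hiso0 : ∀ X ∈ quatSet F, (X ⊗ₖ (1 : M₂))ᵀ * G * (X ⊗ₖ (1 : M₂)) = G := fun X hX => by
    rw [hG, ← Matrix.kroneckerMap_transpose, ← Matrix.mul_kronecker_mul, ← Matrix.mul_kronecker_mul, transpose_one,
      one_mul, mul_one]
    congr 1
    obtain ⟨h1, h2'⟩ := mem_quatSet.mp hX
    ext a b
    fin_cases a <;> fin_cases b <;> simp [Matrix.mul_apply, Fin.sum_univ_two]
    all_goals first
      | linear_combination h2'
      | linear_combination -h2'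
      | ring
  have hiso1 : ∀ Y : M₂, Yᵀ * Y = 1 → ((1 : M₂) ⊗ₖ Y)ᵀ * G * ((1 : M₂) ⊗ₖ Y) = G := fun Y hY => by
    rw [hG, ← Matrix.kroneckerMap_transpose, ← Matrix.mul_kronecker_mul, ← Matrix.mul_kronecker_mul, transpose_one,
      one_mul, mul_one, mul_one, hY]
  have hisoS : ∀ Z : M₄, (∀ x y, sympForm 2 F (Z *ᵥ x) (Z *ᵥ y) = sympForm 2 F x y) → ∀ g ∈ H,
      ∀ x y, sympForm 2 F (Aschbacher.cj g Z *ᵥ x) (Aschbacher.cj g Z *ᵥ y) = sympForm 2 F x y := by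
    intro Z hZ g hg x y
    have hg' := hH.1.le hg
    have hgi : ∀ a b, sympForm 2 F (((g⁻¹ : GL ι₄ F) : M₄) *ᵥ a) (((g⁻¹ : GL ι₄ F) : M₄) *ᵥ b) = sympForm 2 F a b :=
      (spGL 2 F).inv_mem hg'
    have hgg : ∀ a b, sympForm 2 F ((g : M₄) *ᵥ a) ((g : M₄) *ᵥ b) = sympForm 2 F a b := hg'
    rw [Aschbacher.cj_apply, ← Matrix.mulVec_mulVec, ← Matrix.mulVec_mulVec, ← Matrix.mulVec_mulVec,
      ← Matrix.mulVec_mulVec, hgg, hZ, hgi]
  -- images of the first factor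
  have himg0 : ∀ g ∈ H, ∀ X ∈ quatSet F, ∃ A ∈ quatSet F, Aschbacher.cj g (L₀ X) = L₀ A := by
    intro g hg X hX
    obtain ⟨Z, hZ⟩ : ∃ Z : Mp, Ψ Z = Aschbacher.cj g (L₀ X) := ⟨Ψ.symm _, Ψ.apply_symm_apply _⟩
    have hcomm : i * L₀ X = L₀ X * i := by
      rw [← hΨi, hρ', ← hL₁]; exact (hT01 X rho).symm
    have hc : Z * ρ' = ρ' * Z := by
      apply Ψ.injective
      rw [map_mul, map_mul, hZ, hΨi]
      have h := congrArg (Aschbacher.cj g) hcomm
      rw [map_mul, map_mul] at h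
      rcases hconj g hg with e | e <;> rw [e] at h
      · exact h.symm
      · rw [neg_mul, mul_neg, neg_inj] at h
        exact h.symm
    have hsq : Z * Z = -1 := by
      apply Ψ.injective
      rw [map_mul, hZ, map_neg, map_one, ← map_mul, ← map_mul, quatSet_sq hX, map_neg, map_one, map_neg, map_one]
    have hiso : Zᵀ * G * Z = G := hisoF Z (by
      rw [hZ]
      exact hisoS _ (by rw [hL₀]; exact hisoT _ (hiso0 X hX)) g hg)
    rw [hρ'] at hc
    rw [hG] at hiso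
    rcases skew_in_centraliser h2 hc hiso hsq with ⟨A, hA, rfl⟩ | ⟨b, rfl⟩
    · exact ⟨A, hA, by rw [← hZ, hL₀]⟩
    · exfalso
      rw [← hρ', map_smul, hΨi] at hZ
      have h := congrArg (Aschbacher.cj g⁻¹) hZ
      rw [Aschbacher.cj_inv_self, map_smul] at h
      have hX' : ∃ b' : F, L₀ X = b' • i := by
        rcases hconj g⁻¹ (H.inv_mem hg) with e | e <;> rw [e] at h
        · exact ⟨b, h.symm⟩
        · exact ⟨-b, by rw [← h, neg_smul, smul_neg]⟩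
      obtain ⟨b', hb'⟩ := hX'
      rw [← hΨi, ← map_smul, hL₀] at hb'
      have h' := Ψ.injective hb'
      rw [hρ'] at h'
      have e1 := congrFun (congrFun h' (0, 1)) (0, 0)
      simp at e1
      rw [← e1, zero_smul, ← sub_eq_zero] at h'
      obtain ⟨hd1, hd2⟩ := mem_quatSet.mp hX
      have hX0 : X = 0 := kron_one_inj (by rw [Matrix.zero_kronecker]; exact sub_eq_zero.mp h')
      rw [hX0] at hd2
      simp at hd2
  -- images of the second factor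
  have himg1 : ∀ g ∈ H, ∀ Y ∈ orthSet F, ∃ B ∈ orthSet F, Aschbacher.cj g (L₁ Y) = L₁ B := by
    intro g hg Y hY
    obtain ⟨Z, hZ⟩ : ∃ Z : Mp, Ψ Z = Aschbacher.cj g (L₁ Y) := ⟨Ψ.symm _, Ψ.apply_symm_apply _⟩
    have hcq : ∀ X ∈ quatSet F, Aschbacher.cj g (L₁ Y) * L₀ X = L₀ X * Aschbacher.cj g (L₁ Y) := by
      intro X hX
      obtain ⟨A, -, hA⟩ := himg0 g⁻¹ (H.inv_mem hg) X hX
      have hA' : L₀ X = Aschbacher.cj g (L₀ A) := by rw [← hA, Aschbacher.cj_self_inv]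
      rw [hA', ← map_mul, ← map_mul, hT01]
    have hall : ∀ X : M₂, Z * (X ⊗ₖ (1 : M₂)) = (X ⊗ₖ (1 : M₂)) * Z := by
      intro X
      have hX : X ∈ Algebra.adjoin F (quatSet F) := quatSet_adjoin hq ▸ Algebra.mem_top
      have hmem : L₀ X ∈ Subalgebra.centralizer F ({Aschbacher.cj g (L₁ Y)} : Set M₄) := by
        refine Algebra.adjoin_le (S := (Subalgebra.centralizer F ({Aschbacher.cj g (L₁ Y)} : Set M₄)).comap L₀)
          (fun X' hX' => ?_) hX
        rw [SetLike.mem_coe, Subalgebra.mem_comap, Subalgebra.mem_centralizer_iff]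
        rintro _ rfl
        exact hcq X' hX'
      rw [Subalgebra.mem_centralizer_iff] at hmem
      apply Ψ.injective
      rw [map_mul, map_mul, hZ, ← hL₀]
      exact hmem _ rfl
    obtain ⟨B, hB⟩ : ∃ B : M₂, Z = (1 : M₂) ⊗ₖ B := ⟨_, eq_one_kron hall⟩
    have hiso : Zᵀ * G * Z = G := hisoF Z (by
      rw [hZ]
      exact hisoS _ (by rw [hL₁]; exact hisoT _ (hiso1 Y hY.1)) g hg)
    refine ⟨B, ⟨?_, ?_⟩, by rw [← hZ, hL₁, hB]⟩
    · rw [hB, hG, ← Matrix.kroneckerMap_transpose, ← Matrix.mul_kronecker_mul, ← Matrix.mul_kronecker_mul, transpose_one,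
        one_mul, mul_one, mul_one] at hiso
      refine Matrix.ext fun k l => ?_
      have h := congrFun (congrFun hiso (1, k)) (0, l)
      simpa using h
    · have e1 : Matrix.trace (Ψ Z) = Matrix.trace (L₁ Y) := by
        rw [hZ, Aschbacher.cj_apply, Matrix.trace_units_conj]
      have e2 : ∀ W : M₂, Matrix.trace (L₁ W) = 2 * Matrix.trace W := fun W => by
        rw [hL₁, hΨ, AlgEquiv.trans_apply, Aschbacher.cj_apply, Matrix.trace_units_conj,
          show Matrix.trace (Matrix.reindexAlgEquiv F F e.symm ((1 : M₂) ⊗ₖ W)) = Matrix.trace ((1 : M₂) ⊗ₖ W) from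
            e.sum_comp fun p => ((1 : M₂) ⊗ₖ W) p p,
          Matrix.trace_kronecker, Matrix.trace_one, Fintype.card_fin, Nat.cast_ofNat]
      rw [hB, ← hL₁, e2, e2, hY.2, mul_zero] at e1
      exact (mul_eq_zero.mp e1).resolve_left h2
  obtain ⟨S, hS⟩ : ∃ S : Set M₄, S = L₀ '' quatSet F ∪ L₁ '' orthSet F := ⟨_, rfl⟩
  have hsiso : ∀ Z ∈ S, ∀ x y, sympForm 2 F (Z *ᵥ x) (Z *ᵥ y) = sympForm 2 F x y := by
    rw [hS]
    rintro _ (⟨X, hX, rfl⟩ | ⟨Y, hY, rfl⟩)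
    · rw [hL₀]; exact hisoT _ (hiso0 X hX)
    · rw [hL₁]; exact hisoT _ (hiso1 Y hY.1)
  have hsq : ∀ Z ∈ S, Z * Z = 1 ∨ Z * Z = -1 := by
    rw [hS]
    rintro _ (⟨X, hX, rfl⟩ | ⟨Y, hY, rfl⟩)
    · exact Or.inr (by rw [← map_mul, quatSet_sq hX, map_neg, map_one])
    · rcases orthSet_sq hq hY with h | h
      · exact Or.inl (by rw [← map_mul, h, map_one])
      · exact Or.inr (by rw [← map_mul, h, map_neg, map_one])
  have hcomm : ∀ Z ∈ S, ∀ Z' ∈ S, Z * Z' = Z' * Z ∨ Z * Z' = -(Z' * Z) := by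
    rw [hS]
    rintro _ (⟨X, hX, rfl⟩ | ⟨Y, hY, rfl⟩) _ (⟨X', hX', rfl⟩ | ⟨Y', hY', rfl⟩)
    · rcases quatSet_comm hq hX hX' with h | h
      · exact Or.inl (by rw [← map_mul, h, map_mul])
      · exact Or.inr (by rw [← map_mul, h, map_neg, map_mul])
    · exact Or.inl (hT01 X Y')
    · exact Or.inl (hT01 X' Y).symm
    · rcases orthSet_comm hq hY hY' with h | h
      · exact Or.inl (by rw [← map_mul, h, map_mul])
      · exact Or.inr (by rw [← map_mul, h, map_neg, map_mul])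
  have hfull : Algebra.adjoin F S = ⊤ := by
    have h0 : ∀ X, L₀ X ∈ Algebra.adjoin F S := fun X =>
      Algebra.adjoin_le (S := (Algebra.adjoin F S).comap L₀) (fun X' hX' => Algebra.subset_adjoin
        (hS ▸ Or.inl ⟨X', hX', rfl⟩)) (quatSet_adjoin hq ▸ Algebra.mem_top)
    have h1 : ∀ X, L₁ X ∈ Algebra.adjoin F S := fun X =>
      Algebra.adjoin_le (S := (Algebra.adjoin F S).comap L₁) (fun X' hX' => Algebra.subset_adjoin
        (hS ▸ Or.inr ⟨X', hX', rfl⟩)) (orthSet_adjoin hq ▸ Algebra.mem_top)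
    refine Algebra.eq_top_iff.mpr fun Z => ?_
    obtain ⟨W, rfl⟩ := Ψ.surjective Z
    rw [Matrix.matrix_eq_sum_single W, map_sum]
    refine Subalgebra.sum_mem _ fun p _ => ?_
    rw [map_sum]
    refine Subalgebra.sum_mem _ fun q _ => ?_
    obtain ⟨a, b⟩ := p
    obtain ⟨c, d⟩ := q
    rw [show Matrix.single (a, b) (c, d) (W (a, b) (c, d)) =
        ((Matrix.single a c (W (a, b) (c, d)) : M₂) ⊗ₖ (1 : M₂)) * ((1 : M₂) ⊗ₖ Matrix.single b d (1 : F)) by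
      rw [← Matrix.mul_kronecker_mul, mul_one, one_mul, Matrix.single_kronecker_single, mul_one],
      map_mul, ← hL₀, ← hL₁]
    exact Subalgebra.mul_mem _ (h0 _) (h1 _)
  have hinv : ∀ g ∈ H, ∀ Z ∈ S, Aschbacher.cj g Z ∈ S := by
    rw [hS]
    rintro g hg _ (⟨X, hX, rfl⟩ | ⟨Y, hY, rfl⟩)
    · obtain ⟨A, hA, e'⟩ := himg0 g hg X hX
      exact Or.inl ⟨A, hA, e'.symm⟩
    · obtain ⟨B, hB, e'⟩ := himg1 g hg Y hY
      exact Or.inr ⟨B, hB, e'.symm⟩
  obtain ⟨R, n, hn, hst, habs, hsim, hcard, hcen, hmin, hR⟩ := sp_sign_cases le_rfl hH Nat.prime_three (by decide) hq S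
    hsiso hsq hcomm hfull hinv
  obtain rfl : n = 2 := Nat.pow_right_injective (le_refl 2) (by simpa using hn.symm)
  exact ⟨R, hst, habs, hsim, by simpa using hcard, hcen, hmin, hR⟩

end CfsgLib.Classical22.Asch
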